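import Cfsg.Agent.FA.P4
import Cfsg.Agent.L.Comp
import Cfsg.Agent.SF.Fus

/-! Coprime action of a group of prime order: definitions (see `notes/fb_plan.md`). -/

set_option autoImplicit false
set_option linter.unusedSectionVars false

namespace Cfsg.Agent.FB

open Subgroup FT H1 FA
open scoped commutatorElement

universe u

variable {G : Type u} [Group G] [Finite G] {p r : ℕ}
  {H R A B C D K L M N O P Q S T U V W X Y : Subgroup G} {a b c d g t v w x y z : G}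

/-- the local hypotheses of the 2-local analysis (`FA.TH` without `uniq`, `t7`, `t9`) -/
structure TB (r : ℕ) (H R T Y E : Subgroup G) : Prop where
  hr : r.Prime
  r2 : r ≠ 2
  cR : ♯R = r
  nH : R ≤ 𝐍(H)
  cop : (♯R).Coprime ♯H
  simple : ∀ M ≤ H, H ≤ 𝐍(M) → R ≤ 𝐍(M) → M = ⊥ ∨ M = H
  syl : Syl 2 T H
  nT : R ≤ 𝐍(T)
  eY : ⁅T, R⁆ = Y
  ne : Y ≠ ⊥
  neT : T ≠ H
  eE : Y ⊓ 𝐂(R) = E
  cE : E ≤ 𝐂(Y)
  sq : ∀ y ∈ Y, y * y ∈ E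
  der : ⁅Y, Y⁆ ≤ E
  ea : ∀ e ∈ E, e * e = 1
  cx : ∀ X ≤ Y, X ≤ 𝐂(X) → R ≤ 𝐍(X) → ⁅X, R⁆ = X → X ≠ ⊥ →
    ♯X = (r - 1) ^ 2 ∧ Y ⊓ 𝐂(X) ≤ X ⊔ E

/-- the central quotient of the minimal counterexample -/
structure TG (p r : ℕ) (H R T Y E : Subgroup G) : Prop extends TB r H R T Y E where
  p2 : p ≠ 2
  cm : ⁅H, R⁆ = H
  a2 : ∀ q : ℕ, q.Prime → q ≠ p → q ≠ 2 → ∀ A ≤ H, IsPGroup q A → R ≤ 𝐍(A) → ⁅A, R⁆ = ⊥
  loc : ∀ L ≤ H, L ≠ H → R ≤ 𝐍(L) → IsPGroup p (Gp p ⁅L, R⁆)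
  t9 : ∀ c ∈ H ⊓ 𝐂(R) ⊓ 𝐍(Y), c ∈ 𝐂(E) → Odd (orderOf c) → c ∈ 𝐂(Y)
  t9' : E = ⊥ → H ⊓ 𝐂(R) ⊓ 𝐍(Y) ≤ 𝐂(Y)

/-- a unique maximal invariant subgroup above `Y` -/
structure TM (r : ℕ) (H R T Y E M J : Subgroup G) : Prop extends TB r H R T Y E where
  hM : M ≤ H
  neM : M ≠ H
  tM : T ≤ M
  nM : R ≤ 𝐍(M)
  max : ∀ L ≤ H, L ≠ H → R ≤ 𝐍(L) → Y ≤ L → L ≤ M
  nJ : J ⊴ M
  eJ : J ⊓ T = E
  ls : ∀ L ≤ H, L ≠ H → R ≤ 𝐍(L) → ∃ U S, U ⊴ L ∧ Odd ♯U ∧ S ≤ L ∧ IsPGroup 2 S ∧ R ≤ 𝐍(S) ∧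
    ⁅L, R⁆ ≤ U ⊔ S

/-- `YR`-invariant `p`-subgroups -/
structure QQ (p : ℕ) (H R Y Q : Subgroup G) : Prop where
  le : Q ≤ H
  pg : IsPGroup p Q
  nR : R ≤ 𝐍(Q)
  nY : Y ≤ 𝐍(Q)

/-- the join of the signalizers -/
def Qs (p : ℕ) (H R E : Subgroup G) : Subgroup G :=
  ⨆ e : {e : G // e ∈ E ∧ e ≠ 1}, Gp p ⁅H ⊓ 𝐂[(e : G)], R⁆

/-- a faithful irreducible module -/
structure MB (p r : ℕ) (H R V : Subgroup G) : Prop extends MF p r H R V where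
  p2 : p ≠ 2
  irr : ∀ W ≤ V, H ≤ 𝐍(W) → R ≤ 𝐍(W) → W = ⊥ ∨ W = V

/-- the minimal counterexample -/
structure MD (p r : ℕ) (H R V : Subgroup G) : Prop extends MB p r H R V where
  cm : ⁅H, R⁆ = H
  ih : ∀ L ≤ H, L ≠ H → R ≤ 𝐍(L) → PW p ⁅L, R⁆ = ⊥
  ne : PW p H ≠ ⊥

namespace MB

variable [hp : Fact p.Prime] (h : MB p r H R V)
include h

theorem fixA (hA : A ≤ H) (h1 : H ≤ 𝐍(A)) (h2 : R ≤ 𝐍(A)) (h0 : A ≠ ⊥) : V ⊓ 𝐂(A) = ⊥ :=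
  (h.irr _ inf_le_left (H2.le_normalizer_inf h.hV (H2.le_normalizer_centralizer h1))
    (H2.le_normalizer_inf h.nV (H2.le_normalizer_centralizer h2))).resolve_right
    fun e => h0 (h.bot hA (cent_symm (inf_eq_left.1 e)))
theorem Op (hA : A ≤ H) (h0 : IsPGroup p A) (h1 : H ≤ 𝐍(A)) (h2 : R ≤ 𝐍(A)) : A = ⊥ := by
  by_contra k
  obtain ⟨x, hx, h3, h4⟩ := exists_fix h.ab.isPGroup h0 (hA.trans h.hV) fun e =>
    k (h.bot hA (by rw [e, cent_bot]; exact le_top))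
  exact h4 (mem_bot.1 ((h.fixA hA h1 h2 k).le ⟨hx, h3⟩))
theorem Zp : PiG {p}ᶜ 𝐙(H) := by
  obtain ⟨S, hS⟩ := exists_syl p 𝐙(H)
  have k := nrm_of_comm (ctr_comm H) hS.le
  have e := hS.eq_of_le (core_isPGroup _) (le_pcore k hS.isPGroup) (core_le _ _)
  have := h.Op (hS.le.trans inf_le_left) hS.isPGroup
    (e ▸ le_normalizer_core _ (ctr_nrm H).norm) (e ▸ le_normalizer_core _ (le_normalizer_ctr h.nH))
  exact piG_of_Gp (eq_bot_iff.2 (Gp_le_iff.2 fun x hx ⟨j, hj⟩ => this ▸ e ▸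
    (zpowers_le.1 (le_pcore (nrm_of_comm (ctr_comm H) (zpowers_le.2 hx))
      (isPGroup_zpowers hj)))))
theorem ZR : 𝐙(H) ≤ 𝐂(R) :=
  h.A1 inf_le_left h.Zp (le_normalizer_ctr h.nH) (comm_iff_le_cent.1 (ctr_comm H))
theorem zfix (hz : z ∈ 𝐙(H)) (h1 : z ≠ 1) : V ⊓ 𝐂[z] = ⊥ :=
  cent_zpowers z ▸ h.fixA (zpowers_le.2 hz.1) ((cent_symm (zpowers_le.2 hz.2)).trans (cent_le_norm _))
    ((cent_symm (zpowers_le.2 (h.ZR hz))).trans (cent_le_norm _)) (by simpa using h1)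
theorem zuniq (hz : z ∈ 𝐙(H)) (h1 : z ≠ 1) (h2 : z * z = 1) (hw : w ∈ 𝐙(H)) (h3 : w ≠ 1)
    (h4 : w * w = 1) : w = z := by
  have := mem_bot.1 (h.faith.le ⟨mul_mem hw.1 hz.1, cent_of_inv
    (fun _ => inv_of_fix h.ab.le_cent (h.hV hw.1) (h4 ▸ one_mem _) (h.zfix hw h3))
    fun _ => inv_of_fix h.ab.le_cent (h.hV hz.1) (h2 ▸ one_mem _) (h.zfix hz h1)⟩)
  rw [eq_inv_of_mul_eq_one_left this, inv_eq_of_mul_eq_one_right h2]
theorem p'2 (h1 : IsPGroup 2 A) : PiG {p}ᶜ A := piG_compl_of_isPGroup_ne h1 h.p2.symm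

theorem EX (hQ : Q ≤ H) (h2 : IsPGroup 2 Q) (n : R ≤ 𝐍(Q)) (c : ⁅Q, R⁆ = Q) (d : ⁅Q, Q⁆ ≤ 𝐂(Q))
    (hN : N ≤ Q) (nN : Q ⊔ R ≤ 𝐍(N)) (h0 : N ≠ ⊥) (hX : X ≤ Q) (h3 : ⁅X, Q⁆ ≤ 𝐙(H)) :
    ∃ Z ≤ Q ⊓ 𝐂(X), 𝐙(Q) ≤ Z ∧ ¬ N ≤ ⁅Z, R⁆ ∧ Z.relIndex Q = (r - 1) ^ 2 := by
  obtain ⟨K, Z, k1, k2, k3, k4, k5⟩ := h.toMH.EX hQ (h.p'2 h2) n c d hN nN
    fun k => h0 (h.bot (hN.trans hQ) k)
  refine ⟨Z, fun y hy => ⟨((k3 y).1 hy).1, mem_cent_iff.2 fun x hx => ce1.1 (by_contra fun k =>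
    k2 _ (((k3 y).1 hy).2 x (hX hx)) (h.zfix (h3 (commutator_mem_commutator hx ((k3 y).1 hy).1))
      k))⟩, fun y hy => (k3 y).2 ⟨hy.1, fun x hx => ?_⟩, fun k => k1 (k.trans k4), k5⟩
  rw [ce1.2 (cm hy.2 hx)]; exact one_mem _
theorem cx0 (hX : X ≤ H) (h2 : IsPGroup 2 X) (n : R ≤ 𝐍(X)) (c : ⁅X, R⁆ = X) (h0 : X ≠ ⊥)
    (d : ⁅X, X⁆ ≤ 𝐙(H)) : X ⊓ 𝐙(H) = 𝐙(X) ∧ 𝐙(H).relIndex X = (r - 1) ^ 2 := by
  obtain ⟨Z, z1, z2, -, z3⟩ := h.EX hX h2 n c (d.trans (inf_le_right.trans (cent_anti hX))) le_rfl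
    (sup_le le_normalizer n) h0 le_rfl d
  have e : X ⊓ 𝐙(H) = 𝐙(X) := le_antisymm (inf_le_inf_left _ (inf_le_right.trans (cent_anti hX)))
    (le_inf inf_le_left ((h.A4 h.p2 hX h2 n c).1.ge.trans
      ((H2.centralizer_le_commutator_of_commutator_eq n (h.copL hX) c).trans d)))
  exact ⟨e, by rw [← inf_relIndex_left, e, ← z3, le_antisymm z1 z2]⟩
theorem cx1 (hY : Y ≤ H) (h2 : IsPGroup 2 Y) (d : ⁅Y, Y⁆ ≤ 𝐂(Y)) (hC : C ≤ Y) (nC : R ≤ 𝐍(C))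
    (hX : X ≤ C) (n : R ≤ 𝐍(X)) (c : ⁅X, R⁆ = X) (h0 : X ≠ ⊥) (h3 : ⁅X, C⁆ ≤ 𝐙(H)) :
    C ≤ X ⊔ Y ⊓ 𝐂(R) := by
  have q1 := commutator_le_left' nC
  have q2 := right_le_normalizer_commutator C R
  have q3 : X ≤ ⁅C, R⁆ := c.ge.trans (commutator_mono hX le_rfl)
  have q4 := (q1.trans hC).trans hY
  have ex := fun N hN nN h0 => h.EX (N := N) q4 (isPGroup_of_le (q1.trans hC) h2) q2
    (h.rr (hC.trans hY) nC) ((commutator_mono (q1.trans hC) (q1.trans hC)).trans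
      (d.trans (cent_anti (q1.trans hC)))) hN nN h0 q3 ((commutator_mono le_rfl q1).trans h3)
  obtain ⟨x1, x2⟩ := h.cx0 (q3.trans q4) (isPGroup_of_le (hX.trans hC) h2) n c h0
    ((commutator_mono le_rfl hX).trans h3)
  suffices k : ⁅C, R⁆ ≤ X ⊔ Y ⊓ 𝐂(R) from (H2.centralizer_sup_commutator nC (h.copL (hC.trans hY))
    (.inl h.solv)).ge.trans (sup_le ((inf_le_inf_right _ hC).trans le_sup_right) k)
  replace q1 := q1.trans hC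
  generalize ⁅C, R⁆ = Q at *
  have d1 : (Q ⊓ 𝐂(X)).relIndex X = (r - 1) ^ 2 := by
    rw [← x2, ← inf_relIndex_left X 𝐙(H), x1, ← inf_relIndex_left, ← inf_assoc, inf_eq_left.2 q3]
  have d2 : (Q ⊓ 𝐂(X)).relIndex Q ≤ (Q ⊓ 𝐂(X)).relIndex X := by
    obtain ⟨Z, z1, -, -, z3⟩ := ex Q le_rfl (sup_le le_normalizer q2) (ne_bot_of_le q3 h0)
    rw [d1, ← z3]; exact relIndex_le_of_le_left z1 (relIndex_pos _ _).ne'
  have d3 : Q ≤ X ⊔ Q ⊓ 𝐂(X) := fun x hx =>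
    let ⟨_, a, _, b, e⟩ := BS.le_sup_of_relIndex_le q3 d2 hx
    e ▸ mul_mem (mem_sup_left a) (mem_sup_right b)
  have d4 := H2.le_normalizer_inf q2 (H2.le_normalizer_centralizer n)
  have d5 := commutator_le_left' d4
  refine d3.trans (sup_le_sup_left (le_inf (inf_le_left.trans q1) (le_cent_iff_commutator.2
    (by_contra fun k => ?_))) _)
  obtain ⟨Z, z1, -, z2, z3⟩ := ex _ (d5.trans inf_le_left) (sup_le (d3.trans (sup_le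
    ((cent_symm (d5.trans inf_le_right)).trans (cent_le_norm _)) (left_le_normalizer_commutator _ _)))
    (right_le_normalizer_commutator _ _)) k
  refine z2 (commutator_mono (relIndex_eq_one.1 (Nat.eq_of_mul_eq_mul_right
    (relIndex_pos (Q ⊓ 𝐂(X)) Q) ?_)) le_rfl)
  rw [relIndex_mul_relIndex _ _ _ z1 inf_le_left, z3, one_mul, ← d1]
  exact le_antisymm (BS.relIndex_le_of_le q3) d2

theorem t9 (hY : Y ≤ H) (h2 : IsPGroup 2 Y) (n : R ≤ 𝐍(Y)) (e : ⁅Y, R⁆ = Y) (h0 : Y ≠ ⊥)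
    (hE : Y ⊓ 𝐂(R) ≤ 𝐙(H)) (hc : c ∈ H ⊓ 𝐂(R) ⊓ 𝐍(Y)) (hy : y ∈ Y) : ⁅y, c⁆ ∈ 𝐙(H) := by
  obtain ⟨a1, a2, a3, a4⟩ := h.A4 h.p2 hY h2 n e
  rw [a1] at hE
  obtain ⟨x1, x2⟩ := h.cx0 hY h2 n e h0 (a2.trans hE)
  have nR : ¬ Y ≤ 𝐂(R) := fun k => h0 (e.symm.trans (le_cent_iff_commutator.1 k))
  have irr : ∀ X ≤ Y, R ≤ 𝐍(X) → 𝐙(Y) ≤ X → ¬ X ≤ 𝐙(Y) → Y ≤ X := fun X i1 i2 i3 i4 y hy => by
    have i5 := commutator_le_left' i2
    have i6 := i5.trans i1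
    obtain ⟨t, ht, z, hz, rfl⟩ := BS.le_sup_of_relIndex_le i6 (x2.trans (h.cx0 (i6.trans hY)
      (isPGroup_of_le i6 h2) (right_le_normalizer_commutator _ _) (h.rr (i1.trans hY) i2)
      (fun k => i4 ((le_inf i1 (le_cent_iff_commutator.2 k)).trans a1.le))
      ((commutator_mono i6 i6).trans (a2.trans hE))).2.symm).le hy
    exact mul_mem (i5 ht) (i3 (x1.le ⟨(mul_mem_cancel_left (i6 ht)).1 hy, hz⟩))
  have a5 : ⁅Y, Y⁆ = 𝐙(Y) := le_antisymm a2 (a1.ge.trans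
    (H2.centralizer_le_commutator_of_commutator_eq n (h.copL hY) e))
  have a6 : ♯(𝐙(Y) : Subgroup G) = 2 := by
    obtain ⟨z, hz, z1⟩ := exists_ne_one_of_ne_bot fun k => nR (h.A1 hY (h.p'2 h2) n
      (le_cent_iff_commutator.2 (a5.trans k)))
    rw [← orderOf_eq_prime (p := 2) (by rw [pow_two, a4 z hz]) z1, ← Nat.card_zpowers]
    congr 2
    refine SetLike.ext'_iff.1 (le_antisymm (fun w hw => ?_) (zpowers_le.2 hz))
    by_cases w1 : w = 1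
    · exact w1 ▸ one_mem _
    · exact h.zuniq (hE hz) z1 (a4 z hz) (hE hw) w1 (a4 w hw) ▸ mem_zpowers z
  obtain ⟨a, b, rfl, ha, hb, pa, pb⟩ := exists_piPart {2} c
  replace ha := zpowers_le.2 hc ha
  replace hb := zpowers_le.2 hc hb
  have nE := (ctr_nrm Y).norm
  have k1 : Y ≤ Y ⊓ Kc 𝐙(Y) a := by
    have na : a ∈ 𝐍((𝐙(Y) : Subgroup G)) := le_normalizer_ctr le_rfl ha.2
    obtain ⟨_, hz, z1, z2⟩ := exists_fix (isPGroup_bar h2 𝐙(Y)) (isPGroup_bar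
      (piG_zpowers.2 pa).isPGroup 𝐙(Y)) (bar_le_normalizer _ (zpowers_le.2 ha.2))
      fun k => nR (((bar_eq_bot_iff nE).1 k).trans (a1.ge.trans inf_le_right))
    obtain ⟨w, hw, rfl⟩ := (mem_bar' nE).1 hz
    refine irr _ inf_le_left (fun s hs => mem_normalizer_of_conj_mem fun x hx =>
      ⟨cjm (n hs) hx.1, (mem_Kc (nE (cjm (n hs) hx.1)) na).2 ?_⟩) (le_inf inf_le_left (le_Kc _ _))
      fun k => z2 (coset_eq_one (k ⟨hw, mem_unbar.2 ⟨nE hw, mem_cent1_iff.2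
        (cm z1 (coset_mem_bar _ (mem_zpowers a))).symm⟩⟩))
    have := cjm (le_normalizer_ctr n hs) ((mem_Kc (nE hx.1) na).1 hx.2)
    rwa [conjugate_commutatorElement, cm ha.1.2 hs, mul_inv_cancel_right] at this
  have k2 : b ∈ 𝐂(Y) := by
    have b1 : zpowers b ≤ H := zpowers_le.2 hb.1.1
    have b2 : R ≤ 𝐂(zpowers b) := cent_symm (zpowers_le.2 hb.1.2)
    have b3 : zpowers b ≤ 𝐍(Y) := zpowers_le.2 hb.2
    have b4 : PiG {2}ᶜ (zpowers b) := piG_zpowers.2 pb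
    have b5 := (h.copL b1).symm
    have b6 : IsCyclic (zpowers b) := inferInstance
    have b7 := comm_iff_le_cent.1 (comm_of_isCyclic b6)
    suffices k : zpowers b ≤ zpowers b ⊓ 𝐂(Y) from (k (mem_zpowers b)).2
    generalize zpowers b = B at *
    have dp := dp_sup b2 (inf_eq_bot_of_coprime' b5)
    have cy := dp.isCyclic b6 (isCyclic_of_card_prime h.pr) b5
    have c1 : ∀ {A : Subgroup G}, A ≤ 𝐂(B) → A ≤ 𝐍((B ⊓ 𝐂(Y) : Subgroup G)) := fun k =>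
      (k.trans (cent_anti inf_le_left)).trans (cent_le_norm _)
    have c2 : Y ≤ 𝐍((B ⊓ 𝐂(Y) : Subgroup G)) := (cent_symm inf_le_right).trans (cent_le_norm _)
    have c3 : Y ⊓ (B ⊓ 𝐂(Y)) = ⊥ := PiG.inf_eq_bot (π := {2}) (piG_of_isPGroup h2 rfl)
      (b4.of_le inf_le_left)
    have c4 := sup_le (c1 b7) (c1 b2)
    have c5 := bar_cent_of_inf c2 c2 le_normalizer c3
    obtain ⟨m, hm⟩ := IsPGroup.iff_card.1 h2
    have c6 : ♯Y = 2 * (r - 1) ^ 2 := by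
      rw [← card_mul_relIndex (inf_le_left : 𝐙(Y) ≤ Y), a6, ← x2, ← x1, inf_relIndex_left]
    obtain ⟨k, -, hk⟩ := (Nat.dvd_prime_pow Nat.prime_two).1
      (hm ▸ c6 ▸ (dvd_pow_self _ two_ne_zero).mul_left 2 : r - 1 ∣ 2 ^ m)
    have c7 := extraspecial_sdprod_cycle_dvd (p := 2) (n := k) (P := bar (B ⊓ 𝐂(Y)) Y)
      ⟨isPGroup_bar h2 _, by rw [c5, ← bar_commutator c2 c2, a5], by
        rw [c5, ← bar_phi h2 c2, le_antisymm ((phi_le_iff h2).2 ⟨a2, by simpa [pow_two] using a3⟩)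
          (a5.ge.trans (der_le_phi h2))], by
        rw [c5, card_bar_of_inf (inf_le_left.trans c2) (eq_bot_iff.2 ((inf_le_inf_right _
          inf_le_left).trans c3.le)), a6]⟩
      (by rw [card_bar_of_inf c2 c3, c6, hk]; ring) (bar_le_normalizer _ (sup_le b3 n))
      (isCyclic_bar cy _) ((b4.sup ((piG_of_card_prime h.hr h.cR).2 h.r2)
        (b2.trans (cent_le_norm _))).bar _) fun x hx x1 => by
        obtain ⟨d, hd, rfl⟩ := (mem_bar' c4).1 hx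
        have d1 := zpowers_le.2 hd
        rw [c5, ← cent_zpowers, ← bar_zpowers (c4 hd), bar_cent_of_inf c2 (d1.trans c4)
          (d1.trans (sup_le b3 n)) c3]
        have d2 : 𝐙(Y) ≤ Y ⊓ 𝐂(zpowers d) := le_inf inf_le_left (cent_symm (d1.trans (sup_le
          (b1.trans (cent_symm (hE.trans inf_le_right))) (cent_symm (a1.ge.trans inf_le_right)))))
        refine congrArg _ (le_antisymm (by_contra fun k => x1 (coset_eq_one ?_)) d2)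
        have d3 := cent_symm ((irr _ inf_le_left (H2.le_normalizer_inf n ((le_sup_right.trans
          ((comm_iff_le_cent.1 (comm_of_isCyclic cy)).trans (cent_anti d1))).trans le_normalizer))
          d2 k).trans inf_le_right) (mem_zpowers d)
        obtain ⟨s, hs, t, ht, rfl⟩ := dp.mem_iff.1 hd
        have d4 := pow_mem d3 ♯B
        rw [(show Commute s t from cm (b2 ht) hs).mul_pow, pow_card_eq_one'' hs, one_mul] at d4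
        have d5 := mem_bot.1 (((inf_eq_bot_or_le_of_card_prime h.pr _).resolve_right
          fun k => nR (cent_symm k)).le ⟨pow_mem ht _, d4⟩)
        rw [(pow_eq_one_iff_of_coprime b5).1 ⟨d5, pow_card_eq_one'' ht⟩, mul_one] at d3 ⊢
        exact ⟨hs, d3⟩
    have c8 : r ∣ ♯(bar (B ⊓ 𝐂(Y)) (B ⊔ R)) := by
      rw [← h.cR, ← card_bar_of_coprime (c1 b2) (h.copL (inf_le_left.trans b1))]
      exact card_dvd_of_le' (bar_mono _ le_sup_right)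
    have c9 := h.hr.two_le
    have c10 := h.r2
    rcases c7 with c7 | c7
    · refine (bar_eq_bot_iff (c1 b7)).1 (card_eq_one_iff.1 (Nat.eq_one_of_dvd_coprimes
        (h.cR ▸ b5) (card_bar_dvd _ _) ((card_dvd_of_le' (bar_mono _ le_sup_left)).trans
          (c7.trans (dvd_of_eq (by omega))))))
    · have := Nat.le_of_dvd (by omega) (c8.trans c7)
      omega
  have k3 := (mem_Kc (nE hy) (le_normalizer_ctr le_rfl ha.2)).1 (k1 hy).2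
  have : ⁅y, a * b⁆ = ⁅y, a⁆ := by
    calc ⁅y, a * b⁆ = y * a * (b * y⁻¹) * b⁻¹ * a⁻¹ := by simp only [commutatorElement_def]; group
      _ = _ := by rw [← cm k2 (inv_mem hy)]; simp only [commutatorElement_def]; group
  exact this ▸ hE k3

end MB

end Cfsg.Agent.FB
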