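import Cfsg.Agent.FB.Defs

/-! The structure of `[L, R]` for proper invariant subgroups `L`. -/

set_option autoImplicit false
set_option linter.unusedSectionVars false

namespace Cfsg.Agent.FB

open Subgroup FT H1 FA
open scoped commutatorElement

universe u

variable {G : Type u} [Group G] [Finite G] {p r : ℕ} [hp : Fact p.Prime]
  {H R T Y E M J A B D K L N Q S V X : Subgroup G} {c g v : G}

namespace G1

theorem solv (h : TG p r H R T Y E) : Group.IsSolvable R := solv_prime h.hr h.cR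
theorem copL (h : TG p r H R T Y E) (hL : L ≤ H) : (♯R).Coprime ♯L :=
  h.cop.coprime_dvd_right (card_dvd_of_le' hL)
theorem YT (h : TG p r H R T Y E) : Y ≤ T := h.eY ▸ commutator_le_left' h.nT
theorem YH (h : TG p r H R T Y E) : Y ≤ H := (YT h).trans h.syl.le
theorem Y2 (h : TG p r H R T Y E) : IsPGroup 2 Y := isPGroup_of_le (YT h) h.syl.isPGroup
theorem nY (h : TG p r H R T Y E) : R ≤ 𝐍(Y) := h.eY ▸ right_le_normalizer_commutator T R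
theorem rr (h : TG p r H R T Y E) (hL : L ≤ H) (hn : R ≤ 𝐍(L)) : ⁅⁅L, R⁆, R⁆ = ⁅L, R⁆ :=
  H2.commutator_commutator_eq hn (copL h hL)
theorem YR (h : TG p r H R T Y E) : ⁅Y, R⁆ = Y := h.eY ▸ rr h h.syl.le h.nT
theorem inf2 (h : TG p r H R T Y E) (h1 : IsPGroup p A) : A ⊓ Y = ⊥ :=
  inf_eq_bot_of_coprime' (coprime_of_isPGroup h1 (piG_compl_of_isPGroup_ne (Y2 h) h.p2.symm))
theorem idx' (h : TG p r H R T Y E) (hK : K ≤ H) (n : R ≤ 𝐍(K)) (hL : L ≤ K) (n' : R ≤ 𝐍(L))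
    (h1 : ∃ P, Syl p P K ∧ R ≤ 𝐍(P) ∧ ⁅P, R⁆ ≤ L) (h2 : ∃ P, Syl 2 P K ∧ R ≤ 𝐍(P) ∧ ⁅P, R⁆ ≤ L) :
    ⁅K, R⁆ = ⁅L, R⁆ := FA.idx n (copL h hK) (solv h) hL n' fun q hq => by
  by_cases e : q = p
  · subst e; exact h1
  by_cases e2 : q = 2
  · subst e2; exact h2
  obtain ⟨P, h3, h4⟩ := exists_invariant_syl q n (copL h hK) (.inl (solv h))
  exact ⟨P, h3, h4, (h.a2 q hq.out e e2 P (h3.le.trans hK) h3.isPGroup h4).le.trans bot_le⟩
theorem nU : L ≤ 𝐍(Gp p ⁅L, R⁆) := n_Gp (left_le_normalizer_commutator L R)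
theorem nU' : R ≤ 𝐍(Gp p ⁅L, R⁆) := n_Gp (right_le_normalizer_commutator L R)
theorem UL (h3 : R ≤ 𝐍(L)) : Gp p ⁅L, R⁆ ≤ L := Gp_le.trans (commutator_le_left' h3)
theorem PU (h1 : IsPGroup p A) (h2 : A ≤ L) (h3 : R ≤ 𝐍(A)) : ⁅A, R⁆ ≤ Gp p ⁅L, R⁆ :=
  le_Gp (isPGroup_of_le (commutator_le_left' h3) h1) (commutator_mono h2 le_rfl)

end G1

open G1

theorem LS (h : TG p r H R T Y E) (h1 : L ≤ H) (h2 : L ≠ H) (h3 : R ≤ 𝐍(L)) (hS : Syl 2 S L)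
    (h4 : R ≤ 𝐍(S)) : ⁅L, R⁆ = Gp p ⁅L, R⁆ ⊔ ⁅S, R⁆ := by
  refine le_antisymm ?_ (sup_le Gp_le (commutator_mono hS.le le_rfl))
  obtain ⟨P, p1, p2⟩ := exists_invariant_syl p h3 (copL h h1) (.inl (solv h))
  have k := idx' h h1 h3 (sup_le (UL (p := p) h3) hS.le) (H2.le_normalizer_sup nU' h4)
    ⟨P, p1, p2, (PU p1.isPGroup p1.le p2).trans le_sup_left⟩
    ⟨S, hS, h4, (commutator_le_left' h4).trans le_sup_right⟩
  refine k.le.trans (H2.commutator_sup_left_le (le_sup_left.trans le_normalizer)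
    (H2.le_normalizer_sup (hS.le.trans nU) (left_le_normalizer_commutator _ _))
    ((commutator_le_left' nU').trans le_sup_left) le_sup_right)

theorem LY (h : TG p r H R T Y E) (h1 : L ≤ H) (h2 : L ≠ H) (h3 : R ≤ 𝐍(L)) (h4 : Y ≤ L) :
    ⁅L, R⁆ = Gp p ⁅L, R⁆ ⊔ Y := by
  obtain ⟨S, s1, s2, s3⟩ := exists_invariant_syl_ge h3 (copL h h1) (.inl (solv h)) (Y2 h) h4 (nY h)
  obtain ⟨T1, t1, t2, t3⟩ := exists_invariant_syl_ge h.nH h.cop (.inl (solv h)) s1.isPGroup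
    (s1.le.trans h1) s3
  obtain ⟨d, hd, e⟩ := H2.exists_centralizer_conj_sylow h.nH h.cop (.inl (solv h)) h.syl.le
    h.syl.isPGroup h.syl.not_dvd h.nT t1.le t1.isPGroup t1.not_dvd t3
  have k : Y = ⁅S, R⁆ := by
    refine eq_of_le_of_card_le ((YR h).ge.trans (commutator_mono s2 le_rfl)) ?_
    rw [← h.eY, ← card_cj d ⁅T, R⁆, cj_commutator, show cj d T = T1 from e,
      cj_eq_iff_mem_normalizer.2 (cent_le_norm _ hd.2)]
    exact card_le_of_le' (commutator_mono t2 le_rfl)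
  rw [k]
  exact LS h h1 h2 h3 s1 s3

theorem UY (h : TG p r H R T Y E) (h1 : L ≤ H) (h2 : L ≠ H) (h3 : R ≤ 𝐍(L)) (h4 : Y ≤ L) :
    ⁅Gp p ⁅L, R⁆, Y ⊔ R⁆ = Gp p ⁅L, R⁆ := by
  have u1 := h.loc L h1 h2 h3
  have u2 : Y ⊔ R ≤ 𝐍(Gp p ⁅L, R⁆) := sup_le (h4.trans nU) nU'
  have u3 := LY h h1 h2 h3 h4
  have u4 := rr h h1 h3
  have u5 : Gp p ⁅L, R⁆ ≤ ⁅L, R⁆ := Gp_le
  generalize Gp p ⁅L, R⁆ = U at *
  have a1 := commutator_le_left' u2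
  have a2 := left_le_normalizer_commutator U (Y ⊔ R)
  have a3 := right_le_normalizer_commutator U (Y ⊔ R)
  have a4 : ⁅U, R⁆ ≤ ⁅U, Y ⊔ R⁆ := commutator_mono le_rfl le_sup_right
  have a5 : ⁅Y, U⁆ ≤ ⁅U, Y ⊔ R⁆ := (commutator_comm _ _).le.trans
    (commutator_mono le_rfl le_sup_left)
  generalize ⁅U, Y ⊔ R⁆ = U1 at *
  refine le_antisymm a1 ?_
  have b1 : U ≤ 𝐍((U1 ⊔ Y : Subgroup G)) := le_normalizer_of_commutator_le
    (H2.commutator_sup_left_le (le_sup_left.trans le_normalizer) (le_sup_right.trans le_normalizer)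
      ((commutator_le_left' a2).trans le_sup_left) (a5.trans le_sup_left))
  have b2 : U ≤ U1 ⊔ Y := by
    refine u5.trans (u4.ge.trans ?_)
    rw [u3]
    exact H2.commutator_sup_left_le b1 (le_sup_right.trans le_normalizer) (a4.trans le_sup_left)
      ((YR h).le.trans le_sup_right)
  have b3 := inf_sup_of_le (H := U) (B := Y) a1 (.inr (le_sup_left.trans a3))
  rw [inf2 h u1, sup_bot_eq] at b3
  exact (le_inf le_rfl b2).trans b3.le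

theorem NP (h : TG p r H R T Y E) (hQ : QQ p H R Y Q) (h0 : Q ≠ ⊥)
    (hm : ∀ Q', QQ p H R Y Q' → Q ≤ Q' → Q' ≤ Q) :
    ∃ c ∈ H ⊓ 𝐂(R) ⊓ 𝐍(Y) ⊓ 𝐍(Q), Odd (orderOf c) ∧ c ∉ 𝐂(E) := by
  by_contra! hc
  have n1 : H ⊓ 𝐍(Q) ≠ H := fun e => (h.simple Q hQ.le (e.ge.trans inf_le_right) hQ.nR).elim h0
    fun e1 => h.ne ((inf_eq_right.2 (e1 ▸ YH h)).symm.trans (inf2 h hQ.pg))
  have n2 : R ≤ 𝐍((H ⊓ 𝐍(Q) : Subgroup G)) :=
    H2.le_normalizer_inf h.nH (H2.le_normalizer_normalizer hQ.nR)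
  have n3 : Y ≤ H ⊓ 𝐍(Q) := le_inf (YH h) hQ.nY
  have n4 : Q ≤ H ⊓ 𝐍(Q) := le_inf hQ.le le_normalizer
  have n5 : H ⊓ 𝐍(Q) ≤ H := inf_le_left
  have n6 : H ⊓ 𝐍(Q) ≤ 𝐍(Q) := inf_le_right
  have fin : Syl p Q (H ⊓ 𝐍(Q)) → Syl p Q H := Syl.of_normalizer
  generalize H ⊓ 𝐍(Q) = N at *
  have add : ∀ A ≤ N, IsPGroup p A → R ≤ 𝐍(A) → Y ≤ 𝐍(A) → A ≤ Q := fun A a b c d =>
    le_sup_left.trans (hm _ ⟨sup_le (a.trans n5) hQ.le, isPGroup_sup b hQ.pg (a.trans n6),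
      H2.le_normalizer_sup c hQ.nR, H2.le_normalizer_sup d hQ.nY⟩ le_sup_right)
  have u1 : Gp p ⁅N, R⁆ ≤ Q := add _ (UL n2) (h.loc N n5 n1 n2) nU' (n3.trans nU)
  have u2 : Y ⊔ Q = ⁅N, R⁆ ⊔ Q := by
    rw [LY h n5 n1 n2 n3, sup_right_comm, sup_eq_right.2 u1, sup_comm]
  have u3 : (Y ⊔ Q) ⊴ N := ⟨sup_le n3 n4, u2 ▸ H2.le_normalizer_sup
    (left_le_normalizer_commutator _ _) n6⟩
  have u4 : Syl 2 Y (Y ⊔ Q) := (Syl.refl (Y2 h)).trans le_sup_left fun k => by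
    have k1 : Y.relIndex (Y ⊔ Q) ∣ ♯Q := by
      have e1 := card_mul_relIndex (le_sup_left : Y ≤ Y ⊔ Q)
      have e2 := card_mul_relIndex (le_sup_right : Q ≤ Y ⊔ Q)
      rw [H2.relIndex_sup_of_le_normalizer hQ.nY, ← inf_relIndex_right, inf2 h hQ.pg,
        relIndex_bot_left, ← e1, mul_comm] at e2
      exact dvd_of_eq (Nat.eq_of_mul_eq_mul_left (card_pos' Y) e2).symm
    exact piG_compl_singleton.1 (piG_compl_of_isPGroup_ne hQ.pg h.p2) (k.trans k1)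
  have u5 := u4.frattini' u3
  have d1 : R ≤ 𝐍((N ⊓ 𝐍(Y) : Subgroup G)) :=
    H2.le_normalizer_inf n2 (H2.le_normalizer_normalizer (nY h))
  have d2 : (N ⊓ 𝐍(Y)) ⊔ Q = N := le_antisymm (sup_le inf_le_left n4) (u5.ge.trans
    (sup_le (sup_le ((le_inf n3 le_normalizer).trans le_sup_left) le_sup_right) le_sup_left))
  obtain ⟨P, p1, p2⟩ := exists_invariant_syl p d1 (copL h (inf_le_left.trans n5)) (.inl (solv h))
  have p3 : P ≤ N := p1.le.trans inf_le_left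
  have p4 : P ⊓ 𝐂(R) ≤ 𝐂(Y) := fun c k => by
    have o : Odd (orderOf c) := by
      obtain ⟨j, hj⟩ := isPGroup_iff_mem.1 p1.isPGroup c k.1
      exact ((hp.out.odd_of_ne_two h.p2).pow (n := j)).of_dvd_nat (orderOf_dvd_of_pow_eq_one hj)
    exact h.t9 c ⟨⟨n5 (p3 k.1), k.2⟩, (p1.le k.1).2⟩
      (hc c ⟨⟨⟨n5 (p3 k.1), k.2⟩, (p1.le k.1).2⟩, n6 (p3 k.1)⟩ o) o
  have p5 : P ≤ Q := (H2.centralizer_sup_commutator p2 (copL h (p3.trans n5))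
    (.inl (solv h))).ge.trans (sup_le (add _ (inf_le_left.trans p3)
      (isPGroup_of_le inf_le_left p1.isPGroup) ((cent_symm inf_le_right).trans (cent_le_norm _))
      ((cent_symm p4).trans (cent_le_norm _))) ((PU p1.isPGroup p3 p2).trans u1))
  have s1 : Syl p Q N := ⟨n4, hQ.pg, fun k => p1.not_dvd (by
    rw [← d2, H2.relIndex_sup_of_le_normalizer (inf_le_left.trans n6)] at k
    exact k.trans (relIndex_dvd_of_le_left _ p5))⟩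
  have k := idx' h le_rfl h.nH n5 n2 ⟨Q, fin s1, hQ.nR, (commutator_le_left' hQ.nR).trans n4⟩
    ⟨T, h.syl, h.nT, h.eY.le.trans n3⟩
  exact n1 (le_antisymm n5 (h.cm.ge.trans (k.le.trans (commutator_le_left' n2))))

end Cfsg.Agent.FB
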