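import Cfsg.Agent.FB.G1
import Cfsg.Agent.AG.R2b

/-! The join of the signalizers is a `p`-group. -/

set_option autoImplicit false
set_option linter.unusedSectionVars false

namespace Cfsg.Agent.FB

open Subgroup FT H1 FA
open scoped commutatorElement

universe u

variable {G : Type u} [Group G] [Finite G] {p r : ℕ} [hp : Fact p.Prime]
  {H R T Y E A L Q U X : Subgroup G} {c e f g v : G}

namespace G2

theorem n_iSup {ι : Sort*} {F : ι → Subgroup G} (h : ∀ i, A ≤ 𝐍(F i)) :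
    A ≤ 𝐍((⨆ i, F i : Subgroup G)) := fun g hg =>
  mem_normalizer_of_cj_le (cj_le_iff_le_cj_inv.2 (iSup_le fun i => cj_le_iff_le_cj_inv.1
    ((cj_eq_iff_mem_normalizer.2 (h i hg)).le.trans (le_iSup F i))))

theorem four (hc : c ∈ 𝐍(E)) (ho : Odd (orderOf c)) (h : c ∉ 𝐂(E)) :
    4 ≤ ♯E ∧ (♯E ≤ 4 → ∃ v, ∀ x ∈ E, x ≠ 1 → ∃ g ∈ zpowers c, x = g * v * g⁻¹) := by
  obtain ⟨v, hv, k⟩ : ∃ v ∈ E, c ∉ 𝐂[v] := by
    by_contra k
    push Not at k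
    exact h (mem_cent_iff.2 fun a ha => (mem_cent1_iff.1 (k a ha)).symm)
  have k1 : v ≠ 1 := fun e => k (by rw [e, cent1_one]; trivial)
  have k2 : v ≠ c * v * c⁻¹ := fun e => k (mem_cent1_iff.2 (mul_inv_eq_iff_eq_mul.1 e.symm))
  have k3 : v ≠ c * (c * v * c⁻¹) * c⁻¹ := fun e => k (AG.mem_of_sq_mem ho (mem_cent1_iff.2 (by
    rw [pow_two]; nth_rw 2 [e]; group)))
  have k4 : c * v * c⁻¹ ≠ c * (c * v * c⁻¹) * c⁻¹ := fun e => k2 (by simpa using e)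
  have k5 : (1 : G) ≠ c * v * c⁻¹ := fun e => k1 (conj_eq_one_iff.1 e.symm)
  have k6 : (1 : G) ≠ c * (c * v * c⁻¹) * c⁻¹ := fun e => k5 (conj_eq_one_iff.1 e.symm).symm
  have s1 : ({1, v, c * v * c⁻¹, c * (c * v * c⁻¹) * c⁻¹} : Set G).ncard = 4 := by
    rw [Set.ncard_insert_of_notMem (by simp only [Set.mem_insert_iff, Set.mem_singleton_iff]; tauto),
      Set.ncard_insert_of_notMem (by simp only [Set.mem_insert_iff, Set.mem_singleton_iff]; tauto),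
      Set.ncard_pair k4]
  have s2 : ({1, v, c * v * c⁻¹, c * (c * v * c⁻¹) * c⁻¹} : Set G) ⊆ E := by
    rintro x (rfl | rfl | rfl | rfl)
    exacts [one_mem _, hv, cjm hc hv, cjm hc (cjm hc hv)]
  have s3 : ♯E = (E : Set G).ncard := (Nat.card_coe_set_eq _)
  refine ⟨s3 ▸ s1 ▸ Set.ncard_le_ncard s2, fun h4 => ⟨v, fun x hx x1 => ?_⟩⟩
  have := (Set.eq_of_subset_of_ncard_le s2 (by rw [s1, ← s3]; exact h4)).ge hx
  rcases this with rfl | rfl | rfl | rfl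
  · exact absurd rfl x1
  · exact ⟨1, one_mem _, by group⟩
  · exact ⟨c, mem_zpowers c, rfl⟩
  · exact ⟨c * c, mul_mem (mem_zpowers c) (mem_zpowers c), by group⟩

/-- the signalizer -/
abbrev th (p : ℕ) (H R : Subgroup G) (e : G) : Subgroup G := Gp p ⁅H ⊓ 𝐂[e], R⁆

theorem exmax (hU : QQ p H R Y U) : ∃ Q, QQ p H R Y Q ∧ U ≤ Q ∧
    ∀ Q', QQ p H R Y Q' → Q ≤ Q' → Q' ≤ Q := by
  obtain ⟨Q, h1, h2⟩ := Finite.exists_le_maximal (p := QQ p H R Y) hU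
  exact ⟨Q, h2.1, h1, fun Q' a b => h2.2 a b⟩

variable (h : TG p r H R T Y E)
include h

theorem copL (hL : L ≤ H) : (♯R).Coprime ♯L := h.cop.coprime_dvd_right (card_dvd_of_le' hL)
theorem YT : Y ≤ T := h.eY ▸ commutator_le_left' h.nT
theorem YH : Y ≤ H := (YT h).trans h.syl.le
theorem Y2 : IsPGroup 2 Y := isPGroup_of_le (YT h) h.syl.isPGroup
theorem nY : R ≤ 𝐍(Y) := h.eY ▸ right_le_normalizer_commutator T R
theorem YR : ⁅Y, R⁆ = Y := h.eY ▸ H2.commutator_commutator_eq h.nT (copL h h.syl.le)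
theorem EY : E ≤ Y := h.eE ▸ inf_le_left
theorem EC : E ≤ 𝐂(R) := h.eE ▸ inf_le_right
theorem E2 : IsPGroup 2 E := isPGroup_of_le (EY h) (Y2 h)
theorem Eab : Abelem 2 E := ⟨comm_iff_le_cent.2 (h.cE.trans (cent_anti (EY h))), fun a ha => by
  rw [pow_two, h.ea a ha]⟩
theorem cYR (he : e ∈ E) : Y ⊔ R ≤ 𝐂[e] :=
  sup_le (le_cent1_iff.2 (h.cE he)) (le_cent1_iff.2 (EC h he))
theorem nC1 (he : e ∈ E) : R ≤ 𝐍((H ⊓ 𝐂[e] : Subgroup G)) :=
  H2.le_normalizer_inf h.nH ((le_sup_right.trans (cYR h he)).trans le_normalizer)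
theorem neC1 (he : e ∈ E) (h1 : e ≠ 1) : H ⊓ 𝐂[e] ≠ H := fun k => by
  have k1 : ∀ {A : Subgroup G}, A ≤ 𝐂[e] → A ≤ 𝐍(zpowers e) := fun a =>
    (a.trans (cent_zpowers e).ge).trans (cent_le_norm _)
  rcases h.simple (zpowers e) (zpowers_le.2 (YH h (EY h he))) (k1 (k.ge.trans inf_le_right))
    (k1 (le_sup_right.trans (cYR h he))) with k2 | k2
  · exact h1 (by simpa using k2)
  · exact h.neT (h.syl.eq_of_le (k2 ▸ isPGroup_of_le (zpowers_le.2 he) (E2 h)) h.syl.le le_rfl).symm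
theorem YC1 (he : e ∈ E) : Y ≤ H ⊓ 𝐂[e] := le_inf (YH h) (le_sup_left.trans (cYR h he))
theorem qq (h1 : L ≤ H) (h2 : L ≠ H) (h3 : R ≤ 𝐍(L)) (h4 : Y ≤ L) : QQ p H R Y (Gp p ⁅L, R⁆) :=
  ⟨(Gp_le.trans (commutator_le_left' h3)).trans h1, h.loc L h1 h2 h3,
    n_Gp (right_le_normalizer_commutator _ _), h4.trans (n_Gp (left_le_normalizer_commutator _ _))⟩
theorem qth (he : e ∈ E) (h1 : e ≠ 1) : QQ p H R Y (th p H R e) :=
  qq h inf_le_left (neC1 h he h1) (nC1 h he) (YC1 h he)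
theorem thC (he : e ∈ E) : th p H R e ≤ 𝐂[e] :=
  (Gp_le.trans (commutator_le_left' (nC1 h he))).trans inf_le_right
theorem nth (he : e ∈ E) : H ⊓ 𝐂(Y ⊔ R) ≤ 𝐍(th p H R e) :=
  (inf_le_inf_left _ (cent_le_cent1 (mem_sup_left (EY h he)))).trans
    (n_Gp (left_le_normalizer_commutator _ _))
theorem qinf (hX : QQ p H R Y X) (he : e ∈ E) : QQ p H R Y (X ⊓ 𝐂[e]) :=
  ⟨inf_le_left.trans hX.le, isPGroup_of_le inf_le_left hX.pg,
    H2.le_normalizer_inf hX.nR ((le_sup_right.trans (cYR h he)).trans le_normalizer),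
    H2.le_normalizer_inf hX.nY ((le_sup_left.trans (cYR h he)).trans le_normalizer)⟩
theorem odd (hX : IsPGroup p X) : Odd ♯X := AG.odd_iff_piG.2 (piG_compl_of_isPGroup_ne hX h.p2)
theorem star (hX : QQ p H R Y X) (he : e ∈ E) (h1 : X ≤ 𝐂[e]) : ⁅X, Y ⊔ R⁆ ≤ th p H R e := by
  have k1 := left_le_normalizer_commutator (H ⊓ 𝐂[e]) R
  have k2 : X ≤ H ⊓ 𝐂[e] := le_inf hX.le h1
  refine le_Gp (isPGroup_of_le (commutator_le_left' (sup_le hX.nY hX.nR)) hX.pg)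
    (H2.commutator_sup_right_le ((YC1 h he).trans k1) (right_le_normalizer_commutator _ _)
      ((commutator_mono le_rfl ((YR h).ge.trans (commutator_mono (YC1 h he) le_rfl))).trans
        (commutator_le_right' (k2.trans k1))) (commutator_mono k2 le_rfl))
theorem dec (hX : QQ p H R Y X) : X ≤ X ⊓ 𝐂(Y ⊔ R) ⊔ ⁅X, Y ⊔ R⁆ :=
  (H2.centralizer_sup_commutator (sup_le hX.nY hX.nR) (Nat.Coprime.coprime_dvd_left
    (card_sup_dvd (nY h)) (Nat.Coprime.mul_left (AG.cop2 (Y2 h) (odd h hX.pg)) (copL h hX.le)))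
    (.inr (isSolvable_of_isPGroup hX.pg))).ge
theorem cj_th (hg : g ∈ H) (h1 : g ∈ 𝐂(R)) (e : G) :
    cj g (th p H R e) = th p H R (g * e * g⁻¹) := by
  refine (map_Gp _ _).trans (congrArg _ ?_)
  rw [← cj_def, cj_commutator, cj_inf, cj_cent1, cj_eq_of_mem hg,
    cj_eq_iff_mem_normalizer.2 (cent_le_norm _ h1)]
theorem np (hU : QQ p H R Y U) (h0 : U ≠ ⊥) : ∃ Q, QQ p H R Y Q ∧ U ≤ Q ∧ 4 ≤ ♯E ∧
    (♯E ≤ 4 → ∃ v, ∀ x ∈ E, x ≠ 1 → ∃ g ∈ H ⊓ 𝐂(R) ⊓ 𝐍(Q), x = g * v * g⁻¹) := by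
  obtain ⟨Q, q1, q2, q3⟩ := exmax hU
  obtain ⟨c, hc, c1, c2⟩ := NP h q1 (ne_bot_of_le q2 h0) q3
  obtain ⟨k1, k2⟩ := four (h.eE ▸ normalizer_inf_le _ _ ⟨hc.1.2, le_normalizer hc.1.1.2⟩) c1 c2
  refine ⟨Q, q1, q2, k1, fun k => ?_⟩
  obtain ⟨v, hv⟩ := k2 k
  refine ⟨v, fun x hx x1 => ?_⟩
  obtain ⟨g, hg, e⟩ := hv x hx x1
  exact ⟨g, zpowers_le.2 (show c ∈ H ⊓ 𝐂(R) ⊓ 𝐍(Q) from ⟨hc.1.1, hc.2⟩) hg, e⟩

theorem big (h8 : 8 ≤ ♯E) : IsPGroup p (Qs p H R E) := by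
  have d1 := core_le {p} (H ⊓ 𝐂(Y ⊔ R))
  have d2 := core_isPGroup (p := p) (H ⊓ 𝐂(Y ⊔ R))
  have d3 := fun N => le_pcore (p := p) (N := N) (H := H ⊓ 𝐂(Y ⊔ R))
  generalize core {p} (H ⊓ 𝐂(Y ⊔ R)) = D at d1 d2 d3
  have d4 : ∀ e ∈ E, D ≤ 𝐂[e] := fun e he =>
    (d1.trans inf_le_right).trans (cent_le_cent1 (mem_sup_left (EY h he)))
  have p1 : ∀ e ∈ E, e ≠ 1 → IsPGroup p ↥(th p H R e ⊔ D) := fun e he e1 =>
    isPGroup_sup' (qth h he e1).pg d2 (d1.trans (nth h he))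
  have n1 : ∀ e ∈ E, e ≠ 1 → E ≤ 𝐍((th p H R e ⊔ D : Subgroup G)) := fun e he e1 =>
    H2.le_normalizer_sup ((EY h).trans (qth h he e1).nY) ((cent_symm ((d1.trans inf_le_right).trans
      (cent_anti ((EY h).trans le_sup_left)))).trans (cent_le_norm _))
  obtain ⟨w1, w2⟩ := AG.sft (Eab h) h8 (fun e => th p H R e ⊔ D)
    (fun e he _ => sup_le (thC h he) (d4 e he)) (fun e he e1 => odd h (p1 e he e1)) n1
    fun e he e1 f hf f1 => by
      have x1 := qinf h (qth h he e1) hf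
      rw [inf_comm, inf_sup_of_le' (d4 f hf) (.inr (d1.trans (nth h he))), inf_comm]
      refine sup_le ((dec h x1).trans (sup_le (le_sup_of_le_right ?_)
        (le_sup_of_le_left (star h x1 hf inf_le_right)))) le_sup_right
      exact (le_inf (inf_le_inf_right _ x1.le) (inf_le_left.trans inf_le_left)).trans
        (d3 _ (nrm_inf_of_le_normalizer (nth h he)) (isPGroup_of_le inf_le_right (qth h he e1).pg))
  have w3 := n_iSup fun e : {a : G // a ∈ E ∧ a ≠ 1} => n1 e e.2.1 e.2.2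
  refine isPGroup_of_le (iSup_mono fun e => le_sup_left (b := D)) (PiG.isPGroup fun q hq k => ?_)
  by_contra k1
  haveI := Fact.mk hq
  obtain ⟨P, hP, nP⟩ := exists_invariant_syl q w3 (AG.cop2 (E2 h) w1)
    (.inl (isSolvable_of_isPGroup (E2 h)))
  refine hP.ne_bot k (eq_bot_iff.2 (AG.le_of_four (Eab h) (by omega) (odd_of_le hP.le w1) nP
    fun e he e1 => ?_))
  exact (le_inf inf_le_left ((inf_le_inf_right _ hP.le).trans (w2 e he e1).le)).trans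
    (inf_eq_bot_of_coprime' (coprime_of_isPGroup_ne hP.isPGroup (p1 e he e1) k1)).le

end G2

open G2

theorem QP (h : TG p r H R T Y E) : IsPGroup p (Qs p H R E) := by
  rcases le_or_gt 8 ♯E with h8 | h8
  · exact big h h8
  by_cases h0 : Qs p H R E = ⊥
  · exact h0 ▸ IsPGroup.of_bot
  obtain ⟨⟨e, he, e1⟩, k⟩ : ∃ e : {e : G // e ∈ E ∧ e ≠ 1}, th p H R e ≠ ⊥ := by
    by_contra k
    push Not at k
    exact h0 (iSup_eq_bot.2 k)
  obtain ⟨Q, q1, q2, -, q3⟩ := np h (qth h he e1) k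
  obtain ⟨n, hn⟩ := IsPGroup.iff_card.1 (E2 h)
  obtain ⟨v, hv⟩ := q3 (by
    rw [hn] at h8 ⊢
    exact Nat.pow_le_pow_right two_pos (Nat.lt_succ_iff.1 ((Nat.pow_lt_pow_iff_right
      (a := 2) (m := 3) one_lt_two).1 h8)))
  refine isPGroup_of_le (iSup_le fun f => ?_) q1.pg
  obtain ⟨a, ha, e2⟩ := hv e he e1
  obtain ⟨b, hb, e3⟩ := hv f f.2.1 f.2.2
  have k1 := mul_mem hb (inv_mem ha)
  have := cj_mono (b * a⁻¹) q2
  rw [cj_eq_iff_mem_normalizer.2 k1.2, cj_th h k1.1.1 k1.1.2] at this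
  convert this using 2
  rw [e3, e2]; group

theorem UQ (h : TG p r H R T Y E) (h1 : L ≤ H) (h2 : L ≠ H) (h3 : R ≤ 𝐍(L)) (h4 : Y ≤ L) :
    Gp p ⁅L, R⁆ ≤ Qs p H R E := by
  have u1 := qq h h1 h2 h3 h4
  have u2 := UY h h1 h2 h3 h4
  generalize Gp p ⁅L, R⁆ = U at u1 u2
  by_cases h0 : U = ⊥
  · exact h0.le.trans bot_le
  obtain ⟨-, -, -, k, -⟩ := np h u1 h0
  have k1 : U ≤ Qs p H R E ⊔ U ⊓ 𝐂(Y ⊔ R) := AG.le_of_four (Eab h) k (odd h u1.pg)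
    ((EY h).trans u1.nY) fun e he e1 => (dec h (qinf h u1 he)).trans (sup_le
      (le_sup_of_le_right (inf_le_inf_right _ inf_le_left)) (le_sup_of_le_left
        ((star h (qinf h u1 he) he inf_le_right).trans (le_iSup
          (fun e : {e : G // e ∈ E ∧ e ≠ 1} => th p H R e) ⟨e, he, e1⟩))))
  refine u2.ge.trans ((commutator_mono k1 le_rfl).trans (H2.commutator_sup_left_le le_normalizer
    ((inf_le_inf_right _ u1.le).trans (n_iSup fun e => nth h e.2.1)) (commutator_le_left'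
      (n_iSup fun e => sup_le (qth h e.2.1 e.2.2).nY (qth h e.2.1 e.2.2).nR))
    ((le_cent_iff_commutator.1 inf_le_right).le.trans bot_le)))

end Cfsg.Agent.FB
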