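import Cfsg.Agent.FB.Defs

/-! The 2-local part of the Hall-Higman-Shult type theorem: basic facts. -/

set_option autoImplicit false
set_option linter.unusedSectionVars false

namespace Cfsg.Agent.FB

open Subgroup FT H1 FA
open scoped commutatorElement

universe u

variable {G : Type u} [Group G] [Finite G] {r : ℕ}
  {H R T Y E R' T' Y' E' A B K L M J W X : Subgroup G} {a b c d e g u v x y z : G}

namespace TB

variable (h : TB r H R T Y E)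
include h

theorem cj (hg : g ∈ H) : TB r H (cj g R) (cj g T) (cj g Y) (cj g E) := by
  have eH : H1.cj g H = H := cj_eq_of_mem hg
  refine ⟨h.hr, h.r2, (card_cj g R).trans h.cR, eH ▸ cj_le_norm h.nH g, by
    rw [card_cj]; exact h.cop, fun M h1 h2 h3 => ?_, h.syl.cj_of_mem hg, cj_le_norm h.nT g,
    by rw [← cj_commutator, h.eY], fun e => h.ne (cj_eq_bot_iff.1 e),
    fun e => h.neT (cj_injective g (e.trans eH.symm)), by rw [← cj_centralizer, ← cj_inf, h.eE],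
    cj_le_cent h.cE g, fun y hy => ?_, by rw [← cj_commutator]; exact cj_mono g h.der,
    fun e he => ?_, fun X h1 h2 h3 h4 h5 => ?_⟩
  · have := le_norm_cj h3
    rw [cj_eq_iff_mem_normalizer.2 (h2 (inv_mem hg))] at this
    exact h.simple M h1 h2 this
  · have := h.sq _ (mem_cj.1 hy)
    rw [mem_cj]; convert this using 1; group
  · have := h.ea _ (mem_cj.1 he)
    rw [← conj_eq_one_iff (a := g⁻¹), ← this]; group
  · obtain ⟨h6, h7⟩ := h.cx (H1.cj g⁻¹ X) (by rw [← cj_inv_cj g Y]; exact cj_mono _ h1)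
      (cj_le_cent h2 _) (le_norm_cj h3) (by
        rw [← cj_inv_cj g R, ← cj_commutator, h4]) (fun e => h5 (cj_eq_bot_iff.1 e))
    refine ⟨(card_cj _ _).symm.trans h6, ?_⟩
    have := cj_mono g h7
    rwa [cj_inf, cj_sup, cj_centralizer, cj_cj_inv] at this

theorem solv : Group.IsSolvable R := solv_prime h.hr h.cR
theorem copL (hL : L ≤ H) : (♯R).Coprime ♯L := h.cop.coprime_dvd_right (card_dvd_of_le' hL)
theorem YT : Y ≤ T := h.eY ▸ commutator_le_left' h.nT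
theorem YH : Y ≤ H := h.YT.trans h.syl.le
theorem Y2 : IsPGroup 2 Y := isPGroup_of_le h.YT h.syl.isPGroup
theorem nY : R ≤ 𝐍(Y) := h.eY ▸ right_le_normalizer_commutator T R
theorem TN : T ≤ 𝐍(Y) := h.eY ▸ left_le_normalizer_commutator T R
theorem rr (hL : L ≤ H) (hn : R ≤ 𝐍(L)) : ⁅⁅L, R⁆, R⁆ = ⁅L, R⁆ :=
  H2.commutator_commutator_eq hn (h.copL hL)
theorem YR : ⁅Y, R⁆ = Y := h.eY ▸ h.rr h.syl.le h.nT
theorem EY : E ≤ Y := h.eE ▸ inf_le_left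
theorem EC : E ≤ 𝐂(R) := h.eE ▸ inf_le_right
theorem EH : E ≤ H := h.EY.trans h.YH
theorem E2 : IsPGroup 2 E := isPGroup_of_le h.EY h.Y2
theorem memE (hx : x ∈ Y) (hc : x ∈ 𝐂(R)) : x ∈ E := h.eE ▸ ⟨hx, hc⟩
theorem ey (he : e ∈ E) (hy : y ∈ Y) : y * e = e * y := cm (h.cE he) hy
theorem einv (he : e ∈ E) : e⁻¹ = e := inv_eq_of_mul_eq_one_right (h.ea e he)
theorem cmE (hx : x ∈ Y) (hy : y ∈ Y) : ⁅x, y⁆ ∈ E := h.der (commutator_mem_commutator hx hy)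
theorem nE : R ≤ 𝐍(E) := (cent_symm h.EC).trans (cent_le_norm E)
theorem neLoc (h0 : A ≠ ⊥) (h2 : IsPGroup 2 A) (hA : A ≤ H) (hn : R ≤ 𝐍(A)) : H ⊓ 𝐍(A) ≠ H :=
  fun e => (h.simple A hA (e ▸ inf_le_right) hn).elim h0 fun e1 =>
    h.neT (h.syl.eq_of_le (e1 ▸ h2) h.syl.le le_rfl).symm
theorem nN (hn : R ≤ 𝐍(A)) : R ≤ 𝐍((H ⊓ 𝐍(A) : Subgroup G)) :=
  H2.le_normalizer_inf h.nH (H2.le_normalizer_normalizer hn)
theorem neN : H ⊓ 𝐍(Y) ≠ H := h.neLoc h.ne h.Y2 h.YH h.nY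
theorem YN : Y ≤ T ⊓ 𝐍(Y) := le_inf h.YT le_normalizer
theorem ET : E ≤ T := h.EY.trans h.YT
theorem cmR (hx : x ∈ T ⊓ 𝐍(Y)) (ha : a ∈ R) : ⁅x, a⁆ ∈ Y :=
  h.eY.le (commutator_mem_commutator hx.1 ha)
theorem nC1 (hu : u ∈ 𝐂(R)) : R ≤ 𝐍((H ⊓ 𝐂[u] : Subgroup G)) :=
  H2.le_normalizer_inf h.nH ((le_cent1_iff.2 hu).trans le_normalizer)
theorem neC1 (hu : u ∈ E) (h1 : u ≠ 1) : H ⊓ 𝐂[u] ≠ H := fun e =>
  h.neLoc (A := zpowers u) (by simpa using h1) (isPGroup_of_le (zpowers_le.2 hu) h.E2)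
    (zpowers_le.2 (h.EH hu)) ((cent_symm (zpowers_le.2 (h.EC hu))).trans (cent_le_norm _))
    (le_antisymm inf_le_left (e.ge.trans (inf_le_inf_left _
      ((cent_zpowers u).ge.trans (cent_le_norm _)))))
theorem YC1 (hu : u ∈ E) : Y ≤ H ⊓ 𝐂[u] := le_inf h.YH (le_cent1_iff.2 (h.cE hu))
theorem dec (hx : x ∈ T ⊓ 𝐍(Y)) : ∃ y ∈ Y, y⁻¹ * x ∈ 𝐂(R) := by
  obtain ⟨c, hc, n, hn, e⟩ := H2.exists_centralizer_mul_commutator h.nT
    (h.copL h.syl.le) (.inl h.solv) (inv_mem hx.1)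
  refine ⟨n⁻¹, inv_mem (h.eY.le hn), ?_⟩
  have : n⁻¹⁻¹ * x = c⁻¹ := by rw [← inv_inv x, e]; group
  exact this ▸ inv_mem hc.2
theorem cnE (hc : c ∈ 𝐂(R)) (hn : c ∈ 𝐍(Y)) : c ∈ 𝐍(E) :=
  h.eE ▸ normalizer_inf_le _ _ ⟨hn, le_normalizer hc⟩
theorem YnE : Y ≤ 𝐍(E) := (cent_symm h.cE).trans (cent_le_norm E)
theorem NnE : T ⊓ 𝐍(Y) ≤ 𝐍(E) := fun x hx => by
  obtain ⟨y, hy, e⟩ := h.dec hx
  simpa using mul_mem (h.YnE hy) (h.cnE e (mul_mem (inv_mem (le_normalizer hy)) hx.2))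
theorem conjR (hg : g ∈ H) (h1 : R ≤ K) (h2 : H1.cj g R ≤ K) :
    ∃ c ∈ H ⊓ K, H1.cj c (H1.cj g R) = R := by
  have h3 : R ≤ 𝐍((H ⊓ K : Subgroup G)) := H2.le_normalizer_inf h.nH (h1.trans le_normalizer)
  have h4 : H1.cj g R ≤ (H ⊓ K) ⊔ R := by
    rw [inf_comm, ← inf_sup_of_le' h1 (.inr h.nH)]
    exact le_inf h2 (cj_le_of_le (mem_sup_left hg) le_sup_right)
  obtain ⟨c, hc, e⟩ := (sdp_sup_of_coprime h3 (h.copL inf_le_left).symm).exists_cj_le h4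
    (by rw [card_cj]; exact h.copL inf_le_left)
    (.inl (solv_prime h.hr ((card_cj _ _).trans h.cR)))
  exact ⟨c, hc, eq_of_le_of_card_le e (by rw [card_cj, card_cj])⟩
/-- an element centralizing `R` and `W / E` centralizes `[W, R]` -/
theorem cw (hW : W ≤ Y) (hc : c ∈ 𝐂(R)) (h1 : ∀ x ∈ W, ⁅x, c⁆ ∈ E) : ⁅W, R⁆ ≤ 𝐂[c] := by
  refine commutator_le.2 fun x hx a ha => mem_cent1_iff.2 ?_
  have h2 := h.ey (h1 x hx) (comm_mem (hW hx) (h.nY ha))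
  have h3 := cm (h.EC (h1 x hx)) ha
  have h4 := cm hc ha
  have h5 : c * ⁅x, a⁆ * c⁻¹ = ⁅x, c⁆⁻¹ * (x * (c * a * c⁻¹) * x⁻¹) * ⁅x, c⁆ * (c * a * c⁻¹)⁻¹ := by
    simp only [commutatorElement_def]; group
  rw [← h4, mul_inv_cancel_right, mul_assoc _ ⁅x, c⁆, ← (show Commute a ⁅x, c⁆ from h3).inv_left.eq,
    ← mul_assoc, mul_assoc ⁅x, c⁆⁻¹, ← commutatorElement_def, mul_assoc ⁅x, c⁆⁻¹, h2,
    inv_mul_cancel_left] at h5
  exact (mul_inv_eq_iff_eq_mul.1 h5).symm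
theorem decW (hW : W ≤ Y) (hn : R ≤ 𝐍(W)) (hx : x ∈ W) : ∃ t ∈ ⁅W, R⁆, ∃ e ∈ E, x = t * e := by
  obtain ⟨c, hc, n, hn', e⟩ := H2.exists_centralizer_mul_commutator hn
    (h.copL (hW.trans h.YH)) (.inl h.solv) hx
  have hc' := h.memE (hW hc.1) hc.2
  exact ⟨n, hn', c, hc', by rw [e, h.ey hc' (hW (commutator_le_left' hn hn'))]⟩
theorem comm_mul_left (hx : x ∈ Y) (hy : y ∈ Y) (hz : z ∈ Y) : ⁅x * y, z⁆ = ⁅x, z⁆ * ⁅y, z⁆ := by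
  have h1 := h.ey (h.cmE hy hz) hx
  have h2 := h.ey (h.cmE hy hz) (h.EY (h.cmE hx hz))
  have : ⁅x * y, z⁆ = x * ⁅y, z⁆ * x⁻¹ * ⁅x, z⁆ := by simp only [commutatorElement_def]; group
  rw [this, h1, mul_inv_cancel_right, h2]
theorem comm_symm (hx : x ∈ Y) (hy : y ∈ Y) : ⁅x, y⁆ = ⁅y, x⁆ := by
  rw [← commutatorElement_inv, h.einv (h.cmE hy hx)]
theorem comm_mul_right (hx : x ∈ Y) (hy : y ∈ Y) (hz : z ∈ Y) : ⁅x, y * z⁆ = ⁅x, y⁆ * ⁅x, z⁆ := by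
  rw [h.comm_symm hx (mul_mem hy hz), h.comm_mul_left hy hz hx, h.comm_symm hy hx,
    h.comm_symm hz hx]
theorem comm_E (he : e ∈ E) (hy : y ∈ Y) : ⁅e, y⁆ = 1 :=
  commutatorElement_eq_one_iff_mul_comm.2 (h.ey he hy).symm
theorem comm_E' (he : e ∈ E) (hy : y ∈ Y) : ⁅y, e⁆ = 1 :=
  commutatorElement_eq_one_iff_mul_comm.2 (h.ey he hy)
theorem comm_mulE (hx : x ∈ Y) (he : e ∈ E) (hz : z ∈ Y) : ⁅x * e, z⁆ = ⁅x, z⁆ := by
  rw [h.comm_mul_left hx (h.EY he) hz, h.comm_E he hz, mul_one]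
theorem comm_mulE' (hx : x ∈ Y) (he : e ∈ E) (hz : z ∈ Y) : ⁅z, x * e⁆ = ⁅z, x⁆ := by
  rw [h.comm_mul_right hz hx (h.EY he), h.comm_E' he hz, mul_one]
theorem comm_inv_left (hx : x ∈ Y) (hy : y ∈ Y) : ⁅x⁻¹, y⁆ = ⁅x, y⁆ := by
  have := h.comm_mul_left hx (inv_mem hx) hy
  rw [mul_inv_cancel, commutatorElement_one_left] at this
  rw [← h.einv (h.cmE hx hy)]; exact eq_inv_of_mul_eq_one_right this.symm

theorem memK (hx : x ∈ Y) (ha : a ∈ T ⊓ 𝐍(Y)) : x ∈ Kc E a ↔ ⁅x, a⁆ ∈ E :=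
  mem_Kc (h.YnE hx) (h.NnE ha)
theorem comm_mod (hx : x ∈ Y) (hy : y ∈ Y) (a : G) : ⁅x, y * a⁆ ∈ E ↔ ⁅x, a⁆ ∈ E := by
  have : ⁅x, y * a⁆ = ⁅x, y⁆ * (y * ⁅x, a⁆ * y⁻¹) := by simp only [commutatorElement_def]; group
  rw [this, mul_mem_cancel_left (h.cmE hx hy)]
  refine ⟨fun k => ?_, cjm (h.YnE hy)⟩
  simpa [mul_assoc] using cjm' (h.YnE hy) k
theorem nK (ha : a ∈ T ⊓ 𝐍(Y)) : R ≤ 𝐍((Y ⊓ Kc E a : Subgroup G)) := fun b hb =>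
  mem_normalizer_of_conj_mem fun x hx => by
    have h1 := cjm (h.nY hb) hx.1
    refine ⟨h1, (h.memK h1 ha).2 ?_⟩
    have h2 := cjm (h.nE hb) ((h.memK hx.1 ha).1 hx.2)
    rw [conjugate_commutatorElement] at h2
    have h3 : b * a * b⁻¹ = ⁅a, b⁆⁻¹ * a := by simp only [commutatorElement_def]; group
    rwa [h3, h.comm_mod h1 (inv_mem (h.cmR ha hb))] at h2
/-- the image of `x ↦ [x, a]` modulo `E` -/
theorem exists_im (hW : W ≤ Y) (hn : R ≤ 𝐍(W)) (ha : a ∈ T ⊓ 𝐍(Y)) :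
    ∃ Z : Subgroup G, E ≤ Z ∧ Z ≤ Y ∧ R ≤ 𝐍(Z) ∧ (∀ z, z ∈ Z ↔ ∃ x ∈ W, ∃ e ∈ E, z = ⁅x, a⁆ * e) ∧
      E.relIndex Z = (Kc E a).relIndex W := by
  have k : ∀ x ∈ W, ⁅x, a⁆ ∈ Y := fun x hx => comm_mem (hW hx) ha.2
  let f : W →* Quo E := MonoidHom.mk' (fun x => coset E ⁅(x : G), a⁆) fun x y => by
    have : ⁅(x : G) * y, a⁆ = ⁅(x : G), ⁅(y : G), a⁆⁆ * (⁅(y : G), a⁆ * ⁅(x : G), a⁆) := by
      simp only [commutatorElement_def]; group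
    have h1 := h.YnE (k _ x.2)
    have h2 := h.YnE (k _ y.2)
    have h3 := h.cmE (hW x.2) (k _ y.2)
    rw [coe_mul, this, coset_mul (le_normalizer h3) (mul_mem h2 h1), coset_eq_one h3, one_mul,
      ← coset_mul h1 h2, coset_eq_iff (mul_mem h2 h1) (mul_mem h1 h2)]
    convert h.cmE (inv_mem (k _ x.2)) (inv_mem (k _ y.2)) using 1
    simp only [commutatorElement_def (⁅(x : G), a⁆)⁻¹]; group
  have m : ∀ z, z ∈ unbar E f.range ↔ ∃ x ∈ W, ∃ e ∈ E, z = ⁅x, a⁆ * e := fun z => by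
    rw [mem_unbar]
    constructor
    · rintro ⟨h1, x, e⟩
      exact ⟨x, x.2, _, (coset_eq_iff (h.YnE (k _ x.2)) h1).1 e, by group⟩
    · rintro ⟨x, hx, e, he, rfl⟩
      have h1 := h.YnE (k _ hx)
      refine ⟨mul_mem h1 (le_normalizer he), ⟨x, hx⟩, ?_⟩
      rw [coset_mul h1 (le_normalizer he), coset_eq_one he, mul_one]; rfl
  refine ⟨unbar E f.range, le_unbar _, fun z hz => ?_, fun b hb => ?_, m, ?_⟩
  · obtain ⟨x, hx, e, he, rfl⟩ := (m z).1 hz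
    exact mul_mem (k x hx) (h.EY he)
  · refine mem_normalizer_of_conj_mem fun z hz => (m _).2 ?_
    obtain ⟨x, hx, e, he, rfl⟩ := (m z).1 hz
    have h1 := cjm (hn hb) hx
    have h2 := inv_mem (h.cmR ha hb)
    refine ⟨_, h1, ⁅(⁅b * x * b⁻¹, a⁆)⁻¹, ⁅a, b⁆⁻¹⁆ * ⁅b * x * b⁻¹, ⁅a, b⁆⁻¹⁆ * (b * e * b⁻¹),
      mul_mem (mul_mem (h.cmE (inv_mem (k _ h1)) h2) (h.cmE (hW h1) h2)) (cjm (h.nE hb) he), ?_⟩
    have h3 : b * a * b⁻¹ = ⁅a, b⁆⁻¹ * a := by simp only [commutatorElement_def]; group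
    have h4 := h.ey (h.cmE (hW h1) h2) (cjm (le_normalizer h2) (k _ h1))
    rw [← conj_mul, conjugate_commutatorElement, h3]
    generalize ⁅a, b⁆⁻¹ = s at *
    generalize b * x * b⁻¹ = w at *
    have : ⁅w, s * a⁆ = ⁅w, s⁆ * (s * ⁅w, a⁆ * s⁻¹) := by simp only [commutatorElement_def]; group
    rw [this, ← h4]
    generalize ⁅w, a⁆ = t
    generalize ⁅w, s⁆ = t'
    simp only [commutatorElement_def]; group
  · rw [relIndex_unbar_self, ← index_ker, relIndex]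
    congr 1
    ext x
    rw [MonoidHom.mem_ker, mem_subgroupOf, h.memK (hW x.2) ha]
    exact coset_eq_one_iff (h.YnE (k _ x.2))

end TB

namespace TM

variable (h : TM r H R T Y E M J)
include h

theorem cj (hg : g ∈ H) : TM r H (cj g R) (cj g T) (cj g Y) (cj g E) (cj g M) (cj g J) := by
  have eH : H1.cj g H = H := cj_eq_of_mem hg
  have k1 : ∀ L ≤ H, H1.cj g⁻¹ L ≤ H := fun L hL => cj_le_of_le (inv_mem hg) hL
  have k2 : ∀ L, L ≠ H → H1.cj g⁻¹ L ≠ H := fun L hL e => hL (by rw [← cj_cj_inv g L, e, eH])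
  refine ⟨h.toTB.cj hg, cj_le_of_le hg h.hM, fun e => h.neM (cj_injective g (e.trans eH.symm)),
    cj_mono g h.tM, cj_le_norm h.nM g, fun L h1 h2 h3 h4 => ?_,
    ⟨cj_mono g h.nJ.le, cj_le_norm h.nJ.norm g⟩, by rw [← cj_inf, h.eJ], fun L h1 h2 h3 => ?_⟩
  · have := cj_mono g (h.max _ (k1 L h1) (k2 L h2) (le_norm_cj h3) (cj_le_iff_le_cj_inv.1 h4))
    rwa [cj_cj_inv] at this
  · obtain ⟨U, S, u1, u2, u3, u4, u5, u6⟩ := h.ls _ (k1 L h1) (k2 L h2) (le_norm_cj h3)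
    refine ⟨H1.cj g U, H1.cj g S, ⟨cj_cj_inv g L ▸ cj_mono g u1.le, cj_cj_inv g L ▸ cj_le_norm u1.norm g⟩,
      by rwa [card_cj], cj_cj_inv g L ▸ cj_mono g u3, isPGroup_cj g u4, cj_le_norm u5 g, ?_⟩
    have := cj_mono g u6
    rwa [cj_commutator, cj_cj_inv, cj_sup] at this
theorem cjM (hg : g ∈ M) : TM r H (H1.cj g R) (H1.cj g T) (H1.cj g Y) (H1.cj g E) M J := by
  have := h.cj (h.hM hg)
  rwa [cj_eq_of_mem hg, cj_eq_iff_mem_normalizer.2 (h.nJ.norm hg)] at this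
theorem cent1 (hu : u ∈ E) (h1 : u ≠ 1) : H ⊓ 𝐂[u] ≤ M :=
  h.max _ inf_le_left (h.neC1 hu h1) (h.nC1 (h.EC hu)) (h.YC1 hu)
theorem NM : H ⊓ 𝐍(Y) ≤ M := h.max _ inf_le_left h.neN (h.nN h.nY) (le_inf h.YH le_normalizer)
theorem sylM : Syl 2 T M := h.syl.of_le h.tM h.hM
theorem eqM (h1 : L ≤ H) (h2 : L ≠ H) (h3 : R ≤ 𝐍(L)) (h4 : Y ≤ L) (h5 : ♯L = ♯M) : L = M :=
  eq_of_le_of_card_le (h.max L h1 h2 h3 h4) h5.ge
/-- move the Sylow subgroup inside `M` by an element centralizing `R` -/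
theorem adapt (hD : A ≤ M) (h2 : IsPGroup 2 A) (hn : R ≤ 𝐍(A)) :
    ∃ d ∈ M ⊓ 𝐂(R), A ≤ H1.cj d T ∧ TM r H R (H1.cj d T) (H1.cj d Y) (H1.cj d E) M J := by
  obtain ⟨T1, t1, t2, t3⟩ := exists_invariant_syl_ge h.nM (h.copL h.hM) (.inl h.solv) h2 hD hn
  obtain ⟨d, hd, e⟩ := H2.exists_centralizer_conj_sylow h.nM (h.copL h.hM) (.inl h.solv) h.tM
    h.syl.isPGroup h.sylM.not_dvd h.nT t1.le t1.isPGroup t1.not_dvd t3
  have := h.cjM hd.1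
  rw [cj_eq_iff_mem_normalizer.2 (cent_le_norm _ hd.2)] at this
  exact ⟨d, hd, (show H1.cj d T = T1 from e) ▸ t2, this⟩

end TM

end Cfsg.Agent.FB
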