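import Cfsg.Agent.FB.G2
import Cfsg.Agent.FB.T1

/-! The two cases of the 2-local analysis. -/

set_option autoImplicit false
set_option linter.unusedSectionVars false

namespace Cfsg.Agent.FB

open Subgroup FT H1 FA
open scoped commutatorElement

universe u

variable {G : Type u} [Group G] [Finite G] {p r : ℕ} [hp : Fact p.Prime]
  {H R T Y E L : Subgroup G} {c : G}

namespace TG

variable (h : TG p r H R T Y E)
include h

theorem nU (h3 : R ≤ 𝐍(L)) : Gp p ⁅L, R⁆ ⊴ L :=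
  ⟨Gp_le.trans (commutator_le_left' h3), n_Gp (left_le_normalizer_commutator L R)⟩
theorem QH : Qs p H R E ≤ H :=
  iSup_le fun e => (h.nU (h.nC1 (h.EC e.2.1))).le.trans inf_le_left
theorem nQ : R ≤ 𝐍(Qs p H R E) :=
  P9.le_normalizer_iSup fun _ => n_Gp (right_le_normalizer_commutator _ R)
theorem YQ : Y ≤ 𝐍(Qs p H R E) :=
  P9.le_normalizer_iSup fun e => (h.YC1 e.2.1).trans (h.nU (h.nC1 (h.EC e.2.1))).norm
theorem cQ (hc : c ∈ H ⊓ 𝐂(R) ⊓ 𝐍(Y)) : c ∈ 𝐍(Qs p H R E) :=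
  P9.mem_normalizer_iSup fun e => le_iSup_of_le ⟨c * e * c⁻¹, cjm (h.cnE hc.1.2 hc.2) e.2.1,
    fun k => e.2.2 (conj_eq_one_iff.1 k)⟩ (by
      rw [cj_def, map_Gp, ← cj_def, cj_commutator, cj_inf, cj_cent1, cj_eq_of_mem hc.1.1,
        cj_eq_iff_mem_normalizer.2 (cent_le_norm _ hc.1.2)])
theorem Qodd : PiG {2}ᶜ (Qs p H R E) := piG_compl_of_isPGroup_ne (QP h) h.p2
theorem RQ (h1 : L ≤ H) (h2 : L ≠ H) (h3 : R ≤ 𝐍(L)) (h4 : Y ≤ L) : ⁅L, R⁆ ≤ Qs p H R E ⊔ Y :=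
  (LY h h1 h2 h3 h4).le.trans (sup_le_sup_right (UQ h h1 h2 h3 h4) _)
theorem nQJ (h1 : L ≤ H) (h2 : L ≠ H) (h3 : R ≤ 𝐍(L)) (h4 : Y ≤ L) :
    L ≤ 𝐍(Qs p H R E) ⊓ 𝐍((Qs p H R E ⊔ E : Subgroup G)) := by
  have k : ⁅L, R⁆ ≤ 𝐍(Qs p H R E) ⊓ 𝐍((Qs p H R E ⊔ E : Subgroup G)) :=
    (h.RQ h1 h2 h3 h4).trans (sup_le (le_inf le_normalizer (le_sup_left.trans le_normalizer))
      (le_inf h.YQ (H2.le_normalizer_sup h.YQ h.YnE)))
  refine (H2.centralizer_sup_commutator h3 (h.copL h1) (.inl h.solv)).ge.trans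
    (sup_le (fun c hc => ?_) k)
  have e := LY h h1 h2 h3 h4
  have s : Syl 2 Y ⁅L, R⁆ := ⟨e ▸ le_sup_right, h.Y2, fun d => piG_compl_singleton.1
    (piG_compl_of_isPGroup_ne (h.loc L h1 h2 h3) h.p2) (d.trans
      (relIndex_dvd_of_sup e.symm (h4.trans (h.nU h3).norm)))⟩
  have s' := s.cj c
  have n : cj c R = R := cj_eq_iff_mem_normalizer.2 (cent_le_norm _ hc.2)
  rw [cj_eq_iff_mem_normalizer.2 (left_le_normalizer_commutator L R hc.1)] at s'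
  obtain ⟨d, hd, e3⟩ := H2.exists_centralizer_conj_sylow (right_le_normalizer_commutator L R)
    (h.copL ((commutator_le_left' h3).trans h1)) (.inl h.solv) s.le s.isPGroup s.not_dvd h.nY
    s'.le s'.isPGroup s'.not_dvd (n ▸ cj_le_norm h.nY c)
  have m : d⁻¹ * c ∈ H ⊓ 𝐂(R) ⊓ 𝐍(Y) := ⟨(H ⊓ 𝐂(R)).mul_mem ((H ⊓ 𝐂(R)).inv_mem
    (inf_le_inf_right _ ((commutator_le_left' h3).trans h1) hd)) (inf_le_inf_right _ h1 hc), cj_eq_iff_mem_normalizer.1 (by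
      rw [cj_mul, ← (show cj d Y = cj c Y from e3), cj_inv_cj])⟩
  have := mul_mem (k hd.1) (⟨h.cQ m, normalizer_inf_le_sup _ _ ⟨h.cQ m, h.cnE m.1.2 m.2⟩⟩ :
    d⁻¹ * c ∈ 𝐍(Qs p H R E) ⊓ 𝐍((Qs p H R E ⊔ E : Subgroup G)))
  rwa [mul_inv_cancel_left] at this

end TG

theorem TH_of (h : TG p r H R T Y E) (h0 : Qs p H R E = ⊥) : TH r H R T Y E := by
  have u : ∀ L ≤ H, L ≠ H → R ≤ 𝐍(L) → Y ≤ L → ⁅L, R⁆ ≤ Y := fun L h1 h2 h3 h4 => by
    simpa [h0] using h.RQ h1 h2 h3 h4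
  refine ⟨h.hr, h.r2, h.cR, h.nH, h.cop, h.simple, h.syl, h.nT, h.eY, h.ne, h.neT, h.eE, h.cE, h.sq,
    h.der, h.ea, u, fun L h1 h2 h3 h4 => ?_, h.cx, fun e => ?_⟩
  · obtain ⟨S, s1, s2⟩ := exists_invariant_syl 2 h3 (h.copL h1) (.inl h.solv)
    have k := le_cent_iff_commutator.1 ((le_core (h.nU h3)
      (piG_compl_of_isPGroup_ne (h.loc L h1 h2 h3) h.p2)).trans h4)
    have k1 : ⁅L, R⁆ ≤ 𝐂(Gp p ⁅L, R⁆) := three (by rw [commutator_comm R, k, commutator_bot_left])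
      (eq_bot_iff.2 ((commutator_mono (commutator_le_left' (h.nU h3).norm) le_rfl).trans k.le))
    refine isPGroup_of_le (?_ : _ ≤ ⁅S, R⁆) (isPGroup_of_le (commutator_le_left' s2) s1.isPGroup)
    rw [← h.rr h1 h3]
    refine (commutator_mono (LS h h1 h2 h3 s1 s2).le le_rfl).trans (H2.commutator_sup_left_le
      ((cent_symm ((commutator_mono s1.le le_rfl).trans k1)).trans (cent_le_norm _)) le_normalizer
      (k.le.trans bot_le) (commutator_le_left' (right_le_normalizer_commutator S R)))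
  · have n := h.nN h.nY
    exact (H2.centralizer_sup_commutator n (h.copL inf_le_left) (.inl h.solv)).ge.trans (sup_le
      ((inf_right_comm _ _ _).le.trans (h.t9' e)) ((u _ inf_le_left h.neN n
        (le_inf h.YH le_normalizer)).trans (le_cent_iff_commutator.2 (eq_bot_iff.2 (e ▸ h.der)))))

theorem TM_of (h : TG p r H R T Y E) (h0 : Qs p H R E ≠ ⊥) :
    TM r H R T Y E (H ⊓ 𝐍(Qs p H R E)) (Qs p H R E ⊔ E) := by
  have ne : H ⊓ 𝐍(Qs p H R E) ≠ H := fun e =>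
    (h.simple _ h.QH (e.ge.trans inf_le_right) h.nQ).elim h0 fun e1 =>
      h.ne (PiG.eq_bot (π := {2}) (piG_of_isPGroup h.Y2 rfl) (h.Qodd.of_le (h.YH.trans e1.ge)))
  have mx : ∀ L ≤ H, L ≠ H → R ≤ 𝐍(L) → Y ≤ L → L ≤ H ⊓ 𝐍(Qs p H R E) := fun L h1 h2 h3 h4 =>
    le_inf h1 ((h.nQJ h1 h2 h3 h4).trans inf_le_left)
  have y : Y ≤ H ⊓ 𝐍(Qs p H R E) := le_inf h.YH h.YQ
  refine ⟨h.toTB, inf_le_left, ne, mx T h.syl.le h.neT h.nT h.YT, h.nN h.nQ, mx,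
    ⟨sup_le (le_inf h.QH le_normalizer) (h.EY.trans y),
      (h.nQJ inf_le_left ne (h.nN h.nQ) y).trans inf_le_right⟩, ?_, fun L h1 h2 h3 => ?_⟩
  · rw [inf_comm, inf_sup_of_le' h.ET (.inr (h.EY.trans h.YQ)),
      PiG.inf_eq_bot (π := {2}) (piG_of_isPGroup h.syl.isPGroup rfl) h.Qodd, bot_sup_eq]
  · obtain ⟨S, s1, s2⟩ := exists_invariant_syl 2 h3 (h.copL h1) (.inl h.solv)
    exact ⟨_, S, h.nU h3, BS.odd_iff_piG.2 (piG_compl_of_isPGroup_ne (h.loc L h1 h2 h3) h.p2),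
      s1.le, s1.isPGroup, s2, (LS h h1 h2 h3 s1 s2).le.trans
        (sup_le_sup_left (commutator_le_left' s2) _)⟩

end Cfsg.Agent.FB
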