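import Cfsg.Agent.FB.Defs

/-! Proper invariant normal subgroups of the minimal counterexample are central. -/

set_option autoImplicit false
set_option linter.unusedSectionVars false

namespace Cfsg.Agent.FB

open Subgroup FT H1 FA
open scoped commutatorElement

universe u

variable {G : Type u} [Group G] [Finite G] {p r : ℕ}
  {H R A L N O S U V : Subgroup G}

namespace MD

variable [hp : Fact p.Prime] (h : MD p r H R V)
include h

theorem c_gp (hL : L ≤ H) (h1 : L ≠ H) (n : R ≤ 𝐍(L)) : IsPGroup p (Gp p ⁅L, R⁆) :=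
  PW_eq_bot.1 (h.ih L hL h1 n)
theorem c_ne (hS : Syl p S H) (nS : R ≤ 𝐍(S)) : ⁅S, R⁆ ≠ ⊥ := fun e => by
  obtain ⟨T, hT, nT⟩ := exists_invariant_syl 2 h.nH h.cop (.inl h.solv)
  have := h.idx le_rfl h.nH hT.le nT ⟨S, hS, nS, e.le.trans bot_le⟩
    ⟨T, hT, nT, commutator_le_left' nT⟩
  rw [h.cm] at this
  exact h.ne (PW_of_piG (h.p'2 (isPGroup_of_le (this.le.trans (commutator_le_left' nT))
    hT.isPGroup)))
theorem c_two (hN : N ≤ H) (h0 : N ≠ H) (h1 : H ≤ 𝐍(N)) (h2 : R ≤ 𝐍(N)) :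
    ⁅N, R⁆ ≤ core {2} H := by
  have a1 := commutator_le_left' h2
  have a2 := left_le_normalizer_commutator N R
  have a3 := right_le_normalizer_commutator N R
  have a4 : Gp p ⁅N, R⁆ = ⊥ := eq_bot_iff.2 ((le_pcore ⟨Gp_le.trans a1, n_Gp a2⟩
    (h.c_gp hN h0 h2)).trans (h.Op ((core_le _ _).trans hN) (core_isPGroup _)
      (le_normalizer_core _ h1) (le_normalizer_core _ h2)).le)
  have a5 := h.A3' (a1.trans hN) a3 (piG_of_Gp a4)
  rw [h.rr hN h2] at a5
  exact (le_pcore ⟨a1, a2⟩ a5).trans (core_le_core_of_nrm ⟨hN, h1⟩)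
theorem c_cS (hS : S ≤ H) (h1 : IsPGroup p S) (nS : R ≤ 𝐍(S)) (hU : U ≤ H) (h2 : IsPGroup 2 U)
    (h3 : S ≤ 𝐍(U)) (h4 : R ≤ 𝐍(U)) (h5 : U ⊔ S ≠ H) : ⁅S, R⁆ ≤ 𝐂(U) := by
  have l := sup_le hU hS
  have n := H2.le_normalizer_sup h4 nS
  have g := h.c_gp l h5 n
  exact (le_Gp (isPGroup_of_le (commutator_le_left' nS) h1) (commutator_mono le_sup_right
    le_rfl)).trans (commute_of_coprime ((Gp_le.trans (commutator_le_left' n)).trans
      (sup_le le_normalizer h3)) (n_Gp (le_sup_left.trans (left_le_normalizer_commutator _ _)))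
      (coprime_of_isPGroup g (h.p'2 h2)))
theorem c_kill (hS : Syl p S H) (nS : R ≤ 𝐍(S)) (h2 : IsPGroup 2 O) (n1 : H ≤ 𝐍(O))
    (n2 : R ≤ 𝐍(O)) (e : O ⊔ S = H) : O ≤ 𝐂(R) := by
  by_contra h0
  have hO : O ≤ H := le_sup_left.trans e.le
  have sO := hS.le.trans n1
  have cop := coprime_of_isPGroup hS.isPGroup (h.p'2 h2)
  have ded : ∀ A ≤ S, H ≤ O ⊔ A → S ≤ A := fun A a b => by
    rw [← sup_bot_eq A, ← inf_eq_bot_of_coprime' cop, ← inf_sup_of_le a (.inl (a.trans sO)),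
      sup_comm]
    exact le_inf le_rfl (hS.le.trans b)
  have s0 : ⁅S, R⁆ = S := le_antisymm (commutator_le_left' nS) (ded _ (commutator_le_left' nS) (by
    rw [← h.cm, ← e]
    exact H2.commutator_sup_left_le (le_sup_left.trans le_normalizer)
      (H2.le_normalizer_sup sO (left_le_normalizer_commutator _ _))
      ((commutator_le_left' n2).trans le_sup_left) le_sup_right))
  have neS : S ≠ ⊥ := s0 ▸ h.c_ne hS nS
  have k1 : ∀ U ≤ O, U ≠ O → S ≤ 𝐍(U) → R ≤ 𝐍(U) → S ≤ 𝐂(U) := fun U a b c d =>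
    s0.ge.trans (h.c_cS hS.le hS.isPGroup nS (a.trans hO) (isPGroup_of_le a h2) c d fun k => b (by
      rw [← sup_bot_eq U, ← inf_eq_bot_of_coprime' cop.symm, ← inf_sup_of_le a (.inr c), k,
        inf_eq_left.2 hO]))
  have k2 : ⁅O, S⁆ = O := by_contra fun k => neS (h.Op hS.le hS.isPGroup (e.ge.trans
    (sup_le ((H2.le_centralizer_of_commutator_le_centralizer sO cop (cent_symm (k1 _
      (commutator_le_left' sO) k (right_le_normalizer_commutator _ _)
      (H2.le_normalizer_commutator n2 nS)))).trans (cent_le_norm _)) le_normalizer)) nS)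
  have k3 : phi O ≤ 𝐂(O) := by
    have := k1 _ (phi_le O) (phi_lt fun k => h0 (k.le.trans bot_le)).ne (le_normalizer_phi sO)
      (le_normalizer_phi n2)
    refine cent_symm (k2.ge.trans (three ?_ ?_))
    · rw [le_cent_iff_commutator.1 this, commutator_bot_left]
    · exact le_cent_iff_commutator.1 ((commutator_le_left' (phi_nrm O).norm).trans (cent_symm this))
  have k4 : 𝐙(O) ≤ 𝐙(H) := le_inf (inf_le_left.trans hO) (cent_symm (e.ge.trans (sup_le
    (le_cent_ctr O) (k1 _ inf_le_left (fun k => h0 (h.A1 hO (h.p'2 h2) n2 (inf_eq_left.1 k)))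
      (le_normalizer_ctr sO) (le_normalizer_ctr n2)))))
  obtain ⟨k5, k6⟩ := (phi_le_iff h2).1 ((le_inf (phi_le O) k3).trans k4)
  have nZ := (ctr_nrm H).norm
  have nR := le_normalizer_ctr h.nH
  have ab := (abelem_bar_iff (hO.trans nZ)).2 ⟨k5, k6⟩
  have cR : ♯(bar 𝐙(H) R) = r := (card_bar_of_coprime nR (h.copL inf_le_left)).trans h.cR
  have fp : bar 𝐙(H) O ⊓ 𝐂(bar 𝐙(H) S) = ⊥ := by
    have := H2.centralizer_inf_commutator_eq_bot (bar_le_normalizer 𝐙(H) sO)
      (coprime_bar cop _) ab.1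
    rw [← bar_commutator (hO.trans nZ) (hS.le.trans nZ), k2] at this
    exact (inf_comm _ _).trans this
  have y1 := commutator_le_left' n2
  have y2 := right_le_normalizer_commutator O R
  have y3 := h.rr hO n2
  have y4 : ⁅O, R⁆ ≠ ⊥ := fun k => h0 (le_cent_iff_commutator.2 k)
  have pf : S ⊓ 𝐂(R) = ⊥ := by
    by_contra q0
    have q1 : ¬ S ≤ 𝐙(S) := fun k => q0 (by
      have := H2.centralizer_inf_commutator_eq_bot nS (h.copL hS.le)
        (comm_iff_le_cent.2 (k.trans inf_le_right))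
      rw [s0] at this
      exact (inf_comm _ _).trans this)
    have q2 : S ⊓ 𝐂(O) = ⊥ := h.Op (inf_le_left.trans hS.le)
      (isPGroup_of_le inf_le_left hS.isPGroup) (e.ge.trans (sup_le
        ((cent_symm inf_le_right).trans (cent_le_norm _)) (nrm_inf_centralizer sO).norm))
      (H2.le_normalizer_inf nS (H2.le_normalizer_centralizer n2))
    have q3 : 𝐙(S) ≤ 𝐂(R) := le_cent_iff_commutator.2 (eq_bot_iff.2 ((le_inf
      ((commutator_le_left' (le_normalizer_ctr nS)).trans inf_le_left)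
      (h.c_cS (inf_le_left.trans hS.le) (isPGroup_of_le inf_le_left hS.isPGroup)
        (le_normalizer_ctr nS) hO h2 (inf_le_left.trans sO) n2
        fun k => q1 (ded _ inf_le_left k.ge))).trans q2.le))
    have q4 : 𝐙(S) ≠ ⊥ := ctr_ne_bot (isNilpotent_of_isPGroup hS.isPGroup) neS
    have q5 : S ≤ 𝐂((O ⊓ 𝐂(𝐙(S)) : Subgroup G)) := k1 _ inf_le_left
      (fun k => q4 (eq_bot_iff.2 ((le_inf inf_le_left (cent_symm (inf_eq_left.1 k))).trans q2.le)))
      (H2.le_normalizer_inf sO (H2.le_normalizer_centralizer (ctr_nrm S).norm))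
      (H2.le_normalizer_inf n2 (H2.le_normalizer_centralizer (le_normalizer_ctr nS)))
    have q6 : 𝐙(S) ≤ 𝐍(⁅O, R⁆) :=
      H2.le_normalizer_commutator (inf_le_left.trans sO) (q3.trans (cent_le_norm _))
    have q7 : ⁅O, R⁆ ≤ 𝐂(𝐙(S)) := H2.le_centralizer_of_commutator_le_centralizer q6
      ((cop.coprime_dvd_left (card_dvd_of_le' inf_le_left)).coprime_dvd_right (card_dvd_of_le' y1))
      ((commutator_le.2 fun y hy c hc => h.t9 (y1.trans hO) (isPGroup_of_le y1 h2) y2 y3 y4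
        ((H2.centralizer_le_commutator_of_commutator_eq y2 (h.copL (y1.trans hO)) y3).trans
          ((commutator_mono y1 y1).trans k5)) ⟨⟨hS.le (mem_inf.1 hc).1, q3 hc⟩, q6 hc⟩ hy).trans
        (inf_le_right.trans (cent_anti (inf_le_left.trans hS.le))))
    have q8 : ⁅O, R⁆ ≤ 𝐙(H) := (bar_eq_bot_iff (y1.trans (hO.trans nZ))).1 (eq_bot_iff.2
      ((le_inf (bar_mono _ y1) (bar_le_cent _ ((le_inf y1 q7).trans (cent_symm q5)))).trans fp.le))
    exact y4 (y3.symm.trans (le_cent_iff_commutator.1 (q8.trans h.ZR)))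
  have k7 := R2.card_abelem_of_semiReg (semiReg_of_card_prime (K := bar 𝐙(H) S) (cR ▸ h.hr) (by
    rw [← bar_inf_cent' nR nS (hS.le.trans nZ) (h.copL hS.le) (.inl h.solv), pf, bar_bot]))
    (bar_le_normalizer _ nS) (isSolvable_of_isPGroup (isPGroup_bar hS.isPGroup _)) ab
    (sup_le (bar_le_normalizer _ sO) (bar_le_normalizer _ n2))
    (piG_compl_of_isPGroup_ne (isPGroup_bar hS.isPGroup _) h.p2) fp
  have k8 := (dp_of_coprime_comm (bar_le_normalizer 𝐙(H) n2) (coprime_bar (h.copL hO) _) ab.1).card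
  rw [← bar_commutator (hO.trans nZ) nR, card_bar (y1.trans (hO.trans nZ)), (h.cx0 (y1.trans hO)
    (isPGroup_of_le y1 h2) y2 y3 y4 ((commutator_mono y1 y1).trans k5)).2, k7, cR,
    ← bar_inf_cent' nR n2 (hO.trans nZ) (h.copL hO) (.inl h.solv)] at k8
  have k9 : ♯(bar 𝐙(H) (O ⊓ 𝐂(R))) ≠ 2 := fun k => by
    have d1 := comm_iff_le_cent.1 (comm_of_bar_cyclic (inf_le_right.trans
      (cent_anti (inf_le_left.trans hO))) (isCyclic_of_card_prime (k ▸ Nat.prime_two)))
    have d2 : ⁅O, R⁆ ≤ 𝐂((O ⊓ 𝐂(R) : Subgroup G)) := three (by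
      rw [le_cent_iff_commutator'.1 inf_le_right, commutator_bot_left])
      (le_cent_iff_commutator.1 (((commutator_mono inf_le_left le_rfl).trans k5).trans h.ZR))
    rw [bar_eq_bot ((le_inf inf_le_left (cent_symm ((H2.centralizer_sup_commutator n2 (h.copL hO)
      (.inl h.solv)).ge.trans (sup_le d1 d2)))).trans k4), card_bot] at k
    omega
  have c0 := card_pos' (bar 𝐙(H) (O ⊓ 𝐂(R)))
  generalize ♯(bar 𝐙(H) (O ⊓ 𝐂(R))) = c at *
  have r1 := h.hr.two_le
  have r2 := h.r2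
  obtain ⟨m, rfl⟩ : ∃ m, r = m + 1 := ⟨r - 1, by omega⟩
  rw [Nat.add_sub_cancel, pow_succ' c, Nat.mul_right_inj c0.ne'] at k8
  by_cases c1 : c = 1
  · rw [c1, one_pow, Nat.pow_eq_one] at k8; omega
  exact (sq_lt_three_pow m).not_ge (k8 ▸ Nat.pow_le_pow_left (by omega) m)

end MD

variable [hp : Fact p.Prime]

theorem MD_central (h : MD p r H R V) (hN : N ≤ H) (h0 : N ≠ H) (h1 : H ≤ 𝐍(N)) (h2 : R ≤ 𝐍(N)) :
    N ≤ 𝐙(H) := by
  obtain ⟨S, hS, nS⟩ := exists_invariant_syl p h.nH h.cop (.inl h.solv)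
  have o1 := core_isPGroup (p := 2) H
  have o2 := (core_nrm {2} H).norm
  have o3 := le_normalizer_core {2} h.nH
  have k1 : core {2} H ≤ 𝐂(R) := by
    by_cases e : core {2} H ⊔ S = H
    · exact h.c_kill hS nS o1 o2 o3 e
    have s1 := commutator_le_left' nS
    have s2 := h.c_cS hS.le hS.isPGroup nS (core_le _ _) o1 (hS.le.trans o2) o3 e
    have s3 : H ⊓ 𝐂(core {2} H) = H := by_contra fun k => h.c_ne hS nS
      (PiG.eq_bot (π := {p}) (piG_of_isPGroup (isPGroup_of_le s1 hS.isPGroup) rfl)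
        ((h.p'2 o1).of_le ((h.rr hS.le nS).ge.trans ((commutator_mono (le_inf (s1.trans hS.le) s2)
          le_rfl).trans (h.c_two inf_le_left k (nrm_inf_centralizer o2).norm
            (H2.le_normalizer_inf h.nH (H2.le_normalizer_centralizer o3)))))))
    exact (le_inf (core_le _ _) (cent_symm (inf_eq_left.1 s3))).trans h.ZR
  have k2 : ⁅N, R⁆ = ⊥ := (h.rr hN h2).symm.trans
    (le_cent_iff_commutator.1 ((h.c_two hN h0 h1 h2).trans k1))
  refine le_inf hN (cent_symm (h.cm.ge.trans (three ?_ ?_)))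
  · rw [commutator_comm R, k2, commutator_bot_left]
  · exact eq_bot_iff.2 ((commutator_mono (commutator_le_left' h1) le_rfl).trans k2.le)

end Cfsg.Agent.FB
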