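import Cfsg.Agent.FB.T4

/-! Pairs of conjugates: no element of `E'` normalizes `Y`. -/

set_option autoImplicit false
set_option linter.unusedSectionVars false

namespace Cfsg.Agent.FB

open Subgroup FT H1 FA
open scoped commutatorElement

universe u

variable {G : Type u} [Group G] [Finite G] {r k : ℕ}
  {H R T Y E R' T' Y' E' J M' J' A B C D K L M U V X Z : Subgroup G}
  {a b c d e g m n s t u v w x y z v' x' y' : G}

theorem TB.nrmA (h : TB r H R T Y E) (i : Iso R Y X) (h1 : X ≤ A) (h2 : A ≤ T ⊓ 𝐍(Y))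
    (h3 : A ≤ 𝐂(X)) : R ≤ 𝐍(A) := fun b hb => mem_normalizer_of_conj_mem fun a ha => by
  obtain ⟨s, hs⟩ := h.wr_ex (h2 ha)
  have h4 : s⁻¹ * a ∈ 𝐂(X) := le_cent1_iff.1 (i.c.ge.trans (h.cw i.le hs.2 fun x hx =>
    (h.wr_mod hs (i.le hx)).2 (by rw [ce1.2 (cm (h3 ha) hx)]; exact one_mem _)))
  obtain ⟨t, ht, e, he, rfl⟩ := h.memS (h.iso_cent i ⟨hs.1, by
    simpa using mul_mem (h3 ha) (inv_mem h4)⟩) i.le
  have h5 := cm (mul_mem (h.EC he) hs.2) hb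
  have : b * a * b⁻¹ = ⁅b, t⁆ * a := by
    calc b * a * b⁻¹ = b * t * b⁻¹ * (b * (e * ((t * e)⁻¹ * a))) * b⁻¹ := by group
      _ = _ := by rw [h5, commutatorElement_def]; group
  exact this ▸ mul_mem (h1 (comm_mem' ht (i.n hb))) ha

namespace PS

variable (p : PS r H R T Y E M J R' T' Y' E' M' J')
include p

local notation "F" => E ⊓ 𝐍(Y')
local notation "F'" => E' ⊓ 𝐍(Y)
local notation "W" => W0 Y E (E' ⊓ 𝐍(Y))
local notation "P" => Y ⊓ 𝐂((E' ⊓ 𝐍(Y) : Subgroup G))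
local notation "P'" => Y' ⊓ 𝐂((E ⊓ 𝐍(Y') : Subgroup G))

theorem N1 (ha : a ∈ P') (n : NX R Y E W a X k) (hv : v ∈ F') (hy : Wr R Y v y) : y ∈ X ⊔ E := by
  by_contra hc
  have h0 : v ≠ 1 := fun e => hc (mem_sup_right (p.h.memE hy.1 (by simpa [e] using hy.2)))
  have hN := p.aN hv h0 ha
  have hW := p.wrW hv hy
  have l1 : X ⊔ E ≤ W := sup_le n.le p.EW
  have s1 : X ⊔ E ≤ P ⊔ E := by
    obtain ⟨Z, z1, z2, z3, z4, -⟩ := p.h.exists_im le_rfl p.h.nY (p.vN hv)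
    obtain ⟨s, hs⟩ := p.h.wr_ex hN
    refine sup_le (fun t ht => ?_) le_sup_right
    obtain ⟨y1, hy1, e, he, e1⟩ := (z4 t).1 (p.h.irr n.iso z3 z1 (n.im _ (inv_mem hW))
      ((p.h.im_mem z1 z2 (p.vN hv) hN (p.h'.ey hv.1 ha.1) hy hs).1
        ((z4 _).2 ⟨s, hs.1, 1, one_mem _, (mul_one _).symm⟩))
      (fun k => hc (inv_mem_iff.1 ((n.ker _ (inv_mem hW)).1 k))) ht)
    obtain ⟨w, e', he', e2, h2, h3⟩ := p.h.wr_w (p.vN hv) (p.vv hv) hy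
    have h4 := p.h.cmE hy1 h2.1
    have h5 := comm_mem hy1 hv.2
    refine p.P2 hv h0 hy (n.le ht) h4 ?_
    rw [e1, e2, p.h.comm_mulE h5 he (mul_mem h2.1 (p.h.EY he')), p.h.comm_mulE' h2.1 he' h5,
      ← p.h.einv (comm_mem h4 (p.h.NnE (p.vN hv))), commutatorElement_inv,
      commutatorElement_def v, conjugate_commutatorElement, ← h3, mul_inv_cancel_right,
      conj_eq_comm' v y1, p.h.comm_mul_left (inv_mem h5) hy1 h2.1, p.h.comm_inv_left h5 h2.1,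
      mul_inv_cancel_right]
  have hs := n.im y hW
  obtain ⟨b, hb, s3⟩ : ∃ b ∈ R, ∀ v' ∈ F', ∀ y', Wr R Y v' y' → ⁅b * y' * b⁻¹, ⁅y, a⁆⁆ = 1 →
      v' = 1 := by
    by_contra! k
    refine hc (p.h.iso_cent n.iso ⟨hy.1, le_cent1_iff.1 ((p.h.irr n.iso (n_iInf R 𝐂[y])
      (le_iInf fun b => le_cj_iff.2 fun e he => mem_cent1_iff.2
        (p.h.ey (cjm' (p.h.nE b.2) he) hy.1).symm) hs (mem_iInf.2 fun b => ?_)
      fun k => hc ((n.ker y hW).1 k)).trans (iInf_le_self _ _))⟩)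
    obtain ⟨v', hv', y', hy', k1, k2⟩ := k b b.2
    refine mem_cj.2 (mem_cent1_iff.2 (ce1.1 (p.indep hv' k2 hy' (cjm' (p.nW b.2) (l1 hs)) ?_ hv hy)))
    rw [← commutatorElement_inv, inv_eq_one, ← conj_eq_one_iff (a := (b : G)),
      conjugate_commutatorElement, ← k1]
    congr 1; group
  have s4 : W ≤ P ⊔ E := fun x hx => by
    have k : ∀ v' ∈ F', ∀ y', Wr R Y v' y' → b * y' * b⁻¹ ∈ W := fun v' hv' y' hy' =>
      cjm (p.nW hb) (p.wrW hv' hy')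
    obtain ⟨v', hv', y', hy', e⟩ := p.surj (fun z => ⁅b * z * b⁻¹, ⁅y, a⁆⁆)
      (fun v' hv' y' hy' => p.WF hv h0 (k v' hv' y' hy') (l1 hs))
      (fun v1 hv1 y1 hy1 v2 hv2 y2 hy2 e => s3 _ (mul_mem hv1 hv2) _ (p.wr_mul hv1 hv2 hy1 hy2) (by
        have e : ⁅b * y1 * b⁻¹, ⁅y, a⁆⁆ = ⁅b * y2 * b⁻¹, ⁅y, a⁆⁆ := e
        rw [← conj_mul, p.h.comm_mul_left (k _ hv1 _ hy1).1 (k _ hv2 _ hy2).1 (l1 hs).1, e]
        exact p.h.ea _ (p.h.cmE (k _ hv2 _ hy2).1 (l1 hs).1))) (p.WF hv h0 hx hW)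
    obtain ⟨e', he', e1⟩ := p.P3 hv hy (s1 (n.im _ (k _ hv' _ hy')))
    exact p.P2 hv h0 hy hx he' (by rw [← e, ← e1, p.adj2 hv h0 ha n (k _ hv' _ hy') hW])
  obtain ⟨u, hu, h1⟩ := p.neF hv h0
  obtain ⟨Q, q1, q2, q3⟩ := p.symm.small hu h1
  have q4 : Q ⊔ E ≤ W := (sup_le_sup_right q1 E).trans p.PhW
  have q5 : Q ≤ Y := q1.trans inf_le_left
  refine (p.h.bound n.iso n.le p.WY p.nW (fun k => hc (k hW)) le_sup_right q4 (by
    rw [cent_sup]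
    exact le_inf (sup_le (fun x hx => mem_cent_iff.2 fun z hz => comm_of_sq (q2 z hz) (q2 x hx)
      (q2 _ (mul_mem hz hx))) (p.h.cE.trans (cent_anti q5)))
      ((q4.trans p.WY).trans (cent_symm p.h.cE)))).not_gt (lt_of_le_of_lt ?_ q3)
  refine (relIndex_le_of_le_right (s4.trans (sup_le_sup_left (le_sup_right : E ≤ Q ⊔ E) _))
    (relIndex_pos _ _).ne').trans ?_
  rw [H2.relIndex_sup_of_le_normalizer (inf_le_left.trans (p.h.nrmZ le_sup_right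
    (q4.trans p.WY)))]
  exact relIndex_le_of_le_left le_sup_left (relIndex_pos _ _).ne'

variable (hv : v ∈ E' ⊓ 𝐍(Y)) (h0 : v ≠ 1)
include hv h0

theorem gd0 (h1 : ∀ a ∈ P', a * a = 1) (ha : a ∈ P) :
    ∀ x ∈ W0 Y' E' F, ⁅x, a⁆ ∈ E' := by
  by_contra h2
  obtain ⟨u, hu, h3⟩ := p.neF hv h0
  have q := p.symm
  obtain ⟨X, n⟩ := q.exists_NX hu h3 ha h2
  obtain ⟨y, hy⟩ := q.h.wr_ex (q.vN hu)
  have h4 : X ≤ P' ⊔ E' := q.h.irr n.iso (q.good1 hu h3 h1) le_sup_right (q.N1 ha n hu hy)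
    (q.wrP hu hy) fun k => h3 (q.wr_one hu hy k)
  have h5 : P' ⊔ E' ≤ X ⊔ E' := fun x hx => q.h.iso_cent n.iso ⟨(q.PhW hx).1,
    mem_cent_iff.2 fun t ht => comm_of_sq (q.eaPh h1 (h4 ht)) (q.eaPh h1 hx)
      (q.eaPh h1 (mul_mem (h4 ht) hx))⟩
  have l2 := (q.h.iso_le n.iso).trans q.h.YnE
  have h6 : ♯(bar E' (X ⊔ E')) ≤ ♯(F : Subgroup G) := by
    rw [card_bar l2, q.h.iso_ri n.iso, ← n.ri]
    refine le_trans ?_ ((H2.relIndex_centralizer_le_of_commutator_mem (W0 Y' E' F) (F') y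
      fun x hx => q.WF hu h3 hx (q.wrW hu hy)).trans q.cardF)
    rw [← inf_relIndex_right 𝐂[y]]
    exact relIndex_le_of_le_left (fun x hx => h5 (q.P1 hu h3 hy hx.2
      (ce1.2 (mem_cent1_iff.1 hx.1)))) (relIndex_pos _ _).ne'
  choose f hf using fun v : ↥(F) => q.h.wr_ex (q.vN v.2)
  have hf' := fun v : ↥(F) => q.N1 ha n v.2 (hf v)
  push Not at h2
  obtain ⟨w, hw, h2⟩ := h2
  obtain ⟨u', e⟩ := (Function.Injective.bijective_of_nat_card_le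
    (f := fun v => (⟨coset E' (f v), coset_mem_bar _ (hf' v)⟩ : bar E' (X ⊔ E')))
    (fun v v' e => Subtype.ext (by
      have e1 := (coset_eq_iff (l2 (hf' v)) (l2 (hf' v'))).1 (congrArg Subtype.val e)
      have e2 := q.wr_one (mul_mem v.2 v'.2) (q.wr_mul v.2 v'.2 (hf v) (hf v')) (by
        simpa [mul_assoc] using mul_mem (q.h.sq _ (hf v).1) e1)
      rw [eq_inv_of_mul_eq_one_left e2, p.h.einv v'.2.1])) h6).2 ⟨_, coset_mem_bar _ (n.im w hw)⟩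
  have h7 := q.h.wr_E (hf u') ((coset_eq_iff (l2 (hf' u')) (l2 (n.im w hw))).1
    (congrArg Subtype.val e))
  rw [mul_inv_cancel_left] at h7
  exact h2 ((n.ker w hw).2 (h5 (q.P1 u'.2 (fun k => h2 (q.h.memE h7.1 (by simpa [k] using inv_mem h7.2)))
    h7 hw (q.key hu h3 ha n hw))))
theorem gd : ∃ X, Iso R Y X ∧ X ≤ W ∧ ∀ v ∈ F', ∀ y, Wr R Y v y → y ∈ X ⊔ E := by
  by_cases h1 : ∀ a ∈ P', ∀ x ∈ W, ⁅x, a⁆ ∈ E
  · obtain ⟨u, hu, h3⟩ := p.neF hv h0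
    have h2 : ∀ a ∈ P, a * a = 1 := fun a ha => p.symm.triv hu h3 ha
      (p.gd0 hv h0 (fun a ha => p.triv hv h0 ha (h1 a ha)) ha)
    obtain ⟨y, hy⟩ := p.h.wr_ex (p.vN hv)
    obtain ⟨i, e⟩ := p.h.iso_of (p.PhW.trans p.WY) (fun x hx => mem_cent_iff.2 fun t ht =>
      comm_of_sq (p.eaPh h2 ht) (p.eaPh h2 hx) (p.eaPh h2 (mul_mem ht hx))) (p.good1 hv h0 h2)
      (fun k => h0 (p.wr_one hv hy (k (p.wrP hv hy)))) le_sup_right
    exact ⟨_, i, le_sup_left.trans (e.le.trans p.PhW), fun v hv y hy => e.ge (p.wrP hv hy)⟩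
  push Not at h1
  obtain ⟨a, ha, h1⟩ := h1
  obtain ⟨X, n⟩ := p.exists_NX hv h0 ha (by push Not; exact h1)
  exact ⟨X, n.iso, n.le, fun v hv y hy => p.N1 ha n hv hy⟩
theorem gd2 : ∃ X, Iso R Y X ∧ X ≤ P ∧ ∀ a ∈ P', ∀ x ∈ X, ⁅x, a⁆ ∈ E := by
  obtain ⟨X, i, h1, h2⟩ := p.gd hv h0
  refine ⟨X, i, fun x hx => ⟨i.le hx, mem_cent_iff.2 fun w hw => (ce1.1 ?_).symm⟩,
    fun a ha x hx => ?_⟩
  · obtain ⟨y, hy⟩ := p.h.wr_ex (p.vN hw)
    rw [p.h.wr_comm hy i.le (fun x hx => (p.memW.1 (h1 hx)).2 w hw) (i.c.ge hx)]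
    exact p.h.iso_comm i (mem_sup_left hx) (h2 w hw y hy)
  by_cases h3 : ∀ x ∈ W, ⁅x, a⁆ ∈ E
  · exact h3 x (h1 hx)
  obtain ⟨X1, n⟩ := p.exists_NX hv h0 ha h3
  obtain ⟨y, hy⟩ := p.h.wr_ex (p.vN hv)
  exact (n.ker x (h1 hx)).2 (p.h.irr i (p.h.iso_n n.iso) le_sup_right (h2 v hv y hy)
    (p.N1 ha n hv hy) (fun k => h0 (p.wr_one hv hy k)) hx)

theorem uf : False := by
  obtain ⟨u, hu, h1⟩ := p.neF hv h0
  obtain ⟨X, i, x1, x2⟩ := p.gd2 hv h0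
  obtain ⟨X', i', y1, y2⟩ := p.symm.gd2 hu h1
  have c1 : X' ≤ 𝐂(X) := fun a ha => mem_cent_iff.2 fun x hx => ce1.1 (p.ti (x2 a (y1 ha) x hx)
    (by rw [← commutatorElement_inv]; exact inv_mem (y2 x (x1 hx) a ha)))
  have h := p.h
  have h' := p.h'
  set A := (X ⊔ F) ⊔ (X' ⊔ F') with hA
  have a1 : A ≤ T ⊓ 𝐍(Y) := sup_le ((sup_le i.le (inf_le_left.trans h.EY)).trans h.YN)
    (sup_le (fun a ha => p.aN hv h0 (y1 ha)) fun _ => p.vN)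
  have a2 : A ≤ T' ⊓ 𝐍(Y') := sup_le (sup_le (fun a ha => p.symm.aN hu h1 (x1 ha))
    fun _ => p.symm.vN) ((sup_le i'.le (inf_le_left.trans h'.EY)).trans h'.YN)
  have n1 : R ≤ 𝐍(A) := h.nrmA i (le_sup_left.trans le_sup_left) a1 (sup_le (sup_le i.ab
    (inf_le_left.trans (h.cE.trans (cent_anti i.le)))) (sup_le c1 (cent_symm
      (x1.trans inf_le_right))))
  have n2 : R' ≤ 𝐍(A) := h'.nrmA i' (le_sup_left.trans le_sup_right) a2 (sup_le (sup_le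
    (cent_symm c1) (cent_symm (y1.trans inf_le_right))) (sup_le i'.ab
    (inf_le_left.trans (h'.cE.trans (cent_anti i'.le)))))
  have uA : u ∈ A := mem_sup_left (mem_sup_right hu)
  have l2 : X' ⊔ F' ≤ Y' := sup_le i'.le (inf_le_left.trans h'.EY)
  have a3 : IsPGroup 2 A := isPGroup_of_le (sup_le_sup_right (sup_le i.le
    (inf_le_left.trans h.EY)) _) (isPGroup_sup' h.Y2 (isPGroup_of_le l2 h'.Y2)
      (le_sup_right.trans (a1.trans inf_le_right)))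
  have a4 : A ≤ H := a1.trans (inf_le_left.trans h.syl.le)
  have nL := h.nN n1
  obtain ⟨U, S, o1, o2, o3, o4, o5, o6⟩ := h.ls _ inf_le_left
    (h.neLoc (ne_bot_of_mem uA h1) a3 a4 n1) nL
  have t1 : U ≤ M := (le_inf (o1.le.trans inf_le_left) ((commute_of_coprime
    (o1.le.trans inf_le_right) ((le_inf a4 le_normalizer).trans o1.norm)
    (coprime_of_isPGroup a3 (BS.odd_iff_piG.1 o2)).symm).trans (cent_le_cent1 uA))).trans
      (h.cent1 hu.1 h1)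
  have t2 : S ≤ M := by
    obtain ⟨T1, t1, t2, t3⟩ := exists_invariant_syl_ge h.nH h.cop (.inl h.solv)
      (isPGroup_sup o4 a3 (o3.trans inf_le_right)) (sup_le (o3.trans inf_le_left) a4)
      (H2.le_normalizer_sup o5 n1)
    obtain ⟨d, hd, e3⟩ := H2.exists_centralizer_conj_sylow h.nH h.cop (.inl h.solv) h.syl.le
      h.syl.isPGroup h.syl.not_dvd h.nT t1.le t1.isPGroup t1.not_dvd t3
    have e4 : cj d R = R := cj_eq_iff_mem_normalizer.2 (cent_le_norm _ hd.2)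
    have q := h.cj hd.1
    rw [e4, show cj d T = T1 from e3] at q
    have e5 : cj d M = M := by
      by_contra k
      exact h1 (NC q h ⟨d⁻¹, inv_mem hd.1, cj_eq_iff_mem_normalizer.2
        (inv_mem (cent_le_norm _ hd.2)), cj_inv_cj _ _, cj_inv_cj _ _⟩ k hu.1
        (q.tM (t2 (mem_sup_right uA))) (h.EC hu.1))
    exact le_sup_left.trans (t2.trans (e5 ▸ q.tM))
  obtain ⟨g, hg, e1, -⟩ := p.g
  obtain ⟨c, hc, e2⟩ := h.conjR hg n1 (e1 ▸ n2)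
  obtain ⟨c0, hc0, m, hm, rfl⟩ := H2.exists_centralizer_mul_commutator nL (h.copL inf_le_left)
    (.inl h.solv) hc
  refine h0 (p.notCM hv (inv_mem (sup_le t1 t2 (o6 hm))) ?_)
  rw [e1, cj_mul, ← cj_eq_iff_mem_normalizer.2 (cent_le_norm _ hc0.2)] at e2
  rw [inv_inv, ← cj_injective _ e2, ← cj_centralizer]
  exact conj_mem_cj (h'.EC hv.1)

end PS

theorem UF (h : TM r H R T Y E M J) (hg : g ∈ H) (hM : g ∉ M) (h1 : v ∈ cj g J) (h2 : v ∈ M)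
    (h3 : v * v = 1) : v = 1 := by
  by_contra h0
  have h' := h.cj hg
  have ne : M ≠ cj g M := fun e => hM (h.max _ inf_le_left (fun k => (h.simple M h.hM
    (k.ge.trans inf_le_right) h.nM).elim (fun e => h.ne (eq_bot_iff.2 (h.YT.trans (h.tM.trans e.le))))
      h.neM) (h.nN h.nM) (le_inf h.YH (h.YT.trans (h.tM.trans le_normalizer)))
    ⟨hg, cj_eq_iff_mem_normalizer.1 e.symm⟩)
  obtain ⟨D, d1, d2⟩ := exists_syl_ge (two_zpowers h3)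
    (zpowers_le.2 (show v ∈ M ⊓ cj g M from ⟨h2, h'.nJ.le h1⟩))
  obtain ⟨a, ha, a1⟩ := h.sylM.exists_le_cj d1.isPGroup (d1.le.trans inf_le_left)
  obtain ⟨b, hb, b1⟩ := h'.sylM.exists_le_cj d1.isPGroup (d1.le.trans inf_le_right)
  have a2 := h.cjM ha
  have b2 := h'.cjM hb
  refine PS.uf ⟨a2, b2, ⟨b * g * a⁻¹, mul_mem (mul_mem (h'.hM hb) hg) (inv_mem (h.hM ha)),
    ?_, ?_, ?_⟩, ne, ?_, ?_⟩
    ⟨b2.eJ.le ⟨h1, b1 (d2 (mem_zpowers v))⟩, a2.TN (a1 (d2 (mem_zpowers v)))⟩ h0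
  · rw [cj_mul, cj_mul, cj_inv_cj]
  · rw [cj_mul, cj_mul, cj_inv_cj]
  · rw [cj_mul, cj_mul, cj_eq_of_mem (inv_mem ha), cj_eq_of_mem hb]
  · exact (d1.eq_of_le (isPGroup_of_le inf_le_left a2.syl.isPGroup)
      (le_inf a1 (d1.le.trans inf_le_right)) (inf_le_inf_right _ a2.tM)).le.trans b1
  · exact (d1.eq_of_le (isPGroup_of_le inf_le_left b2.syl.isPGroup)
      (le_inf b1 (d1.le.trans inf_le_left)) (le_inf inf_le_right
        (inf_le_left.trans b2.tM))).le.trans a1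

end Cfsg.Agent.FB
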