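import Cfsg.Agent.FB.G3
import Cfsg.Agent.FB.T5
import Cfsg.Agent.S1911
import Cfsg.Agent.BS.Suz5
import Cfsg.Agent.BS.RedZ

/-! The strongly embedded subgroup and the final contradiction of the local analysis. -/

set_option autoImplicit false
set_option linter.unusedSectionVars false

namespace Cfsg.Agent.FB

open Subgroup FT H1 FA
open scoped commutatorElement

universe u

variable {G : Type u} [Group G] [Finite G] {p r : ℕ} [hp : Fact p.Prime]
  {H R T Y E M J A B D K L N Q S V X : Subgroup G} {c g v : G}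

theorem se_tight (hM : M ≠ ⊤) (n : J ⊴ M) (hv : v ∈ J) (h2 : orderOf v = 2)
    (U : ∀ g ∉ M, ∀ v ∈ cj g J, v ∈ M → orderOf v ≠ 2) (hT : normalClosure (J : Set G) = ⊤) :
    IsStronglyEmbedded M := by
  have eN : 𝐍(J) = M := le_antisymm (fun g hg => by_contra fun k =>
    U g k v (by rwa [cj_eq_iff_mem_normalizer.2 hg]) (n.le hv) h2) n.norm
  have ho : ∀ g : G, g ∉ 𝐍(J) → Odd ♯(cj g J ⊓ 𝐍(J) : Subgroup G) := fun g hg => by
    rw [eN] at hg ⊢
    exact BS.odd_of_no_inv fun v hv => U g hg v hv.1 hv.2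
  rcases S1911.result J ⟨Nat.not_odd_iff_even.1 (BS.not_odd_of_ord2 h2 hv), fun g hg =>
    (ho g hg).of_dvd_nat (card_dvd_of_le' (le_inf inf_le_right (inf_le_left.trans le_normalizer)))⟩ ho with h | h
  · exact absurd (eN ▸ normalizer_eq_top J) hM
  rw [eN, hT] at h
  refine (H3.isStronglyEmbedded_iff M).2 ⟨hM, ⟨v, n.le hv, h2⟩, fun g t ht e k => ?_⟩
  exact ((H3.isStronglyEmbedded_iff _).1 h).2.2 ⟨g, trivial⟩ ⟨t, trivial⟩ ht
    (by rw [← e, ← orderOf_coe]) k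

theorem SE_of (h : TM r H R T Y E M J) (h0 : E ≠ ⊥) :
    Cfsg.IsStronglyEmbedded (M.subgroupOf H) := by
  obtain ⟨e, he, h1⟩ := exists_ne_one_of_ne_bot h0
  have eJ : E ≤ J := h.eJ.ge.trans inf_le_left
  have eH := eJ.trans (h.nJ.le.trans h.hM)
  refine se_tight (J := J.subgroupOf H) (v := ⟨e, eH he⟩) (fun k => h.neM (le_antisymm h.hM
    (subgroupOf_eq_top.1 k))) (h.nJ.comap _) (eJ he) (by rw [← orderOf_coe]; exact BS.ord2 (h.ea e he) h1)
    (fun g hg v hv k e => BS.ne1 e (Subtype.ext (UF h g.2 hg (mem_cj.2 (mem_subgroupOf.1 (mem_cj.1 hv))) k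
      (congrArg Subtype.val (BS.sq1 e))))) (eq_top_iff.2 fun x _ => ?_)
  have k : SF.ncl H E = H := (h.simple _ (SF.ncl_le eH le_normalizer) (SF.le_norm_ncl H E) fun a ha =>
    mem_normalizer_of_cj_le (cj_le_iff_le_cj_inv.2 (iSup₂_le fun g hg => cj_le_iff_le_cj_inv.1 (by
      rw [← cj_mul, show a * g = a * g * a⁻¹ * a by group, cj_mul, cj_eq_iff_mem_normalizer.2
        (cent_le_norm E (cent_symm (h.eE.ge.trans inf_le_right) ha))]
      exact SF.cj_le_ncl (cjm (h.nH ha) hg))))).resolve_left (ne_bot_of_le (SF.le_ncl H E) h0)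
  obtain ⟨y, hy, e1⟩ := (SF.ncl_le (W := (normalClosure (J.subgroupOf H : Set H)).map H.subtype)
    (fun y hy => ⟨⟨y, eH hy⟩, subset_normalClosure (eJ hy), rfl⟩) fun g hg =>
      mem_normalizer_of_conj_mem (by
        rintro _ ⟨y, hy, rfl⟩
        exact ⟨_, normalClosure_normal.conj_mem y hy ⟨g, hg⟩, rfl⟩)) (k.ge x.2)
  exact (Subtype.ext e1 : y = x) ▸ hy

open MulAction in
theorem se_core (h : IsStronglyEmbedded M) (h3 : core {2}ᶜ (⊤ : Subgroup G) = ⊥) (hQ : Q ⊴ M)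
    (h4 : IsPGroup p Q) (p2 : p ≠ 2) : Q = ⊥ := by
  haveI := BS.oneFix_of_se h
  obtain ⟨h0, ⟨s, hs, h1⟩, h5⟩ := (H3.isStronglyEmbedded_iff M).1 h
  obtain ⟨g, -, hg⟩ := SetLike.not_le_iff_exists.1 (top_le_iff.not.2 h0)
  have h2 : ∀ x : G, x • ((1 : G) : G ⧸ M) = ((1 : G) : G ⧸ M) ↔ x ∈ M := fun x => by
    rw [MulAction.Quotient.smul_coe, smul_eq_mul, eq_comm, QuotientGroup.eq]; simp
  have b : BS.Base G (G ⧸ M) := by
    refine ⟨fun a => ?_, fun a => ?_, by_contra fun e => ?_, fun x hx => ?_⟩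
    · obtain ⟨a, rfl⟩ := QuotientGroup.mk_surjective a
      exact ⟨_, by simpa using (⟨h1, (h2 s).2 hs⟩ : BS.Zi _ s).conj a⟩
    · by_cases e : a = ((1 : G) : G ⧸ M)
      · exact ⟨g • a, e ▸ (h2 g).not.2 hg⟩
      · exact ⟨_, Ne.symm e⟩
    · have := mem_bot.1 (h3.le (BS.conj_mul_mem_core e h1 (mem_top _) (mem_top g)))
      exact hg (h5 g s hs h1 (eq_inv_of_mul_eq_one_left this ▸ inv_mem hs))
    · refine mem_bot.1 (h3.le (le_core (N := (toPermHom G (G ⧸ M)).ker) (nrm_top_iff.2 inferInstance)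
        (BS.odd_iff_piG.1 (BS.odd_of_no_inv fun t ht e => hg (h5 g t ((h2 t).1 (Equiv.ext_iff.1 ht
          ((1 : G) : G ⧸ M))) e
          ((h2 _).1 (Equiv.ext_iff.1 ((MonoidHom.normal_ker _).conj_mem t ht g) ((1 : G) : G ⧸ M))))))
        (Equiv.ext hx)))
  obtain ⟨P, c, t, k, rk⟩ := b.suz BS.regThm BS.twoThm ((1 : G) : G ⧸ M)
  have k2 := BS.twoThm _ _ _ _ _ _ k rk
  have eM : stabilizer G ((1 : G) : G ⧸ M) = M := Subgroup.ext h2
  have cp := coprime_of_isPGroup_ne h4 k2 p2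
  have k3 : Q ≤ 𝐂(P) := commute_of_coprime (hQ.le.trans (eM.ge.trans k.norm))
    (k.le.trans (eM.le.trans hQ.norm)) cp
  refine eq_bot_iff.2 fun y hy => b.faith y fun d => ?_
  have ya := (h2 y).2 (hQ.le hy)
  by_cases e : d = ((1 : G) : G ⧸ M)
  · exact e ▸ ya
  obtain ⟨x, hx, e1⟩ := k.trans' e (c := d) (d := y • d) fun e1 => BS.smul_ne e (e1.trans ya.symm)
  have k4 : ∀ n : ℕ, x ^ n • d = y ^ n • d := fun n => by
    induction n with
    | zero => rw [pow_zero, pow_zero]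
    | succ n ih => rw [pow_succ', mul_smul, ih, smul_smul, cm (pow_mem (k3 hy) n) hx, mul_smul, e1,
        smul_smul, pow_succ]
  have k5 := k.eq_one_of_fix (pow_mem hx ♯Q) e (by rw [k4, pow_card_eq_one'' hy, one_smul])
  rw [← e1, (pow_eq_one_iff_of_coprime cp).1 ⟨k5, pow_card_eq_one'' hx⟩, one_smul]

theorem SEO (nH : R ≤ 𝐍(H)) (hs : ∀ N ≤ H, H ≤ 𝐍(N) → R ≤ 𝐍(N) → N = ⊥ ∨ N = H) (hM : M ≤ H)
    (h : Cfsg.IsStronglyEmbedded (M.subgroupOf H)) (hQ : Q ⊴ M) (h1 : IsPGroup p Q) (p2 : p ≠ 2) :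
    Q = ⊥ := by
  obtain ⟨-, ⟨s, -, h2⟩, -⟩ := (H3.isStronglyEmbedded_iff _).1 h
  have k := (hs _ (core_le {2}ᶜ H) (core_nrm _ H).norm (le_normalizer_core _ nH)).resolve_right fun e =>
    BS.not_odd_of_ord2 ((orderOf_coe s).trans h2) (e.ge s.2) (BS.odd_core H)
  have := map_core_le H.subtype {2}ᶜ ⊤
  rw [← MonoidHom.range_eq_map, range_subtype, k, le_bot_iff,
    map_eq_bot_iff_of_injective _ H.subtype_injective] at this
  rw [← map_subgroupOf_eq_of_le (hQ.le.trans hM), se_core (Q := Q.subgroupOf H) h this (hQ.comap _)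
    h1.comap_subtype p2, Subgroup.map_bot]

theorem TG_false (h : TG p r H R T Y E) : False := by
  by_cases h0 : Qs p H R E = ⊥
  · exact (TH_of h h0).false
  have m := TM_of h h0
  refine h0 (SEO h.nH h.simple m.hM (SE_of m fun e => h0 ?_) ⟨le_inf (iSup_le fun e => Gp_le.trans
    ((commutator_le_left' (H2.le_normalizer_inf h.nH ((le_cent1_iff.2 ((h.eE.ge e.2.1).2)).trans
      le_normalizer))).trans inf_le_left)) le_normalizer, inf_le_right⟩ (QP h) h.p2)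
  exact iSup_eq_bot.2 fun x => absurd (mem_bot.1 (e.le x.2.1)) x.2.2

end Cfsg.Agent.FB
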