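import Cfsg.Agent.FB.Defs

/-! An odd element of `C(R)` centralizing `C_Y(R)` centralizes `Y = [Y, R]`. -/

set_option autoImplicit false
set_option linter.unusedSectionVars false

namespace Cfsg.Agent.FB

open Subgroup FT H1 FA
open scoped commutatorElement

universe u

variable {G : Type u} [Group G] [Finite G] {p r : ℕ} [hp : Fact p.Prime]
  {H R T Y E M J A B D K L N Q S V X : Subgroup G} {c g v : G}

omit hp in
theorem t9_md_mono (h : A ≤ B) : md V A ≤ md V B := bar_mono _ (map_mono h)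
omit hp in
theorem t9_md_cent (h : A ≤ 𝐂(B)) : md V A ≤ 𝐂(md V B) := bar_le_cent _
  (le_cent_iff_commutator.2 (by
    rw [← map_commutator, le_cent_iff_commutator.1 h, Subgroup.map_bot]))
omit hp in
theorem t9_md_comm (hA : A ≤ 𝐍(V)) (hB : B ≤ 𝐍(V)) : md V ⁅A, B⁆ = ⁅md V A, md V B⁆ := by
  rw [md, md, md, map_commutator, bar_commutator (nd hA) (nd hB)]

theorem T9_aux (p2 : p ≠ 2) (r2 : r ≠ 2) (m : ℕ) : ∀ {G : Type u} [Group G] [Finite G]
    {H R V Y B : Subgroup G}, ♯H + ♯V = m → MH p r H R V → Y ≤ H → IsPGroup 2 Y → R ≤ 𝐍(Y) →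
    ⁅Y, R⁆ = Y → Y ⊓ 𝐂(R) ≤ 𝐂(H) → B ≤ H → B ≤ 𝐂(R) → B ≤ 𝐍(Y) → PiG {2}ᶜ B →
    ⁅Y, B⁆ ≤ 𝐂(V) := by
  induction m using Nat.strong_induction_on with
  | _ m ih =>
  intro G _ _ H R V Y B hn h hY h2 n e hE b1 b2 b3 b4
  rcases eq_or_ne V ⊥ with rfl | h0
  · rw [cent_bot]; exact le_top
  have y1 := commutator_le_left' b3
  by_cases h1 : H ⊓ 𝐂(V) = ⊥
  swap
  · have := ih _ (by
      rw [← hn, card_mv, card_md h.hV, Nat.add_lt_add_iff_right]
      exact relIndex_lt h1) rfl (h.model h0) (t9_md_mono hY) (isPGroup_bar (h2.map _) _) (md_norm n)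
      (by rw [← t9_md_comm (hY.trans h.hV) h.nV, e])
      (by rw [← md_inf_cent h.nV (hY.trans h.hV) n (h.copL hY) h.solv]; exact t9_md_cent hE)
      (t9_md_mono b1) (t9_md_cent b2) (md_norm b3) (H2.PiNum.of_dvd b4 (card_md_dvd _ _))
    rw [← t9_md_comm (hY.trans h.hV) (b1.trans h.hV)] at this
    rw [← md_eq_bot ((y1.trans hY).trans h.hV), eq_bot_iff, ← md_faith h.hV]
    exact le_inf (t9_md_mono (y1.trans hY)) this
  by_cases h3 : ∀ W ≤ V, H ≤ 𝐍(W) → R ≤ 𝐍(W) → W = ⊥ ∨ W = V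
  · by_cases y0 : Y = ⊥
    · rw [y0, commutator_bot_left]; exact bot_le
    have k : MB p r H R V := ⟨⟨h, h1, r2⟩, p2, h3⟩
    rw [le_cent_iff_commutator.1 (H2.le_centralizer_of_commutator_le_centralizer b3
      (coprime_of_isPGroup h2 b4).symm (commutator_le.2 fun y hy c hc => cent_anti b1
        (k.t9 hY h2 n e y0 (le_inf (inf_le_left.trans hY) hE) ⟨⟨b1 hc, b2 hc⟩, b3 hc⟩ hy).2))]
    exact bot_le
  push Not at h3
  obtain ⟨W, w1, w2, w3, w4, w5⟩ := h3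
  have nW : V ≤ 𝐍(W) := (nrm_of_comm h.ab.1 w1).norm
  refine stable_factor_cent ((y1.trans hY).trans h.hV) (coprime_of_isPGroup h.ab.isPGroup
    (piG_compl_of_isPGroup_ne (isPGroup_of_le y1 h2) p2.symm)).symm ?_ (ih _ (hn ▸
      Nat.add_lt_add_left (H1.card_lt_of_lt (w1.lt_of_ne w5)) _) rfl (h.subV w1 w3 w2) hY h2 n e hE
      b1 b2 b3 b4)
  rw [commutator_comm, ← bar_le_cent_iff ((y1.trans hY).trans w2) nW,
    bar_commutator (hY.trans w2) (b1.trans w2)]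
  exact ih _ (hn ▸ Nat.add_lt_add_of_le_of_lt (Nat.le_of_dvd (card_pos' _) (card_bar_dvd _ _))
    (card_bar_lt ⟨w1, nW⟩ w4)) rfl (h.quo w1 w3) (bar_mono _ hY) (isPGroup_bar h2 _)
    (bar_le_normalizer _ n) (by rw [← bar_commutator (hY.trans w2) w3, e])
    (by rw [← bar_inf_cent' w3 n (hY.trans w2) (h.copL hY) (.inl h.solv)]; exact bar_le_cent _ hE)
    (bar_mono _ b1) (bar_le_cent _ b2) (bar_le_normalizer _ b3) (b4.bar _)

theorem T9 (h : MF p r H R V) (p2 : p ≠ 2) (hY : Y ≤ H) (h2 : IsPGroup 2 Y) (n : R ≤ 𝐍(Y))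
    (e : ⁅Y, R⁆ = Y) (hc : c ∈ H ⊓ 𝐂(R) ⊓ 𝐍(Y)) (ho : Odd (orderOf c))
    (hE : c ∈ 𝐂((Y ⊓ 𝐂(R) : Subgroup G))) : c ∈ 𝐂(Y) := by
  have b2 : zpowers c ≤ 𝐂(R) := zpowers_le.2 hc.1.2
  have b3 : zpowers c ≤ 𝐍(Y) := zpowers_le.2 hc.2
  have l : Y ⊔ zpowers c ≤ H := sup_le hY (zpowers_le.2 hc.1.1)
  have := T9_aux p2 h.r2 _ rfl (h.sub l (H2.le_normalizer_sup n ((cent_symm b2).trans
    (cent_le_norm _)))) le_sup_left h2 n e (cent_symm (sup_le (cent_symm ((h.A4 p2 hY h2 n e).1.le.trans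
      inf_le_right)) (zpowers_le.2 hE))) le_sup_right b2 b3
    (ZI.piG_two_compl.2 (by rwa [Nat.card_zpowers]))
  exact cent_symm (le_cent_iff_commutator.2 (h.bot ((commutator_le_left' b3).trans hY) this))
    (mem_zpowers c)

end Cfsg.Agent.FB
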