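import Cfsg.Agent.FB.P2
import Cfsg.Agent.FB.SE
import Cfsg.Agent.FB.T9

/-! The minimal counterexample does not exist: passage to the central quotient. -/

set_option autoImplicit false
set_option linter.unusedSectionVars false

namespace Cfsg.Agent.FB

open Subgroup FT H1 FA
open scoped commutatorElement

universe u

variable {G : Type u} [Group G] [Finite G] {p r : ℕ} [hp : Fact p.Prime] {H R V : Subgroup G}

theorem MD_false (h : MD p r H R V) : False := by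
  obtain ⟨T, hT, nT⟩ := exists_invariant_syl 2 h.nH h.cop (.inl h.solv)
  obtain ⟨S, hS, nS⟩ := exists_invariant_syl p h.nH h.cop (.inl h.solv)
  have nZ := ctr_nrm H
  have nR := le_normalizer_ctr h.nH
  have y1 := commutator_le_left' nT
  have y2 := y1.trans hT.le
  have y3 := isPGroup_of_le y1 hT.isPGroup
  have y4 := right_le_normalizer_commutator T R
  have y5 := h.rr hT.le nT
  have y6 : ⁅T, R⁆ ≠ ⊥ := fun e => h.ne (PW_eq_bot.2 (isPGroup_of_le (Gp_le.trans (h.cm.ge.trans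
    ((h.idx le_rfl h.nH hS.le nS ⟨S, hS, nS, commutator_le_left' nS⟩
      ⟨T, hT, nT, e.le.trans bot_le⟩).le.trans (commutator_le_left' nS)))) hS.isPGroup))
  have bc := bar_commutator (hT.le.trans nZ.norm) nR
  obtain ⟨a1, a2, a3, a4⟩ := h.A4 h.p2 y2 y3 y4 y5
  generalize ⁅T, R⁆ = Y at *
  have y7 := y2.trans nZ.norm
  have y8 : ¬ Y ≤ 𝐙(H) := fun k => y6 (y5.symm.trans (le_cent_iff_commutator.1 (k.trans h.ZR)))
  have un : ∀ L ≤ bar 𝐙(H) H, bar 𝐙(H) R ≤ 𝐍(L) → unbar 𝐙(H) L ≤ H ∧ R ≤ 𝐍(unbar 𝐙(H) L) ∧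
      (L ≠ bar 𝐙(H) H → unbar 𝐙(H) L ≠ H) ∧ bar 𝐙(H) ⁅unbar 𝐙(H) L, R⁆ = ⁅L, bar 𝐙(H) R⁆ :=
    fun L a b => ⟨(unbar_le_iff nZ).2 a, le_normalizer_unbar nR b,
      fun k e => k (by rw [← bar_unbar L, e]), by rw [bar_commutator (unbar_le _) nR, bar_unbar]⟩
  have np : ∀ A ≤ H, PiG {p}ᶜ A → bar 𝐙(H) A ≠ bar 𝐙(H) H := fun A a b e =>
    h.ne (PW_of_piG (piG_of_bar nZ.norm h.Zp (e ▸ b.bar _)))
  have sim : ∀ M ≤ bar 𝐙(H) H, bar 𝐙(H) H ≤ 𝐍(M) → bar 𝐙(H) R ≤ 𝐍(M) →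
      M = ⊥ ∨ M = bar 𝐙(H) H := fun M a b c => or_iff_not_imp_right.2 fun k => by
    obtain ⟨u1, u2, u3, -⟩ := un M a c
    rw [← bar_unbar M, bar_eq_bot (MD_central h u1 (u3 k) (le_normalizer_unbar nZ.norm b) u2)]
  have lift : ∀ x ∈ bar 𝐙(H) H ⊓ 𝐂(bar 𝐙(H) R) ⊓ 𝐍(bar 𝐙(H) Y),
      ∃ d ∈ H ⊓ 𝐂(R) ⊓ 𝐍(Y), coset 𝐙(H) d = x := fun x hx => by
    obtain ⟨d, hd, rfl⟩ := (mem_bar' (inf_le_left.trans nZ.norm)).1
      ((bar_inf_cent' nR h.nH nZ.norm h.cop (.inl h.solv)).ge hx.1)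
    have e : ⁅Y ⊔ 𝐙(H), R⁆ = Y := le_antisymm (H2.commutator_sup_left_le le_normalizer
      ((inf_le_right.trans (cent_anti y2)).trans (cent_le_norm _)) y5.le
      ((le_cent_iff_commutator.1 h.ZR).le.trans bot_le)) (y5.ge.trans (commutator_mono le_sup_left le_rfl))
    have := mem_normalizer_unbar (nZ.norm hd.1) hx.2
    rw [unbar_bar y7] at this
    exact ⟨d, ⟨hd, e ▸ H2.le_normalizer_commutator (zpowers_le.2 this)
      (zpowers_le.2 (cent_le_norm _ hd.2)) (mem_zpowers d)⟩, rfl⟩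
  refine TG_false (p := p) (r := r) (T := bar 𝐙(H) T) (E := bar 𝐙(H) 𝐙(Y)) ⟨⟨h.hr, h.r2,
    (card_bar_of_coprime nR (h.copL inf_le_left)).trans h.cR, bar_le_normalizer _ h.nH,
    coprime_bar h.cop _, sim, hT.bar nZ.norm, bar_le_normalizer _ nT, bc.symm,
    fun e => y8 ((bar_eq_bot_iff y7).1 e), np T hT.le (h.p'2 hT.isPGroup),
    by rw [← bar_inf_cent' nR y4 y7 (h.copL y2) (.inl h.solv), a1],
    bar_le_cent _ inf_le_right, fun y hy => ?_, by rw [← bar_commutator y7 y7]; exact bar_mono _ a2,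
    fun y hy => ?_, fun X x1 x2 x3 x4 x5 => ?_⟩, h.p2,
    by rw [← bar_commutator nZ.norm nR, h.cm], fun q hq q1 q2 A l1 l2 l3 => ?_,
    fun L l1 l2 l3 => ?_, fun x hx x1 x2 => ?_, fun e x hx => ?_⟩
  · obtain ⟨z, hz, rfl⟩ := (mem_bar' y7).1 hy
    rw [← coset_mul (y7 hz) (y7 hz)]; exact coset_mem_bar _ (a3 z hz)
  · obtain ⟨z, hz, rfl⟩ := (mem_bar' (inf_le_left.trans y7)).1 hy
    rw [← coset_mul (y7 hz.1) (y7 hz.1), a4 z hz, coset_one]
  · have k : ∀ X ≤ bar 𝐙(H) Y, bar 𝐙(H) R ≤ 𝐍(X) → R ≤ 𝐍((Y ⊓ unbar 𝐙(H) X : Subgroup G)) ∧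
        bar 𝐙(H) (Y ⊓ unbar 𝐙(H) X) = X := fun X a b =>
      ⟨H2.le_normalizer_inf y4 (le_normalizer_unbar nR b), by rw [bar_inf_unbar, inf_eq_right.2 a]⟩
    obtain ⟨k1, k2⟩ := k X x1 x3
    obtain ⟨k3, k4⟩ := k _ inf_le_left (H2.le_normalizer_inf (bar_le_normalizer _ y4)
      (H2.le_normalizer_centralizer x3))
    have k5 := (commutator_le_left' k1).trans inf_le_left
    have k6 : bar 𝐙(H) ⁅Y ⊓ unbar 𝐙(H) X, R⁆ = X := by
      rw [bar_commutator (inf_le_left.trans y7) nR, k2, x4]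
    have k7 := right_le_normalizer_commutator (Y ⊓ unbar 𝐙(H) X) R
    have k8 := h.rr (inf_le_left.trans y2) k1
    generalize ⁅Y ⊓ unbar 𝐙(H) X, R⁆ = X1 at *
    subst k6
    have k9 : X1 ≠ ⊥ := fun e => x5 (by rw [e, bar_bot])
    refine ⟨(card_bar (k5.trans y7)).trans (h.cx0 (k5.trans y2) (isPGroup_of_le k5 y3) k7 k8 k9
      ((bar_le_cent_iff (k5.trans y7) (k5.trans y7)).1 x2)).2, ?_⟩
    rw [← k4, ← bar_sup (k5.trans y7) (inf_le_left.trans y7), ← a1]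
    refine bar_mono _ (h.cx1 y2 y3 (a2.trans inf_le_right) inf_le_left k3 (le_inf k5
      ((le_unbar_iff (k5.trans y7)).2 (le_inf x1 x2))) k7 k8 k9 ((bar_le_cent_iff (k5.trans y7)
        (inf_le_left.trans y7)).1 (cent_symm (k4.le.trans inf_le_right))))
  · haveI := Fact.mk hq
    obtain ⟨u1, u2, -, -⟩ := un A l1 l3
    obtain ⟨Q, hQ, nQ⟩ := exists_invariant_syl q u2 (h.copL u1) (.inl h.solv)
    have q3 := hQ.bar (unbar_le A)
    rw [bar_unbar] at q3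
    rw [q3.eq_of_le l2 q3.le le_rfl, ← bar_commutator (hQ.le.trans (unbar_le A)) nR,
      h.A2 q1 q2 (hQ.le.trans u1) hQ.isPGroup nQ, bar_bot]
  · obtain ⟨u1, u2, u3, u4⟩ := un L l1 l3
    rw [← PW_eq_bot, ← u4, ← bar_PW ((commutator_le_left' u2).trans (unbar_le L)),
      h.ih _ u1 (u3 l2) u2, bar_bot]
  · obtain ⟨d, hd, rfl⟩ := lift x hx
    obtain ⟨a, b, e, ha, hb, ⟨k, pa⟩, pb⟩ := exists_pPart (p := 2) d
    have nd := zpowers_le.2 (nZ.norm hd.1.1)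
    have e1 : coset 𝐙(H) a = 1 := eq_one_of_pow_of_coprime (p := 2) (k := k)
      (by rw [← coset_pow (nd ha), pa, coset_one])
      ((Nat.coprime_two_right.2 x2).coprime_dvd_left (orderOf_dvd_of_mem_zpowers
        (bar_zpowers (nZ.norm hd.1.1) ▸ coset_mem_bar _ ha)))
    replace hb := zpowers_le.2 hd hb
    have nb := zpowers_le.2 (nZ.norm hb.1.1)
    rw [e, coset_mul (nd ha) (nb (mem_zpowers b)), e1, one_mul] at x1 ⊢
    refine bar_cent_le _ _ (coset_mem_bar _ (T9 h.toMF h.p2 y2 y3 y4 y5 hb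
      (Nat.coprime_two_right.1 pb) ?_))
    rw [a1]
    refine cent_symm (H2.le_centralizer_of_commutator_le_centralizer
      (le_normalizer_ctr (zpowers_le.2 hb.2)) (coprime_of_isPGroup
        (isPGroup_of_le inf_le_left y3) (piG_compl_iff_coprime.2 (by rwa [Nat.card_zpowers]))).symm
      (((bar_le_cent_iff (inf_le_left.trans y7) nb).1 (cent_symm ?_)).trans
        (inf_le_right.trans (cent_anti (zpowers_le.2 hb.1.1))))) (mem_zpowers b)
    rw [bar_zpowers (nb (mem_zpowers b))]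
    exact zpowers_le.2 x1
  · have hE := (bar_eq_bot_iff (inf_le_left.trans y7)).1 e
    obtain ⟨c, hc, rfl⟩ := lift x hx
    refine mem_cent_iff.2 fun y hy => ?_
    obtain ⟨z, hz, rfl⟩ := (mem_bar' y7).1 hy
    rw [← ce1, ← coset_commutator (y7 hz) (nZ.norm hc.1.1)]
    exact coset_eq_one (h.t9 y2 y3 y4 y5 y6 (a1.le.trans hE) hc hz)

end Cfsg.Agent.FB
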