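import Cfsg.Agent.FB.P3

/-! The general Hall-Higman-Shult type theorem and its consequences. -/

set_option autoImplicit false
set_option linter.unusedSectionVars false

namespace Cfsg.Agent.FB

open Subgroup FT H1 FA
open scoped commutatorElement

universe u

variable {G : Type u} [Group G] [Finite G] {p r : ℕ} [hp : Fact p.Prime]
  {H R T Y E M J A B D K L N Q S V X : Subgroup G} {c g v : G}

omit hp in
theorem md_comm (hA : A ≤ 𝐍(V)) (hB : B ≤ 𝐍(V)) : md V ⁅A, B⁆ = ⁅md V A, md V B⁆ := by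
  rw [md, md, md, map_commutator, bar_commutator (nd hA) (nd hB)]

theorem HH_aux (p2 : p ≠ 2) (r2 : r ≠ 2) (n : ℕ) : ∀ {G : Type u} [Group G]
    [Finite G] {H R V : Subgroup G}, ♯H + ♯V = n → MH p r H R V → PW p ⁅H, R⁆ ≤ 𝐂(V) := by
  induction n using Nat.strong_induction_on with
  | _ n ih =>
  intro G _ _ H R V hn h
  rcases eq_or_ne V ⊥ with rfl | h0
  · rw [cent_bot]; exact le_top
  have c1 := commutator_le_left' h.nH
  by_cases cm : ⁅H, R⁆ = H
  swap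
  · have := ih _ (hn ▸ Nat.add_lt_add_right (H1.card_lt_of_lt (c1.lt_of_ne cm)) _) rfl
      (h.sub c1 (right_le_normalizer_commutator _ _))
    rwa [h.rr le_rfl h.nH] at this
  by_cases h1 : H ⊓ 𝐂(V) = ⊥
  swap
  · have := ih _ (by
      rw [← hn, card_mv, card_md h.hV, Nat.add_lt_add_iff_right]
      exact relIndex_lt h1) rfl (h.model h0)
    rw [← md_comm h.hV h.nV, cm] at this
    rw [cm, ← md_eq_bot (PW_le.trans h.hV), md_PW h.hV, eq_bot_iff, ← md_faith h.hV]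
    exact le_inf PW_le this
  by_cases h2 : ∀ W ≤ V, H ≤ 𝐍(W) → R ≤ 𝐍(W) → W = ⊥ ∨ W = V
  · by_contra k
    refine MD_false ⟨⟨⟨h, h1, r2⟩, p2, h2⟩, cm, fun L a b c => eq_bot_iff.2 ((le_inf
      ((PW_le.trans (commutator_le_left' c)).trans a) (ih _ ?_ rfl (h.sub a c))).trans h1.le),
      fun e => k (by rw [cm, e]; exact bot_le)⟩
    exact hn ▸ Nat.add_lt_add_right (H1.card_lt_of_lt (a.lt_of_ne b)) _
  push Not at h2
  obtain ⟨W, w1, w2, w3, w4, w5⟩ := h2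
  have i1 := ih _ (hn ▸ Nat.add_lt_add_left
    (H1.card_lt_of_lt (w1.lt_of_ne w5)) _) rfl (h.subV w1 w3 w2)
  have nW : V ≤ 𝐍(W) := (nrm_of_comm h.ab.1 w1).norm
  have i2 := ih _ (hn ▸ Nat.add_lt_add_of_le_of_lt (Nat.le_of_dvd (card_pos' _) (card_bar_dvd _ _))
    (card_bar_lt ⟨w1, nW⟩ w4)) rfl (h.quo w1 w3)
  rw [← bar_commutator w2 w3] at i2
  rw [cm] at i1 i2 ⊢
  refine PW_stab h.ab.isPGroup (PW_le.trans h.hV) ?_ i1
  rw [commutator_comm, ← bar_le_cent_iff (PW_le.trans w2) nW, bar_PW w2]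
  exact i2

theorem HH (h : MH p r H R V) : PW p ⁅H, R⁆ ≤ 𝐂(V) := by
  by_cases r2 : r = 2
  · exact PW_le.trans (h.two r2)
  by_cases p2 : p = 2
  swap
  · exact HH_aux p2 r2 _ rfl h
  subst p2
  rcases eq_or_ne V ⊥ with rfl | h0
  · rw [cent_bot]; exact le_top
  have c1 := (commutator_le_left' h.nH).trans h.hV
  have m : MF 2 r (md V H) (md V R) (mv V V) := ⟨h.model h0, md_faith h.hV, r2⟩
  obtain ⟨T, hT, nT⟩ := exists_invariant_syl 2 m.nH m.cop (.inl m.solv)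
  have e := m.idx le_rfl m.nH hT.le nT ⟨T, hT, nT, commutator_le_left' nT⟩
    ⟨T, hT, nT, commutator_le_left' nT⟩
  rw [← md_eq_bot (PW_le.trans c1), md_PW c1, md_comm h.hV h.nV, e, PW_eq_bot]
  exact isPGroup_of_le (Gp_le.trans (commutator_le_left' nT)) hT.isPGroup

theorem MK (h : MH p r K R V) (h1 : ⁅K, R⁆ = K) (h2 : ⁅K, K⁆ = K) : K ≤ 𝐂(V) := by
  by_cases r2 : r = 2
  · exact h1.ge.trans (h.two r2)
  rcases eq_or_ne V ⊥ with rfl | h0
  · rw [cent_bot]; exact le_top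
  have m : MF p r (md V K) (md V R) (mv V V) := ⟨h.model h0, md_faith h.hV, r2⟩
  have e1 : ⁅md V K, md V R⁆ = md V K := by rw [← md_comm h.hV h.nV, h1]
  have e2 : ⁅md V K, md V K⁆ = md V K := by rw [← md_comm h.hV h.hV, h2]
  rw [← md_eq_bot h.hV]
  generalize md V K = K' at *
  generalize md V R = R' at *
  have a := HH m.toMH
  rw [e1] at a
  have a1 : IsPGroup p (Gp p K') := PW_eq_bot.1 (m.bot PW_le a)
  obtain ⟨T, hT, nT⟩ := exists_invariant_syl 2 m.nH m.cop (.inl m.solv)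
  obtain ⟨P, hP, nP⟩ := exists_invariant_syl p m.nH m.cop (.inl m.solv)
  have nL := H2.le_normalizer_sup (n_Gp (p := p) m.nH) nT
  have e := m.idx le_rfl m.nH (sup_le Gp_le hT.le) nL ⟨P, hP, nP, (commutator_le_left' nP).trans
    ((le_Gp hP.isPGroup hP.le).trans le_sup_left)⟩
    ⟨T, hT, nT, (commutator_le_left' nT).trans le_sup_right⟩
  rw [e1] at e
  by_contra k
  exact (der_lt (isSolvable_of_le (e.le.trans (commutator_le_left' nL))
    (isSolvable_sup (isSolvable_of_isPGroup a1)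
    (isSolvable_of_isPGroup hT.isPGroup) (n_Gp (hT.le.trans le_normalizer)))) k).ne e2

theorem MP (hr : r.Prime) (cR : ♯R = r) (hV : IsPGroup p V) (nV : R ≤ 𝐍(V)) (kV : K ≤ 𝐍(V))
    (nK : R ≤ 𝐍(K)) (c1 : (♯R).Coprime ♯V) (c2 : (♯R).Coprime ♯K) (h1 : ⁅K, R⁆ = K)
    (h2 : ⁅K, K⁆ = K) (h3 : V ⊓ 𝐂(R) ≤ 𝐂(K)) : V ≤ 𝐂(K) := by
  by_contra k
  have d0 : V ⊓ 𝐂(K) < V := inf_lt_left.2 k
  have dK : K ≤ 𝐍((V ⊓ 𝐂(K) : Subgroup G)) := (cent_symm inf_le_right).trans (cent_le_norm _)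
  have dR : R ≤ 𝐍((V ⊓ 𝐂(K) : Subgroup G)) :=
    H2.le_normalizer_inf nV (H2.le_normalizer_centralizer nK)
  have dC : V ⊓ 𝐂(K) ≤ 𝐂(K) := inf_le_right
  have dV : ∀ X ≤ V, X ≤ 𝐂(K) → X ≤ V ⊓ 𝐂(K) := fun X => le_inf
  have d1 := lt_inf_normalizer hV.isNilpotent d0
  replace d0 := d0.le
  generalize V ⊓ 𝐂(K) = D at *
  have nK' := H2.le_normalizer_inf kV (H2.le_normalizer_normalizer dK)
  have nR' := H2.le_normalizer_inf nV (H2.le_normalizer_normalizer dR)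
  have n1 : V ⊓ 𝐍(D) ≤ V := inf_le_left
  have n2 : V ⊓ 𝐍(D) ≤ 𝐍(D) := inf_le_right
  generalize V ⊓ 𝐍(D) = N at *
  have b0 : bar D N ≠ ⊥ := fun e => d1.not_ge ((bar_eq_bot_iff n2).1 e)
  have b1 := isPGroup_bar (isPGroup_of_le n1 hV) D
  have b2 := om_ne_bot_of_isPGroup (isPGroup_of_le (inf_le_left : 𝐙(bar D N) ≤ _) b1)
    (ctr_ne_bot b1.isNilpotent b0)
  have b3 : om p 𝐙(bar D N) ≤ bar D N := (om_le _ _).trans inf_le_left
  have rp : r ≠ p := by
    rintro rfl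
    obtain ⟨m, hm⟩ := IsPGroup.iff_card.1 hV
    have v0 : V ≠ ⊥ := fun e => k (e.le.trans bot_le)
    rcases m with _ | m
    · exact v0 (card_eq_one_iff.1 (by simpa using hm))
    · rw [cR, hm, Nat.coprime_pow_right_iff (Nat.succ_pos _), Nat.coprime_self] at c1
      exact hr.one_lt.ne' c1
  have m : MH p r (bar D K) (bar D R) (om p 𝐙(bar D N)) := ⟨hr, rp,
    (card_bar_of_coprime dR (c1.coprime_dvd_right (card_dvd_of_le' d0))).trans cR,
    bar_le_normalizer _ nK, coprime_bar c2 _, abelem_om_ctr _ _,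
    le_normalizer_om _ (le_normalizer_ctr (bar_le_normalizer _ nR')),
    le_normalizer_om _ (le_normalizer_ctr (bar_le_normalizer _ nK')), by
      refine eq_bot_iff.2 ((inf_le_inf_right _ b3).trans ?_)
      rw [← bar_inf_cent' dR nR' n2 (c1.coprime_dvd_right (card_dvd_of_le' n1))
        (.inl (solv_prime hr cR))]
      exact (bar_eq_bot (dV _ (inf_le_left.trans n1) ((inf_le_inf_right _ n1).trans h3))).le⟩
  have a := MK m (by rw [← bar_commutator dK dR, h1]) (by rw [← bar_commutator dK dK, h2])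
  generalize om p 𝐙(bar D N) = A at *
  have u1 : unbar D A ≤ N := (unbar_le_iff ⟨d1.le, n2⟩).2 b3
  rw [← bar_unbar A, bar_le_cent_iff dK (unbar_le _)] at a
  have u2 : K ≤ 𝐂(unbar D A) := h2.ge.trans (three
    (le_cent_iff_commutator.1 (a.trans dC))
    (le_cent_iff_commutator.1 ((commutator_comm _ _).le.trans (a.trans dC))))
  exact b2 (by rw [← bar_unbar A]; exact bar_eq_bot (dV _ (u1.trans n1) (cent_symm u2)))

end Cfsg.Agent.FB
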