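import Cfsg.Agent.FB.Defs

/-! Reductions for the layer theorems. -/

set_option autoImplicit false
set_option linter.unusedSectionVars false

namespace Cfsg.Agent.FB

open Subgroup FT H1 FA
open L (layerOf CompIn)
open scoped commutatorElement

universe u

variable {G : Type u} [Group G] [Finite G] {H R J K X : Subgroup G}

theorem red_le (hJ : CompIn K J) (n : R ≤ 𝐍(K)) (h : ¬ J ≤ 𝐂(R)) : J ≤ ⁅K, R⁆ :=
  (hJ.le_or_commutator_eq_bot (L.SN.of_le_normalizer (commutator_le_left' n)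
    (le_sup_left.trans (commutator_nrm_sup K R).norm))).resolve_right fun e => h (by
    have e1 : ⁅⁅J, R⁆, J⁆ = ⊥ :=
      le_bot_iff.1 ((commutator_mono (commutator_mono hJ.le le_rfl) le_rfl).trans e.le)
    have := three (A := J) (B := J) (C := R) e1 (by rwa [commutator_comm R])
    rwa [hJ.commutator_self] at this)

theorem red_norm {P : Subgroup G → Prop} {Γ : Subgroup G} (h : ∀ g ∈ Γ, ∀ J, P J → P (cj g J)) :
    Γ ≤ 𝐍(sSup {J | P J}) := fun g hg => mem_normalizer_of_cj_le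
  (cj_le_iff_le_cj_inv.2 (sSup_le fun J hJ => cj_le_iff_le_cj_inv.1 (le_sSup (h g hg J hJ))))

theorem red_not_le {A B : Subgroup G} {g : G} (hg : g ∈ 𝐍(B)) (h : ¬ A ≤ B) : ¬ cj g A ≤ B :=
  fun e => h ((cj_le_iff_le_cj_inv.1 e).trans (cj_eq_iff_mem_normalizer.2 (inv_mem hg)).le)

theorem RED (nX : R ≤ 𝐍(X)) (_c1 : (♯R).Coprime ♯X) (hH : H ≤ X) (h1 : R ⊔ X ⊓ 𝐂(R) ≤ 𝐍(H))
    (h2 : ⁅H, R⁆ = H) (h3 : ¬ layerOf H ≤ layerOf X) :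
    ∃ K ≤ X, K ≠ ⊥ ∧ R ⊔ X ⊓ 𝐂(R) ≤ 𝐍(K) ∧ ⁅K, R⁆ = K ∧ layerOf K = K ∧
      K ⊓ layerOf X ≤ 𝐂(K) := by
  have nL : R ⊔ X ⊓ 𝐂(R) ≤ 𝐍(layerOf X) :=
    (sup_le nX (inf_le_left.trans le_normalizer)).trans (L.normalizer_le_normalizer_layerOf X)
  have nC : R ⊔ X ⊓ 𝐂(R) ≤ 𝐍(𝐂(R)) :=
    sup_le (H2.le_normalizer_centralizer le_normalizer) (inf_le_right.trans le_normalizer)
  set K := sSup {J | CompIn H J ∧ ¬ J ≤ layerOf X ∧ ¬ J ≤ 𝐂(R)} with hK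
  have k1 : K ≤ H := sSup_le fun J hJ => hJ.1.le
  have k2 : R ⊔ X ⊓ 𝐂(R) ≤ 𝐍(K) := red_norm fun g hg J hJ =>
    ⟨hJ.1.conj (h1 hg), red_not_le (nL hg) hJ.2.1, red_not_le (nC hg) hJ.2.2⟩
  have k3 : ∀ J, CompIn H J ∧ ¬ J ≤ layerOf X ∧ ¬ J ≤ 𝐂(R) → CompIn K J := fun J hJ =>
    hJ.1.mono (le_sSup hJ) k1
  refine ⟨K, k1.trans hH, fun e => ?_, k2, le_antisymm (commutator_le_left' (le_sup_left.trans k2))
    (sSup_le fun J hJ => red_le (k3 J hJ) (le_sup_left.trans k2) hJ.2.2),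
    le_antisymm (L.layerOf_le K) (sSup_le fun J hJ => (k3 J hJ).le_layerOf),
    cent_symm (sSup_le fun J hJ => cent_symm (((k3 J hJ).le_or_le_centralizer
      (L.SN.of_le_normalizer inf_le_left (H2.le_normalizer_inf le_normalizer
        ((k1.trans hH).trans (L.le_normalizer_layerOf X))))).resolve_left
          fun e => hJ.2.1 (e.trans inf_le_right)))⟩
  obtain ⟨J, j1, j2⟩ : ∃ J, CompIn H J ∧ ¬ J ≤ layerOf X := by
    by_contra! e1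
    exact h3 (L.layerOf_le_iff.2 e1)
  set E := sSup {J | CompIn H J ∧ ¬ J ≤ layerOf X}
  have e1 : H ≤ 𝐍(E) := red_norm fun g hg J hJ =>
    ⟨hJ.1.conj (le_normalizer hg), red_not_le (L.le_normalizer_layerOf X (hH hg)) hJ.2⟩
  have e2 : R ≤ 𝐂(E) := cent_symm (sSup_le fun J hJ => by
    by_contra e2
    exact hJ.1.ne_bot (le_bot_iff.1 (e ▸ (le_sSup ⟨hJ.1, hJ.2, e2⟩ : J ≤ K))))
  have e3 : H ≤ 𝐂(E) := h2.ge.trans ((commutator_mono le_rfl e2).trans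
    (commutator_le_right' (H2.le_normalizer_centralizer e1)))
  exact j1.ne_bot (j1.commutator_self.symm.trans (le_cent_iff_commutator.1
    (j1.le.trans (e3.trans (cent_anti (le_sSup ⟨j1, j2⟩))))))

theorem S29a (nX : R ≤ 𝐍(X)) (hK : K ≤ X) (hq : Cfsg.IsQuasisimple K)
    (hc : ∀ g ∈ R ⊔ X ⊓ 𝐂(R), cj g K ≠ K → ⁅K, cj g K⁆ = ⊥) :
    (K ≤ X ⊓ 𝐂(R) ∧ CompIn (X ⊓ 𝐂(R)) K) ∨ ∃ H ≤ X, R ⊔ X ⊓ 𝐂(R) ≤ 𝐍(H) ∧ ⁅H, R⁆ = H ∧
      layerOf H = H ∧ CompIn H K ∧ ¬ K ≤ 𝐂(R) := by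
  have nC : R ⊔ X ⊓ 𝐂(R) ≤ 𝐍(𝐂(R)) :=
    sup_le (H2.le_normalizer_centralizer le_normalizer) (inf_le_right.trans le_normalizer)
  have k : ∀ Γ ≤ R ⊔ X ⊓ 𝐂(R), CompIn (SF.ncl Γ K) K := fun Γ hΓ =>
    ⟨L.SN.of_le_normalizer (SF.le_ncl _ _) (iSup₂_le fun g hg => by
      by_cases e : cj g K = K
      · rw [e]; exact le_normalizer
      · exact (le_cent_iff_commutator'.2 (hc g (hΓ hg) e)).trans (cent_le_norm _)), hq⟩
  by_cases h : K ≤ 𝐂(R)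
  · exact .inl ⟨le_inf hK h, (k _ le_sup_right).of_SN (L.SN.of_le_normalizer
      (SF.ncl_le (le_inf hK h) le_normalizer) (SF.le_norm_ncl _ _))⟩
  · have n := SF.le_norm_ncl (R ⊔ X ⊓ 𝐂(R)) K
    have c : ∀ g ∈ R ⊔ X ⊓ 𝐂(R), CompIn (SF.ncl (R ⊔ X ⊓ 𝐂(R)) K) (cj g K) := fun g hg =>
      (k _ le_rfl).conj (n hg)
    exact .inr ⟨_, SF.ncl_le hK (sup_le nX (inf_le_left.trans le_normalizer)), n,
      le_antisymm (commutator_le_left' (le_sup_left.trans n)) (iSup₂_le fun g hg =>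
        red_le (c g hg) (le_sup_left.trans n) (red_not_le (nC hg) h)),
      le_antisymm (L.layerOf_le _) (iSup₂_le fun g hg => (c g hg).le_layerOf), k _ le_rfl, h⟩

end Cfsg.Agent.FB
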