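import Cfsg.Agent.FB.S33

/-! A component of an invariant semisimple subgroup lies in an orbit of components. -/

set_option autoImplicit false
set_option linter.unusedSectionVars false
set_option linter.unusedVariables false

namespace Cfsg.Agent.FB

open Subgroup FT H1 FA
open L (layerOf CompIn)
open scoped commutatorElement

universe u

variable {G : Type u} [Group G] [Finite G] {r : ℕ} {H R K X : Subgroup G}

theorem S29b (hr : r.Prime) (cR : ♯R = r) (nX : R ≤ 𝐍(X)) (c1 : (♯R).Coprime ♯X)
    (hH : H ≤ layerOf X) (h1 : R ⊔ X ⊓ 𝐂(R) ≤ 𝐍(H)) (h2 : layerOf H = H) (hK : CompIn H K) :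
    ∃ A, CompIn X A ∧ K ≤ SF.ncl R A := by
  by_contra k
  push Not at k
  refine hK.ne_bot (hK.commutator_self.symm.trans (le_cent_iff_commutator.1 (cent_symm
    ((hK.le.trans hH).trans (L.layerOf_le_iff.2 fun A hA => ?_)))))
  have o1 : SF.ncl R A ⊴ layerOf X := ⟨iSup₂_le fun g hg => (hA.conj (nX hg)).le_layerOf,
    fun x hx => mem_normalizer_of_cj_le (cj_le_iff_le_cj_inv.2 (iSup₂_le fun g hg =>
      cj_le_iff_le_cj_inv.1 ((cj_eq_iff_mem_normalizer.2
        ((hA.conj (nX hg)).layerOf_le_normalizer hx)).le.trans (SF.cj_le_ncl hg))))⟩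
  have o2 := SF.le_norm_ncl R A
  have o3 := k A hA
  refine (SF.le_ncl R A).trans ?_
  generalize SF.ncl R A = O at o1 o2 o3
  have o4 := o1.le.trans (L.layerOf_le X)
  have o5 : layerOf X ≤ O ⊔ 𝐂(O) := L.layerOf_le_iff.2 fun J hJ =>
    (hJ.le_or_le_centralizer ((L.layerOf_SN X).trans o1.sn)).elim (·.trans le_sup_left)
      fun k => (cent_symm k).trans le_sup_right
  have j1 : ∀ g ∈ R, CompIn H (cj g K) := fun g hg => hK.conj (h1 (mem_sup_left hg))
  refine cent_symm ((SF.le_ncl R K).trans (TP hr cR o2 (SF.le_norm_ncl R K)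
    (c1.coprime_dvd_right (card_dvd_of_le' o4))
    ((SF.ncl_le hK.le (le_sup_left.trans h1)).trans (hH.trans o5))
    (le_antisymm (der_le _) (iSup₂_le fun g hg => (j1 g hg).commutator_self.ge.trans
      (commutator_mono (SF.cj_le_ncl hg) (SF.cj_le_ncl hg))))
    (cent_symm (iSup₂_le fun g hg => cent_symm (s33_key (j1 g hg).commutator_self ?_)))))
  refine le_trans (le_inf ((commutator_mono le_rfl (j1 g hg).le).trans (commutator_le_right'
    ((inf_le_inf_right _ o4).trans (le_sup_right.trans h1)))) ((commutator_mono inf_le_left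
      ((j1 g hg).le.trans hH)).trans (commutator_le_left' o1.norm)))
    (((j1 g hg).le_or_le_centralizer (nrm_inf_of_le_normalizer (hH.trans o1.norm)).sn).resolve_left
      fun k => o3 ?_)
  exact (cj_le_iff_le_cj_inv.1 (k.trans inf_le_right)).trans
    (cj_eq_iff_mem_normalizer.2 (o2 (inv_mem hg))).le

end Cfsg.Agent.FB
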