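import Cfsg.Agent.FB.Defs
import Cfsg.Agent.L.Diag

/-! Components inside the closure of a component that is moved by `R`. -/

set_option autoImplicit false
set_option linter.unusedSectionVars false

namespace Cfsg.Agent.FB

open Subgroup FT H1 FA
open L (layerOf CompIn)
open scoped commutatorElement

universe u

variable {G : Type u} [Group G] [Finite G] {r : ℕ} {H R A B C D K X Z : Subgroup G}

namespace C29

theorem dec (h : B ≤ 𝐍(A)) {x : G} (hx : x ∈ B ⊔ 𝐂(A)) : ∃ b ∈ B, ∃ c ∈ 𝐂(A), x = b * c := by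
  rw [sup_comm] at hx
  obtain ⟨c, c1, b, b1, rfl⟩ := (mem_sup_of_le_normalizer' (le_normalizer_centralizer h)).1 hx
  exact ⟨b, b1, b⁻¹ * c * b, cjm' (le_normalizer_centralizer h b1) c1, by group⟩

theorem thr (h : ⁅K, K⁆ = K) (h1 : ⁅K, C⁆ ≤ 𝐂(K)) : C ≤ 𝐂(K) :=
  cent_symm (h.ge.trans (three (le_cent_iff_commutator.1 h1)
    (by rw [commutator_comm C]; exact le_cent_iff_commutator.1 h1)))

theorem proj (hA : CompIn X A) (hB : B ≤ layerOf X) (h1 : A ≤ 𝐍((B ⊔ 𝐂(A) : Subgroup G)))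
    (h2 : ¬ B ≤ 𝐂(A)) : A ≤ B ⊔ 𝐂(A) := by
  rcases (L.isQuasisimple_subgroup_iff.1 hA.2).2.2 (A ⊓ (B ⊔ 𝐂(A))) inf_le_left
    (le_normalizer_inf le_normalizer h1) with e | e
  · exact e.ge.trans inf_le_right
  refine absurd (fun b hb => ?_) h2
  obtain ⟨a, a1, c, c1, rfl⟩ := dec le_normalizer (hA.layerOf_le_sup_centralizer (hB hb))
  exact mul_mem (e ⟨a1, (mul_mem_cancel_right (mem_sup_right c1)).1 (mem_sup_left hb)⟩) c1

theorem cen (h : ⁅A, A⁆ = A) (h1 : A ≤ K ⊔ 𝐂(A)) (h2 : K ≤ 𝐍(A)) (h3 : B ≤ 𝐍(A)) (h4 : B ≤ 𝐂(K)) :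
    B ≤ 𝐂(A) := thr h (commutator_le.2 fun a ha b hb => by
  obtain ⟨k, k1, c, c1, rfl⟩ := dec h2 (h1 ha)
  have e := cm (h4 hb) (inv_mem k1)
  rw [show ⁅k * c, b⁆ = k * (c * (b * c⁻¹ * b⁻¹)) * (b * k⁻¹) * b⁻¹ by
    rw [commutatorElement_def]; group, ← e, ← mul_assoc, mul_inv_cancel_right]
  exact cjm (le_normalizer_centralizer h2 k1)
    (mul_mem c1 (cjm (le_normalizer_centralizer h3 hb) (inv_mem c1))))

theorem sub (h : ⁅K, K⁆ = K) (h1 : ∀ y ∈ K, ∃ a ∈ A, ∃ z ∈ 𝐂(K), y = a * z) (h2 : K ≤ 𝐍(A)) :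
    K ≤ A := h.ge.trans (commutator_le.2 fun x hx y hy => by
  obtain ⟨a, a1, z, z1, rfl⟩ := h1 y hy
  rw [show ⁅x, a * z⁆ = x * a * (z * x⁻¹) * z⁻¹ * a⁻¹ by rw [commutatorElement_def]; group,
    ← cm z1 (inv_mem hx), ← mul_assoc, mul_inv_cancel_right]
  exact mul_mem (cjm (h2 hx) a1) (inv_mem a1))

theorem main (hr : r.Prime) (cR : ♯R = r) (nX : R ≤ 𝐍(X))
    (hH : H ≤ layerOf X) (h1 : R ⊔ X ⊓ 𝐂(R) ≤ 𝐍(H)) (h2 : layerOf H = H) (hK : CompIn H K)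
    (h3 : ¬ K ≤ 𝐂(R)) (hA : CompIn X A) (h4 : K ≤ SF.ncl R A) (h5 : ¬ R ≤ 𝐍(A))
    (h6 : ¬ K ≤ 𝐂(A)) : CompIn X K := by
  haveI := Fact.mk hr
  have pr : (♯R).Prime := cR ▸ hr
  obtain ⟨s, s1, s2⟩ := SetLike.not_le_iff_exists.1 h5
  have s3 := eq_zpowers_of_card_prime pr s1 fun e => s2 (e ▸ one_mem _)
  have dd : L.DiagData r A s :=
    hA.diagData (nX s1) (by rw [← cR, pow_card_eq_one'' s1]; exact one_mem _) s2
  have nA := hA.layerOf_le_normalizer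
  have kE := hK.le.trans hH
  have kA := kE.trans nA
  have o1 : SF.ncl R A ≤ layerOf X := iSup₂_le fun g hg => (hA.conj (nX hg)).le_layerOf
  have d1 : dd.hom.range ≤ SF.ncl R A := dd.range_le_conjClosure.trans
    (L.conjClosure_le_iff.2 fun t ht => SF.cj_le_ncl (s3 ▸ ht))
  have d2 : dd.hom.range ≤ 𝐂(R) := by
    rw [← s3, cent_zpowers]; exact dd.range_le_centralizer
  have d3 := dd.le_range_sup
  have d4 := dd.range_qs hA.2
  generalize dd.hom.range = D at d1 d2 d3 d4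
  have d5 := d1.trans o1
  have d6 : D ≤ 𝐍(H) := (le_inf (d5.trans (L.layerOf_le X)) d2).trans (le_sup_right.trans h1)
  have n1 : ∀ B : Subgroup G, 𝐂(A) ≤ 𝐍((B ⊔ 𝐂(A) : Subgroup G)) := fun B =>
    le_sup_right.trans le_normalizer
  have a1 := proj hA hH (d3.trans (sup_le (le_normalizer_sup d6
    (le_normalizer_centralizer (d5.trans nA))) (n1 _))) fun e => h6 (hK.le.trans e)
  have a2 := proj hA kE (a1.trans (sup_le (le_normalizer_sup (h2.ge.trans hK.layerOf_le_normalizer)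
    (le_normalizer_centralizer (hH.trans nA))) (n1 _))) h6
  have a3 : ∀ B ≤ layerOf X, B ≤ 𝐂(K) → B ≤ 𝐂(A) := fun B b1 =>
    cen hA.commutator_self a2 kA (b1.trans nA)
  have a4 : ∀ g ∈ 𝐍(H), g ∉ 𝐍(K) → cj g K ≤ 𝐂(A) := fun g g1 g2 =>
    a3 _ ((hK.conj g1).le.trans hH) ((hK.conj g1).le_centralizer_of_ne hK fun e =>
      g2 (cj_eq_iff_mem_normalizer.1 e))
  have a5 : ∀ g : G, ∀ B : Subgroup G, cj g⁻¹ B ≤ 𝐂(A) → cj g A ≤ 𝐂(B) := fun g B e =>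
    cent_symm (by rw [← cj_centralizer, ← inv_inv g]; exact cj_le_iff_le_cj_inv.1 e)
  by_cases c : R ≤ 𝐍(K)
  · exfalso
    have d7 : D ≤ 𝐍(K) := fun d hd => by
      by_contra e
      have := a5 d⁻¹ K (by rw [inv_inv]; exact a4 d (d6 hd) e)
      rw [cj_eq_iff_mem_normalizer.2 (inv_mem (nA (d5 hd)))] at this
      exact h6 (cent_symm this)
    have z1 : layerOf X ⊓ 𝐂(K) ≤ 𝐂(D) := cent_symm (d1.trans (iSup₂_le fun g hg => a5 g _ (by
      rw [cj_eq_iff_mem_normalizer.2 (inv_mem (le_normalizer_inf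
        (nX.trans (L.normalizer_le_normalizer_layerOf X)) (le_normalizer_centralizer c) hg))]
      exact a3 _ inf_le_left inf_le_right)))
    have z2 : K ⊓ 𝐂(A) ≤ 𝐂(K) := ((L.isQuasisimple_subgroup_iff.1 hK.2).2.2 _ inf_le_left
      (le_normalizer_inf le_normalizer (le_normalizer_centralizer kA))).resolve_left
        fun e => h6 (e.ge.trans inf_le_right)
    have z3 : 𝐂(A) ⊓ 𝐍(K) ≤ 𝐂(K) := thr hK.commutator_self (le_trans (le_inf
      (commutator_le_left' inf_le_right) ((commutator_mono le_rfl inf_le_left).trans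
        (commutator_le_right' (le_normalizer_centralizer kA)))) z2)
    have z4 : D ≤ K := sub (L.qs_commutator d4) (fun d hd => by
      obtain ⟨k, k1, z, z4, rfl⟩ := dec kA ((sup_le a2 le_sup_right)
        (hA.layerOf_le_sup_centralizer (d5 hd)))
      exact ⟨k, k1, z, z1 ⟨(mul_mem_cancel_left (kE k1)).1 (d5 hd),
        z3 ⟨z4, (mul_mem_cancel_left (le_normalizer k1)).1 (d7 hd)⟩⟩, rfl⟩) d7
    rcases (L.isQuasisimple_subgroup_iff.1 hK.2).2.2 D z4 (fun k hk => by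
      obtain ⟨d, k1, z, z5, rfl⟩ := dec (d5.trans nA) ((sup_le d3 le_sup_right)
        (hA.layerOf_le_sup_centralizer (kE hk)))
      exact mul_mem (le_normalizer k1) (cent_le_norm _ (cent_anti z4
        (z2 ⟨(mul_mem_cancel_left (z4 k1)).1 hk, z5⟩)))) with e | e
    · exact h3 (e ▸ d2)
    · exact L.qs_not_le_centralizer d4 (e.trans (cent_anti z4))
  have o2 : SF.ncl R A ≤ A ⊔ 𝐂(A) ⊓ 𝐂(K) := iSup₂_le fun g hg => by
    by_cases e : g = 1
    · rw [e, cj_one]; exact le_sup_left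
    have k : ∀ B : Subgroup G, ¬ R ≤ 𝐍(B) → g ∉ 𝐍(B) := fun B b1 b2 =>
      b1 ((eq_zpowers_of_card_prime pr hg e).ge.trans (zpowers_le.2 b2))
    refine le_sup_of_le_right (le_inf ((hA.conj (nX hg)).le_centralizer_of_ne hA fun e =>
      k A h5 (cj_eq_iff_mem_normalizer.1 e)) (a5 g K (a4 _ (inv_mem (h1 (mem_sup_left hg)))
        fun e => k K c (inv_mem_iff.1 e))))
  have k1 : K ≤ A := sub hK.commutator_self (fun y hy => by
    obtain ⟨a, b1, z, z1, rfl⟩ := (mem_sup_of_le_normalizer'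
      (inf_le_left.trans (cent_le_norm A))).1 (o2 (h4 hy))
    exact ⟨a, b1, z, z1.2, rfl⟩) kA
  exact ((L.isQuasisimple_subgroup_iff.1 hA.2).2.2 K k1 (a2.trans (sup_le le_normalizer
    ((cent_anti k1).trans (cent_le_norm K))))).resolve_right h6 ▸ hA

end C29

theorem S29c (hr : r.Prime) (cR : ♯R = r) (nX : R ≤ 𝐍(X)) (_c1 : (♯R).Coprime ♯X)
    (hH : H ≤ layerOf X) (h1 : R ⊔ X ⊓ 𝐂(R) ≤ 𝐍(H)) (h2 : layerOf H = H) (hK : CompIn H K)
    (h3 : ¬ K ≤ 𝐂(R)) (hA : CompIn X A) (h4 : K ≤ SF.ncl R A) (h5 : ¬ R ≤ 𝐍(A)) :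
    CompIn X K := by
  obtain ⟨g, hg, e⟩ : ∃ g ∈ R, ¬ K ≤ 𝐂(cj g A) := by
    by_contra! e
    exact L.qs_not_le_centralizer hK.2 (h4.trans (iSup₂_le fun g hg => cent_symm (e g hg)))
  refine C29.main hr cR nX hH h1 h2 hK h3 (hA.conj (nX hg)) (h4.trans (SF.ncl_le
    ((cj_inv_cj g A).ge.trans (SF.cj_le_ncl (inv_mem hg))) (SF.le_norm_ncl _ _))) (fun e1 => h5 ?_) e
  rw [← cj_eq_of_mem (inv_mem hg), ← cj_inv_cj g A, ← cj_normalizer]
  exact cj_mono _ e1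

end Cfsg.Agent.FB
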