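import Cfsg.Agent.FB.Defs
import Cfsg.Agent.S0227
import Cfsg.Agent.FT.Main
import Cfsg.Agent.BS.Frob

/-! Consequences of the theorems of Thompson and Glauberman. -/

set_option autoImplicit false
set_option linter.unusedSectionVars false

namespace Cfsg.Agent.FB

open Subgroup FT H1 FA
open L (layerOf CompIn)
open scoped commutatorElement

universe u

variable {G : Type u} [Group G] [Finite G] {p r : ℕ} [hp : Fact p.Prime]
  {H R T Y E M J A B D K L N Q S V X : Subgroup G} {c g v : G}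

theorem tp_bot (h : ⁅K, K⁆ = K) (hs : Group.IsSolvable K) : K = ⊥ :=
  by_contra fun e => (der_lt hs e).ne h

theorem tp_solv (hr : r.Prime) (cR : ♯R ∣ r) (n : R ≤ 𝐍(K)) (h : K ⊓ 𝐂(R) = ⊥) : Group.IsSolvable K := by
  rcases (Nat.dvd_prime hr).1 cR with e | e
  · rw [card_eq_one_iff.1 e, cent_bot, inf_top_eq] at h
    rw [h]; infer_instance
  obtain ⟨k, hk, k1⟩ := exists_ne_one_of_ne_bot (ne_bot_of_card_prime hr e)
  exact isSolvable_of_nil (BS.nil_of_fpf (n hk) k1 (by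
    rw [eq_zpowers_of_card_prime (e ▸ hr) hk k1]; exact semiReg_of_card_prime (e ▸ hr) h))

theorem tp_cyc (hr : r.Prime) (cR : ♯R ∣ r) : Group.IsSolvable R := by
  rcases (Nat.dvd_prime hr).1 cR with e | e
  · rw [card_eq_one_iff.1 e]; infer_instance
  · exact solv_prime hr e

theorem tp_perf (hr : r.Prime) (cR : ♯R ∣ r) (n : R ≤ 𝐍(K)) (c1 : (♯R).Coprime ♯K) (h2 : ⁅K, K⁆ = K)
    (h : K ⊓ 𝐂(R) ≤ 𝐂(K)) : K = ⊥ := by
  have nZ := (ctr_nrm K).norm
  have nR := le_normalizer_ctr n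
  exact tp_bot h2 (isSolvable_of_bar nZ (isSolvable_of_nil (isNilpotent_of_comm (ctr_comm K)))
    (tp_solv hr ((card_bar_dvd _ _).trans cR) (bar_le_normalizer _ n) (by
      rw [← bar_inf_cent' nR n nZ c1 (.inl (tp_cyc hr cR)), bar_eq_bot (le_inf inf_le_left h)])))

theorem TP (hr : r.Prime) (cR : ♯R = r) (nN : R ≤ 𝐍(N)) (nK : R ≤ 𝐍(K)) (c1 : (♯R).Coprime ♯N)
    (h1 : K ≤ N ⊔ 𝐂(N)) (h2 : ⁅K, K⁆ = K) (h3 : N ⊓ 𝐂(R) ≤ 𝐂(K)) : K ≤ 𝐂(N) := by
  have n1 : N ≤ 𝐍(𝐂(N)) := H2.le_normalizer_centralizer le_normalizer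
  have n2 : K ≤ 𝐍(𝐂(N)) := h1.trans (sup_le n1 le_normalizer)
  have k := bar_mono 𝐂(N) h1
  rw [bar_sup_self n1] at k
  refine (bar_eq_bot_iff n2).1 (tp_perf hr ((card_bar_dvd _ _).trans cR.dvd) (bar_le_normalizer _ nK)
    ((coprime_bar c1 _).coprime_dvd_right (card_dvd_of_le' k)) (by rw [← bar_commutator n2 n2, h2])
    ((inf_le_inf_right _ k).trans ?_))
  rw [← bar_inf_cent' (H2.le_normalizer_centralizer nN) nN n1 c1 (.inl (solv_prime hr cR))]
  exact bar_le_cent _ h3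

theorem glb0 (hS : Syl 2 S L) (hO : ∀ N, N ⊴ L → Odd ♯N → N = ⊥) (h1 : B ≤ 𝐍(L)) (h2 : ⁅B, B⁆ = B)
    (h3 : B ≤ 𝐂(S)) : B ≤ 𝐂(L) := by
  let φ := L.normalizerMonoidHom.comp (inclusion h1)
  have e : ∀ (a : B) (y : L), (φ a y : G) = a * y * (a : G)⁻¹ := fun _ _ => rfl
  have s := (S0227.result (G := L) (fun N _ ho => (map_eq_bot_iff_of_injective _ L.subtype_injective).1
    (hO _ (nrm_map_subtype N) (by rwa [card_map_of_injective L.subtype_injective]))) hS.toSylow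
    (fixingSubgroup (MulAut L) (hS.toSylow : Set L)) fun ψ => mem_fixingSubgroup_iff _).2
  have k : φ.range = ⊥ := tp_bot (by
    rw [MonoidHom.range_eq_map, ← map_commutator]
    refine congrArg _ (map_injective B.subtype_injective ?_)
    rw [map_commutator, ← MonoidHom.range_eq_map, range_subtype, h2]) (isSolvable_of_le (by
      rintro _ ⟨a, rfl⟩
      exact (mem_fixingSubgroup_iff _).2 fun y hy =>
        Subtype.ext ((e a y).trans (mul_inv_eq_iff_eq_mul.2 (cm (h3 a.2) hy).symm))) s)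
  refine fun a ha => mem_cent_iff.2 fun y hy => (mul_inv_eq_iff_eq_mul.1 ?_).symm
  rw [← e ⟨a, ha⟩ ⟨y, hy⟩, mem_bot.1 (k.le ⟨_, rfl⟩)]; rfl

theorem GLB (hS : Syl 2 S (layerOf X)) (h1 : B ≤ 𝐍(layerOf X)) (h2 : ⁅B, B⁆ = B)
    (h3 : B ≤ 𝐂(S)) : B ≤ 𝐂(layerOf X) := by
  have z := ctr_nrm (layerOf X)
  have nB := le_normalizer_ctr h1
  have k := (bar_le_cent_iff nB z.norm).1 (glb0 (hS.bar z.norm) (fun N hN ho => by
    have := nrm_unbar_of_nrm_bar z hN
    rw [← bar_unbar N]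
    refine bar_eq_bot (le_inf this.le (L.le_centralizer_layerOf_of_solvable ((L.layerOf_SN X).trans this.sn)
      (isSolvable_of_bar (unbar_le _) (isSolvable_of_nil (isNilpotent_of_comm (ctr_comm _)))
        (by rw [bar_unbar]; exact odd_order_solvable ho))))) (bar_le_normalizer _ h1)
    (by rw [← bar_commutator nB nB, h2]) (bar_le_cent _ h3))
  rw [commutator_comm] at k
  have := le_cent_iff_commutator.1 (k.trans inf_le_right)
  exact cent_symm ((L.commutator_layerOf X).ge.trans (three this (by rwa [commutator_comm B])))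

end Cfsg.Agent.FB
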