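import Cfsg.Agent.FB.RED
import Cfsg.Agent.FB.P4
import Cfsg.Agent.FB.TP

/-! The layer of an invariant subgroup `H = [H, R]` lies in the layer. -/

set_option autoImplicit false
set_option linter.unusedSectionVars false

namespace Cfsg.Agent.FB

open Subgroup FT H1 FA
open L (layerOf CompIn)
open scoped commutatorElement

universe u

variable {G : Type u} [Group G] [Finite G] {p r : ℕ}
  {H R T Y E M J A B D K L N Q S V X : Subgroup G} {c g v : G}

theorem s33_key (hK : ⁅K, K⁆ = K) (h : ⁅D, K⁆ ≤ 𝐂(K)) : D ≤ 𝐂(K) :=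
  cent_symm (hK.ge.trans (three (by rw [commutator_comm K D]; exact le_cent_iff_commutator.1 h)
    (le_cent_iff_commutator.1 h)))

theorem s33_der (h : B ≤ 𝐍(L)) : ⁅L ⊔ B, L ⊔ B⁆ ≤ L ⊔ ⁅B, B⁆ := by
  have k1 : L ≤ 𝐍((L ⊔ ⁅B, B⁆ : Subgroup G)) := le_sup_left.trans le_normalizer
  have k2 : B ≤ 𝐍((L ⊔ ⁅B, B⁆ : Subgroup G)) := le_normalizer_sup h (der_nrm B).norm
  exact commutator_sup_left_le k1 k2
    ((commutator_le_left' (sup_le le_normalizer h)).trans le_sup_left)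
    (commutator_sup_right_le k1 k2 ((commutator_le_right' h).trans le_sup_left) le_sup_right)

theorem s33_aux (hr : r.Prime) (cR : ♯R = r) (n : ℕ) : ∀ X H : Subgroup G, ♯X = n → R ≤ 𝐍(X) →
    (♯R).Coprime ♯X → H ≤ X → R ⊔ X ⊓ 𝐂(R) ≤ 𝐍(H) → ⁅H, R⁆ = H → layerOf H ≤ layerOf X := by
  induction n using Nat.strong_induction_on with
  | _ n ih =>
  intro X H hn nX c1 hH h1 h2
  by_contra h3
  obtain ⟨K, hK, K0, nK, eK, lK, cK⟩ := RED nX c1 hH h1 h2 h3
  set L := layerOf X with hL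
  have pK : ⁅K, K⁆ = K := lK ▸ Cfsg.Agent.L.commutator_layerOf K
  have pL : ⁅L, L⁆ = L := Cfsg.Agent.L.commutator_layerOf X
  have nL : L ⊴ X := ⟨Cfsg.Agent.L.layerOf_le X, Cfsg.Agent.L.le_normalizer_layerOf X⟩
  have rL : R ≤ 𝐍(L) := nX.trans (Cfsg.Agent.L.normalizer_le_normalizer_layerOf X)
  have rK : R ≤ 𝐍(K) := le_sup_left.trans nK
  have kL : K ≤ 𝐍(L) := hK.trans nL.norm
  have sR := solv_prime hr cR
  have cop : ∀ {A : Subgroup G}, A ≤ X → (♯R).Coprime ♯A := fun h =>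
    c1.coprime_dvd_right (card_dvd_of_le' h)
  have cm : ∀ {A : Subgroup G}, A ⊴ X → ⁅A ⊓ 𝐂(R), K⁆ ≤ K ⊓ A := fun h => le_inf
    (commutator_le_right' ((inf_le_inf_right _ h.le).trans (le_sup_right.trans nK)))
    ((commutator_mono inf_le_left le_rfl).trans (commutator_le_left' (hK.trans h.norm)))
  have a1 : fit X ≤ 𝐂(K) := fit_le_of_forall_pcore fun p _ => by
    have nV : core {p} X ⊴ X := core_nrm _ _
    refine MP hr cR (core_isPGroup X) (le_normalizer_core _ nX) (hK.trans nV.norm) rK (cop nV.le)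
      (cop hK) eK pK (s33_key pK ((cm nV).trans ?_))
    rw [← lK]
    refine Cfsg.Agent.L.le_centralizer_layerOf_of_solvable (Nrm.sn ⟨lK.symm ▸ inf_le_left, ?_⟩)
      (isSolvable_of_isPGroup (isPGroup_of_le inf_le_right (core_isPGroup X)))
    rw [lK]; exact le_normalizer_inf le_normalizer (hK.trans nV.norm)
  have a2 : ∀ B, B ≤ L ⊔ K → ⁅B, B⁆ = B → B ≤ 𝐂(L) → B = ⊥ := fun B b1 b2 b3 => by
    by_contra b0
    refine (der_lt (isSolvable_of_nil (isNilpotent_of_le (le_trans (le_inf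
      (b1.trans (sup_le nL.le hK)) ?_) (Cfsg.Agent.L.inf_centralizer_gfOf_le_fittingOf X)) (fit_nil X))) b0).ne b2
    rw [Cfsg.Agent.L.gfOf_eq, cent_sup]
    exact le_inf b3 (b1.trans (sup_le (cent_symm (Cfsg.Agent.L.fittingOf_le_centralizer_layerOf X))
      (cent_symm a1)))
  have b1 : L ⊓ 𝐂(R) ≤ 𝐂(K) := s33_key pK ((cm nL).trans cK)
  have c2 : ∀ N, N < L → K ≤ 𝐍(N) → R ≤ 𝐍(N) → N ≤ 𝐂(K) := fun N n1 n2 n3 => by
    have n4 : N ⊔ K ≤ X := sup_le (n1.le.trans nL.le) hK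
    have n5 : N ⊔ K ≠ L ⊔ K := fun e => by
      have e1 : L = N ⊔ L ⊓ K := by
        rw [← inf_sup_of_le n1.le (Or.inr n2), e, inf_eq_left.2 le_sup_left]
      have e2 := s33_der (L := N) (B := L ⊓ K) (inf_le_right.trans n2)
      rw [← e1, pL, le_cent_iff_commutator.1 (((inf_comm L K).le.trans cK).trans
        (cent_anti inf_le_right)), sup_bot_eq] at e2
      exact n1.not_ge e2
    have n6 := ih _ (hn ▸ H2.card_lt_of_lt ((lt_of_le_of_ne (sup_le_sup_right n1.le K) n5).trans_le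
      (sup_le nL.le hK))) (N ⊔ K) K rfl (le_normalizer_sup n3 rK) (cop n4) le_sup_right
      ((sup_le_sup_left (inf_le_inf_right _ n4) R).trans nK) eK
    refine cent_symm (TP hr cR n3 rK (cop (n1.le.trans nL.le)) (lK.ge.trans (n6.trans
      (Cfsg.Agent.L.layerOf_le_iff.2 fun J hJ => ?_))) pK ((inf_le_inf_right _ n1.le).trans b1))
    exact (hJ.le_or_le_centralizer (nrm_sup_left n2).sn).elim (·.trans le_sup_left)
      fun k => (cent_symm k).trans le_sup_right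
  obtain ⟨T, hT, rT⟩ := exists_invariant_syl 2 (A := R) (K := L ⊓ 𝐂(K))
    (le_normalizer_inf rL (le_normalizer_centralizer rK)) (cop (inf_le_left.trans nL.le)) (.inl sR)
  have kT : K ≤ 𝐂(T) := cent_symm (hT.le.trans inf_le_right)
  by_cases hz : T ≤ 𝐂(L)
  swap
  · have d1 : L ⊓ 𝐍(T) < L := lt_of_le_of_ne inf_le_left fun e => hz (by
      have := Cfsg.Agent.L.le_centralizer_layerOf_of_solvable (X := L)
        (Nrm.sn ⟨hT.le.trans inf_le_left, e.ge.trans inf_le_right⟩) (isSolvable_of_isPGroup hT.isPGroup)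
      rwa [hL, Cfsg.Agent.L.layerOf_layerOf] at this)
    have d2 := c2 _ d1 (le_normalizer_inf kL ((kT.trans (cent_le_norm _)).trans le_normalizer))
      (le_normalizer_inf rL (rT.trans le_normalizer))
    exact K0 (a2 K le_sup_right pK
      (GLB (hT.of_normalizer_le inf_le_left (le_inf inf_le_left d2)) kL pK kT))
  obtain ⟨S, hS, rS⟩ := exists_invariant_syl 2 rL (cop nL.le) (.inl sR)
  have e1 : S ⊓ 𝐂(R) ≤ L ⊓ 𝐂(K) :=
    le_inf (inf_le_left.trans hS.le) ((inf_le_inf_right _ hS.le).trans b1)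
  have e2 : S ⊓ 𝐂(R) ≤ 𝐂(L ⊔ K) := by
    rw [cent_sup]
    exact le_inf ((hT.le_of_nrm (inf_le_left.trans ((cent_symm hz).trans (cent_le_norm _)))
      (isPGroup_of_le inf_le_left hS.isPGroup) e1).trans hz) (e1.trans inf_le_right)
  obtain ⟨B, ⟨b2, b3, b4⟩, hm⟩ := exists_minimal_of_wellFoundedLT
    (fun B : Subgroup G => B ≤ (L ⊔ K) ⊓ 𝐍(S) ∧ R ≤ 𝐍(B) ∧ K ≤ L ⊔ B)
    ⟨_, le_rfl, le_normalizer_inf (le_normalizer_sup rL rK) (rS.trans le_normalizer),
      le_sup_right.trans (hS.frattini' (nrm_sup_left kL)).ge⟩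
  have bX : B ≤ X := b2.trans (inf_le_left.trans (sup_le nL.le hK))
  have bL := bX.trans nL.norm
  have b5 : ⁅B, B⁆ = B := le_antisymm (der_le B) (hm ⟨(der_le B).trans b2, le_normalizer_der b3,
    pK.ge.trans ((commutator_mono b4 b4).trans (s33_der bL))⟩ (der_le B))
  have b6 : ⁅B, R⁆ = B := le_antisymm (commutator_le_left' b3) (hm ⟨(commutator_le_left' b3).trans b2,
    right_le_normalizer_commutator _ _, eK.ge.trans ((commutator_mono b4 le_rfl).trans
      (commutator_sup_left_le (le_sup_left.trans le_normalizer)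
        (le_normalizer_sup bL (left_le_normalizer_commutator _ _))
        ((commutator_le_left' rL).trans le_sup_left) le_sup_right))⟩ (commutator_le_left' b3))
  have b7 := MP hr cR hS.isPGroup rS (b2.trans inf_le_right) b3 (cop (hS.le.trans nL.le))
    (cop bX) b6 b5 (e2.trans (cent_anti (b2.trans inf_le_left)))
  rw [a2 B (b2.trans inf_le_left) b5 (GLB hS bL b5 (cent_symm b7)), sup_bot_eq] at b4
  exact K0 (pK.symm.trans (le_cent_iff_commutator.1 ((le_inf le_rfl b4).trans cK)))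

theorem S33 (hr : r.Prime) (cR : ♯R = r) (nX : R ≤ 𝐍(X)) (c1 : (♯R).Coprime ♯X) (hH : H ≤ X)
    (h1 : R ⊔ X ⊓ 𝐂(R) ≤ 𝐍(H)) (h2 : ⁅H, R⁆ = H) : layerOf H ≤ layerOf X :=
  s33_aux hr cR _ X H rfl nX c1 hH h1 h2

end Cfsg.Agent.FB
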