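import Cfsg.Agent.FB.T1

/-! Pairs of conjugates: the TI property and the first exclusion. -/

set_option autoImplicit false
set_option linter.unusedSectionVars false

namespace Cfsg.Agent.FB

open Subgroup FT H1 FA
open scoped commutatorElement

universe u

variable {G : Type u} [Group G] [Finite G] {r : ℕ}
  {H R T Y E R' T' Y' E' J M' J' A B K L M W X : Subgroup G} {a b c d e g n u v x y z : G}

theorem TB.comm_cent (h : TB r H R T Y E) (hv : v * v = 1) (h1 : ⁅x, v⁆ ∈ E) :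
    ⁅x, v⁆ * v = v * ⁅x, v⁆ := by
  have := conj_comm_inv hv x
  rw [h.einv h1] at this
  exact (mul_inv_eq_iff_eq_mul.1 this).symm
theorem TB.comm_comm (h : TB r H R T Y E) (hv : v * v = 1) (h1 : ⁅x, v⁆ ∈ Y) :
    ⁅⁅x, v⁆, v⁆ ∈ E := by
  have h2 : v * ⁅x, v⁆⁻¹ * v⁻¹ = ⁅x, v⁆ := by rw [← conj_inv, conj_comm_inv hv, inv_inv]
  have := h.sq _ h1
  nth_rewrite 2 [← h2] at this
  rwa [commutatorElement_def ⁅x, v⁆, mul_assoc, mul_assoc, ← mul_assoc v]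

/-- two different conjugates, with adapted Sylow subgroups -/
structure PS (r : ℕ) (H R T Y E M J R' T' Y' E' M' J' : Subgroup G) : Prop where
  h : TM r H R T Y E M J
  h' : TM r H R' T' Y' E' M' J'
  g : ∃ g ∈ H, cj g R = R' ∧ cj g Y = Y' ∧ cj g M = M'
  ne : M ≠ M'
  ad : T ⊓ M' ≤ T'
  ad' : T' ⊓ M ≤ T

namespace PS

variable (p : PS r H R T Y E M J R' T' Y' E' M' J')
include p

theorem symm : PS r H R' T' Y' E' M' J' R T Y E M J :=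
  let ⟨g, hg, e1, e2, e3⟩ := p.g
  ⟨p.h', p.h, ⟨g⁻¹, inv_mem hg, e1 ▸ cj_inv_cj g R, e2 ▸ cj_inv_cj g Y, e3 ▸ cj_inv_cj g M⟩,
    p.ne.symm, p.ad', p.ad⟩
theorem cardE : ♯E' = ♯E := by
  obtain ⟨g, hg, e1, e2, -⟩ := p.g
  rw [← p.h'.eE, ← e1, ← e2, ← cj_centralizer, ← cj_inf, p.h.eE, card_cj]
theorem cardY : ♯Y' = ♯Y := by
  obtain ⟨g, hg, -, e2, -⟩ := p.g
  rw [← e2, card_cj]
theorem ti (h1 : u ∈ E) (h2 : u ∈ E') : u = 1 := by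
  by_contra h0
  obtain ⟨g, hg, e1, -, e3⟩ := p.g
  obtain ⟨c, hc, e⟩ := p.h.conjR hg (K := 𝐂[u]) (le_cent1_iff.2 (p.h.EC h1))
    (e1 ▸ le_cent1_iff.2 (p.h'.EC h2))
  have h3 := (p.h'.cjM (p.h'.cent1 h2 h0 hc)).nM
  rw [← e1, e] at h3
  exact p.ne (p.h.eqM p.h'.hM p.h'.neM h3 ((p.h.YC1 h1).trans (p.h'.cent1 h2 h0))
    (by rw [← e3, card_cj])).symm
theorem vN (hv : v ∈ E' ⊓ 𝐍(Y)) : v ∈ T ⊓ 𝐍(Y) :=
  ⟨p.ad' ⟨p.h'.ET hv.1, p.h.NM ⟨p.h'.EH hv.1, hv.2⟩⟩, hv.2⟩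
theorem vv (hv : v ∈ E' ⊓ 𝐍(Y)) : v * v = 1 := p.h'.ea v hv.1
theorem cT (hv : v ∈ E') (h1 : v ≠ 1) (hx : x ∈ T) (e : x * v = v * x) : x ∈ T' :=
  p.ad ⟨hx, p.h'.cent1 hv h1 ⟨p.h.syl.le hx, mem_cent1_iff.2 e⟩⟩
theorem cN (hv : v ∈ E') (h1 : v ≠ 1) (hx : x ∈ T) (e : x * v = v * x) : x ∈ 𝐍(Y') :=
  p.h'.TN (p.cT hv h1 hx e)
theorem cF (hv : v ∈ E') (h1 : v ≠ 1) (he : e ∈ E) (h2 : e * v = v * e) : e ∈ E ⊓ 𝐍(Y') :=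
  ⟨he, p.cN hv h1 (p.h.ET he) h2⟩
theorem FF (hu : u ∈ E ⊓ 𝐍(Y')) (hv : v ∈ E' ⊓ 𝐍(Y)) : u * v = v * u :=
  commutatorElement_eq_one_iff_mul_comm.1 (p.ti (comm_mem hu.1 (p.h.NnE (p.vN hv)))
    (comm_mem' hv.1 (p.h'.NnE (p.symm.vN hu))))
theorem neF (hv : v ∈ E' ⊓ 𝐍(Y)) (h1 : v ≠ 1) : ∃ u ∈ E ⊓ 𝐍(Y'), u ≠ 1 := by
  obtain ⟨u, hu, h2, h3⟩ := exists_fix p.h.E2 (two_zpowers (p.vv hv))
    (zpowers_le.2 (p.h.NnE (p.vN hv))) (one_lt_card.1 (p.cardE ▸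
      one_lt_card.2 (ne_bot_of_mem hv.1 h1)))
  exact ⟨u, p.cF hv.1 h1 hu (cm h2 (mem_zpowers v)).symm, h3⟩
theorem commF (hv : v ∈ E' ⊓ 𝐍(Y)) (h1 : ⁅x, v⁆ ∈ E) : ⁅x, v⁆ ∈ E ⊓ 𝐍(Y') := by
  by_cases h0 : v = 1
  · rw [h0, commutatorElement_one_right]; exact one_mem _
  · exact p.cF hv.1 h0 h1 (p.h.comm_cent (p.vv hv) h1)
theorem cardF : ♯(E ⊓ 𝐍(Y') : Subgroup G) ≤ ♯(E' ⊓ 𝐍(Y) : Subgroup G) := by
  by_cases h0 : E' ≤ 𝐍(Y)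
  · rw [inf_eq_left.2 h0, p.cardE]; exact card_le_of_le' inf_le_left
  obtain ⟨e, he, h1⟩ := SetLike.not_le_iff_exists.1 h0
  refine Nat.card_le_card_of_injective (fun u => ⟨⁅e, (u : G)⁆, p.symm.commF u.2
    (comm_mem he (p.h'.NnE (p.symm.vN u.2)))⟩) fun u u' h2 => Subtype.ext ?_
  by_contra h3
  have h4 : ⁅e, (u : G)⁆ = ⁅e, (u' : G)⁆ := congrArg Subtype.val h2
  refine h1 (p.symm.cN (mul_mem (inv_mem u'.2.1) u.2.1) (fun k => h3 (inv_mul_eq_one.1 k).symm)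
    (p.h'.ET he) ?_)
  simp only [commutatorElement_def, mul_assoc, mul_right_inj] at h4
  calc e * ((u' : G)⁻¹ * u) = (u' : G)⁻¹ * (u' * (e⁻¹ * (u' : G)⁻¹))⁻¹ * u := by group
    _ = _ := by rw [← h4]; group

end PS

namespace PS

variable (p : PS r H R T Y E M J R T' Y' E' M' J')
include p

theorem star (hv : v ∈ E' ⊓ 𝐍(Y)) (h0 : v ≠ 1) (hy : y ∈ Y) (h1 : ⁅y, v⁆ ∈ E) :
    ∃ i ∈ Y ⊓ Y', ∃ e ∈ E, y = i * e := by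
  have hn := p.h.nK (p.vN hv)
  obtain ⟨t, ht, e, he, e1⟩ := p.h.decW inf_le_left hn ⟨hy, (p.h.memK hy (p.vN hv)).2 h1⟩
  have h2 := (commutator_le_left' hn).trans inf_le_left
  refine ⟨t, ⟨h2 ht, ?_⟩, e, he, e1⟩
  rw [← p.h.rr (inf_le_left.trans p.h.YH) hn] at ht
  exact p.h'.eY.le (commutator_mono (fun z hz => p.cT hv.1 h0 (p.h.YT (h2 hz)) (mem_cent1_iff.1
    (p.h.cw inf_le_left (p.h'.EC hv.1) (fun x hx => (p.h.memK hx.1 (p.vN hv)).1 hx.2) hz)))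
      le_rfl ht)
theorem star2 (hv : v ∈ E' ⊓ 𝐍(Y)) (h0 : v ≠ 1) (hy : y ∈ Y) :
    ∃ i ∈ Y ⊓ Y', ∃ e ∈ E ⊓ 𝐍(Y'), ⁅y, v⁆ = i * e := by
  have h1 := comm_mem hy hv.2
  obtain ⟨i, hi, e, he, e1⟩ := p.star hv h0 h1 (p.h.comm_comm (p.vv hv) h1)
  refine ⟨i, hi, e, p.cF hv.1 h0 he ?_, e1⟩
  have h2 := conj_comm_inv (p.vv hv) y
  have h3 := inv_eq_of_mul_eq_one_right (p.ti (p.h.sq i hi.1) (p.h'.sq i hi.2))
  rw [e1, ← mul_assoc, ← p.h'.ey hv.1 hi.2, mul_inv_rev, p.h.einv he, h3, ← p.h.ey he hi.1,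
    mul_assoc, mul_assoc, mul_right_inj, ← mul_assoc] at h2
  exact (mul_inv_eq_iff_eq_mul.1 h2).symm
theorem normJ (hv : v ∈ E' ⊓ 𝐍(Y)) (h0 : v ≠ 1) :
    Y ≤ 𝐍((Y ⊓ Y' ⊔ (E ⊓ 𝐍(Y') ⊔ E' ⊓ 𝐍(Y)) : Subgroup G)) := fun y hy => by
  refine mem_normalizer_of_cj_le ?_
  rw [cj_sup, cj_sup]
  refine sup_le (cj_le_iff.2 fun i hi => ?_) (sup_le (cj_le_iff.2 fun u hu => ?_)
    (cj_le_iff.2 fun w hw => ?_))
  · rw [conj_eq_comm]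
    refine mul_mem (mem_sup_right (mem_sup_left (p.cF hv.1 h0 (p.h.cmE hy hi.1) ?_)))
      (mem_sup_left hi)
    obtain ⟨j, hj, e, he, e1⟩ := p.star2 hv h0 hy
    have h1 := mul_mem hj.1 (p.h.EY he.1)
    refine (mul_inv_eq_iff_eq_mul.1 ?_).symm
    rw [conjugate_commutatorElement, ← p.h'.ey hv.1 hi.2, mul_inv_cancel_right, conj_eq_comm', e1,
      p.h.comm_mul_left (inv_mem h1) hy hi.1, p.h.comm_inv_left h1 hi.1,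
      p.h.comm_mulE hj.1 he.1 hi.1, p.ti (p.h.cmE hj.1 hi.1) (p.h'.cmE hj.2 hi.2), one_mul]
  · rw [p.h.ey hu.1 hy, mul_inv_cancel_right]; exact mem_sup_right (mem_sup_left hu)
  · by_cases h1 : w = 1
    · simp [h1]
    obtain ⟨j, hj, e, he, e1⟩ := p.star2 hw h1 hy
    rw [conj_eq_comm, e1]
    exact mul_mem (mul_mem (mem_sup_left hj) (mem_sup_right (mem_sup_left he)))
      (mem_sup_right (mem_sup_right hw))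
theorem same (hv : v ∈ E' ⊓ 𝐍(Y)) : v = 1 := by
  by_contra h0
  obtain ⟨u, hu, h1⟩ := p.neF hv h0
  have h2 := p.symm.normJ hu h1
  rw [inf_comm Y', sup_comm (E' ⊓ _)] at h2
  have c1 : ∀ {A B : Subgroup G}, A ≤ 𝐂(R) → R ≤ 𝐍((A ⊓ B : Subgroup G)) := fun k =>
    (cent_symm (inf_le_left.trans k)).trans (cent_le_norm _)
  have a1 := ne_bot_of_mem (H := Y ⊓ Y' ⊔ (E ⊓ 𝐍(Y') ⊔ E' ⊓ 𝐍(Y)))
    (mem_sup_right (mem_sup_right hv)) h0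
  have a2 : IsPGroup 2 (Y ⊓ Y' ⊔ (E ⊓ 𝐍(Y') ⊔ E' ⊓ 𝐍(Y)) : Subgroup G) :=
    isPGroup_of_le (sup_le (inf_le_left.trans le_sup_left) (sup_le (inf_le_left.trans
      (p.h.EY.trans le_sup_left)) le_sup_right)) (isPGroup_sup' p.h.Y2
      (isPGroup_of_le inf_le_left p.h'.E2) inf_le_right)
  have a3 : Y ⊓ Y' ⊔ (E ⊓ 𝐍(Y') ⊔ E' ⊓ 𝐍(Y)) ≤ H :=
    sup_le (inf_le_left.trans p.h.YH) (sup_le (inf_le_left.trans p.h.EH)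
      (inf_le_left.trans p.h'.EH))
  have a4 := H2.le_normalizer_sup (H2.le_normalizer_inf p.h.nY p.h'.nY)
    (H2.le_normalizer_sup (c1 (B := 𝐍(Y')) p.h.EC) (c1 (B := 𝐍(Y)) p.h'.EC))
  have h3 := p.h.max _ inf_le_left (p.h.neLoc a1 a2 a3 a4) (p.h.nN a4)
    (le_inf p.h.YH (p.normJ hv h0))
  have h4 : Y' ≤ Y := by
    rw [← p.h'.YR, ← p.h.eY]
    exact commutator_mono ((le_inf p.h'.YT ((le_inf p.h'.YH h2).trans h3)).trans p.ad') le_rfl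
  obtain ⟨g, -, -, -, e3⟩ := p.g
  exact p.ne (p.h.eqM p.h'.hM p.h'.neM p.h'.nM
    ((eq_of_le_of_card_le h4 p.cardY.ge).ge.trans (p.h'.YT.trans p.h'.tM))
    (by rw [← e3, card_cj])).symm

end PS

/-- an element of `E'` in `M` does not centralize `R` -/
theorem NC (h : TM r H R T Y E M J) (h' : TM r H R' T' Y' E' M' J')
    (hg : ∃ g ∈ H, cj g R = R' ∧ cj g Y = Y' ∧ cj g M = M') (ne : M ≠ M') (hv : v ∈ E')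
    (hM : v ∈ M) (hc : v ∈ 𝐂(R)) : v = 1 := by
  by_contra h0
  obtain ⟨g, hg, e1, e2, e3⟩ := hg
  obtain ⟨c, hc', e⟩ := h.conjR hg (K := 𝐂[v]) (le_cent1_iff.2 hc)
    (e1 ▸ le_cent1_iff.2 (h'.EC hv))
  have h1 := h'.cent1 hv h0 hc'
  have h2 := h'.cjM h1
  rw [← e1, e] at h2
  have vJ : v ∈ J' := (h'.eJ.ge hv).1
  have vv := h'.ea v hv
  have nD := H2.le_normalizer_inf h.nM h2.nM
  obtain ⟨D, d1, d2, d3⟩ := exists_invariant_syl_ge nD (h.copL (inf_le_left.trans h.hM))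
    (.inl h.solv) (two_zpowers vv) (zpowers_le.2 ⟨hM, h'.nJ.le vJ⟩)
    ((cent_symm (zpowers_le.2 hc)).trans (cent_le_norm _))
  obtain ⟨a, ha, a1, a2⟩ := h.adapt (d1.le.trans inf_le_left) d1.isPGroup d3
  obtain ⟨b, hb, b1, b2⟩ := h2.adapt (d1.le.trans inf_le_right) d1.isPGroup d3
  have ea : cj a R = R := cj_eq_iff_mem_normalizer.2 (cent_le_norm _ ha.2)
  have eb : cj b R = R := cj_eq_iff_mem_normalizer.2 (cent_le_norm _ hb.2)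
  refine h0 (PS.same ⟨a2, b2, ⟨b * c * g * a⁻¹, mul_mem (mul_mem (mul_mem (h'.hM hb.1) hc'.1) hg)
    (inv_mem (h.hM ha.1)), ?_, ?_, ?_⟩, ne, ?_, ?_⟩
    ⟨b2.eJ.le ⟨vJ, b1 (d2 (mem_zpowers v))⟩, a2.TN (a1 (d2 (mem_zpowers v)))⟩)
  · rw [cj_mul, cj_mul, cj_mul, cj_eq_iff_mem_normalizer.2 (inv_mem (cent_le_norm _ ha.2)), e, eb]
  · rw [cj_mul, cj_mul, cj_mul, cj_inv_cj, e2]
  · rw [cj_mul, cj_mul, cj_mul, cj_eq_of_mem (inv_mem ha.1), e3, cj_eq_of_mem h1, cj_eq_of_mem hb.1]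
  · exact (d1.eq_of_le (isPGroup_of_le inf_le_left a2.syl.isPGroup)
      (le_inf a1 (d1.le.trans inf_le_right)) (inf_le_inf_right _ a2.tM)).le.trans b1
  · exact (d1.eq_of_le (isPGroup_of_le inf_le_left b2.syl.isPGroup)
      (le_inf b1 (d1.le.trans inf_le_left)) (le_inf inf_le_right
        (inf_le_left.trans b2.tM))).le.trans a1

namespace PS

variable (p : PS r H R T Y E M J R' T' Y' E' M' J')
include p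

theorem notC (hv : v ∈ E' ⊓ 𝐍(Y)) (hc : v ∈ 𝐂(R)) : v = 1 :=
  NC p.h p.h' p.g p.ne hv.1 (p.h.tM (p.vN hv).1) hc
theorem notCM (hv : v ∈ E' ⊓ 𝐍(Y)) (hn : n ∈ M) (hc : n⁻¹ * v * n ∈ 𝐂(R)) : v = 1 := by
  obtain ⟨g, hg, e1, e2, e3⟩ := p.g
  refine NC (p.h.cjM hn) p.h' ⟨g * n⁻¹, mul_mem hg (inv_mem (p.h.hM hn)), by
    rw [cj_mul, cj_inv_cj, e1], by rw [cj_mul, cj_inv_cj, e2], by
    rw [cj_mul, cj_eq_of_mem (inv_mem hn), e3]⟩ p.ne hv.1 (p.h.tM (p.vN hv).1) ?_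
  rw [← cj_centralizer]; exact mem_cj.2 hc
theorem notC' (hv : v ∈ E' ⊓ 𝐍(Y)) (hn : n ∈ T ⊓ 𝐍(Y)) (hc : n⁻¹ * v * n ∈ 𝐂(R)) : v = 1 :=
  p.notCM hv (p.h.tM hn.1) hc

end PS

end Cfsg.Agent.FB
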