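import Cfsg.Agent.FB.T2

/-! Pairs of conjugates: components in `Y` and the centralizer `P`. -/

set_option autoImplicit false
set_option linter.unusedSectionVars false

namespace Cfsg.Agent.FB

open Subgroup FT H1 FA
open scoped commutatorElement

universe u

variable {G : Type u} [Group G] [Finite G] {r : ℕ}
  {H R T Y E R' T' Y' E' J M' J' A B C K L M W X Z : Subgroup G} {a b c d e g m n s u v w x y z v' x' y' : G}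

namespace TB

variable (h : TB r H R T Y E)
include h

theorem memS (hx : x ∈ A ⊔ E) (hA : A ≤ Y) : ∃ s ∈ A, ∃ e ∈ E, s * e = x :=
  (H2.mem_sup_of_le_normalizer (hA.trans h.YnE)).1 hx
theorem nrmZ (h1 : E ≤ Z) (h2 : Z ≤ Y) : Y ≤ 𝐍(Z) := (nrm_of_der_le (h.der.trans h1) h2).norm
theorem iso_of (h1 : Z ≤ Y) (h2 : Z ≤ 𝐂(Z)) (h3 : R ≤ 𝐍(Z)) (h4 : ¬ Z ≤ E) (h5 : E ≤ Z) :
    Iso R Y ⁅Z, R⁆ ∧ ⁅Z, R⁆ ⊔ E = Z := by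
  have h6 := commutator_le_left' h3
  have h7 : ⁅Z, R⁆ ⊔ E = Z := le_antisymm (sup_le h6 h5) fun x hx => by
    obtain ⟨t, ht, e, he, rfl⟩ := h.decW h1 h3 hx
    exact mul_mem (mem_sup_left ht) (mem_sup_right he)
  exact ⟨⟨h6.trans h1, h6.trans (h2.trans (cent_anti h6)), right_le_normalizer_commutator _ _,
    h.rr (h1.trans h.YH) h3, fun e => h4 (by rw [← h7, e, bot_sup_eq])⟩, h7⟩
theorem iso_card (i : Iso R Y X) : ♯X = (r - 1) ^ 2 := (h.cx X i.le i.ab i.n i.c i.ne).1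
theorem iso_cent (i : Iso R Y X) : Y ⊓ 𝐂(X) ≤ X ⊔ E := (h.cx X i.le i.ab i.n i.c i.ne).2
theorem iso_inf (i : Iso R Y X) (h1 : x ∈ X) (h2 : x ∈ E) : x = 1 :=
  mem_bot.1 ((H2.centralizer_inf_commutator_eq_bot i.n (h.copL (i.le.trans h.YH))
    (comm_iff_le_cent.2 i.ab)).le ⟨h.EC h2, i.c.ge h1⟩)
theorem iso_le (i : Iso R Y X) : X ⊔ E ≤ Y := sup_le i.le h.EY
theorem iso_n (i : Iso R Y X) : R ≤ 𝐍((X ⊔ E : Subgroup G)) := H2.le_normalizer_sup i.n h.nE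
theorem iso_ab (i : Iso R Y X) : X ⊔ E ≤ 𝐂((X ⊔ E : Subgroup G)) := by
  rw [cent_sup]
  exact le_inf (sup_le i.ab (h.cE.trans (cent_anti i.le))) ((h.iso_le i).trans (cent_symm h.cE))
theorem iso_comm (i : Iso R Y X) (h1 : x ∈ X ⊔ E) (h2 : y ∈ X ⊔ E) : ⁅x, y⁆ = 1 :=
  ce1.2 (cm (h.iso_ab i h2) h1)
theorem iso_sq (i : Iso R Y X) (h1 : x ∈ X ⊔ E) : x * x = 1 := by
  obtain ⟨s, hs, e, he, rfl⟩ := h.memS h1 i.le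
  rw [mul_assoc, ← mul_assoc e, ← h.ey he (i.le hs), mul_assoc, h.ea e he, mul_one]
  exact h.iso_inf i (mul_mem hs hs) (h.sq s (i.le hs))
theorem iso_ri (i : Iso R Y X) : E.relIndex (X ⊔ E) = (r - 1) ^ 2 := by
  have : E ⊓ X = ⊥ := eq_bot_iff.2 fun x hx => mem_bot.2 (h.iso_inf i hx.2 hx.1)
  rw [H2.relIndex_sup_of_le_normalizer (i.le.trans h.YnE), ← h.iso_card i, ← inf_relIndex_right,
    this, relIndex_bot_left]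
theorem iso_ex (i : Iso R Y X) : ∃ x ∈ X, x ∉ E :=
  let ⟨x, hx, h1⟩ := exists_ne_one_of_ne_bot i.ne
  ⟨x, hx, fun k => h1 (h.iso_inf i hx k)⟩
theorem irr (i : Iso R Y X) (hA : R ≤ 𝐍(A)) (h1 : E ≤ A) (h2 : x ∈ X ⊔ E) (h3 : x ∈ A)
    (h4 : x ∉ E) : X ≤ A := by
  have h5 : (X ⊔ E) ⊓ A ≤ X ⊔ E := inf_le_left
  have h6 := H2.le_normalizer_inf (h.iso_n i) hA
  obtain ⟨j, -⟩ := h.iso_of (h5.trans (h.iso_le i)) (h5.trans ((h.iso_ab i).trans (cent_anti h5)))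
    h6 (fun k => h4 (k ⟨h2, h3⟩)) (le_inf le_sup_right h1)
  have h7 : ⁅(X ⊔ E) ⊓ A, R⁆ ≤ X := (commutator_mono h5 le_rfl).trans
    (H2.commutator_sup_left_le le_normalizer (h.cE.trans ((cent_anti i.le).trans (cent_le_norm _)))
      i.c.le ((le_cent_iff_commutator.1 h.EC).le.trans bot_le))
  rw [← eq_of_le_of_card_le h7 (by rw [h.iso_card i, h.iso_card j])]
  exact (commutator_le_left' h6).trans inf_le_right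
theorem wr_ex (hv : v ∈ T ⊓ 𝐍(Y)) : ∃ y, Wr R Y v y := h.dec hv
theorem wr_uniq (h1 : Wr R Y v y) (h2 : Wr R Y v y') : y⁻¹ * y' ∈ E :=
  h.memE (mul_mem (inv_mem h1.1) h2.1) (by simpa [mul_assoc] using mul_mem h1.2 (inv_mem h2.2))
theorem wr_E (h1 : Wr R Y v y) (he : e ∈ E) : Wr R Y v (y * e) :=
  ⟨mul_mem h1.1 (h.EY he), by simpa [mul_assoc] using mul_mem (inv_mem (h.EC he)) h1.2⟩
theorem wr_N (hv : v ∈ T ⊓ 𝐍(Y)) (h1 : Wr R Y v y) : y⁻¹ * v ∈ T ⊓ 𝐍(Y) :=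
  mul_mem (inv_mem (h.YN h1.1)) hv
theorem wr_mod (h1 : Wr R Y v y) (hx : x ∈ Y) : ⁅x, y⁻¹ * v⁆ ∈ E ↔ ⁅x, v⁆ ∈ E :=
  h.comm_mod hx (inv_mem h1.1) v
theorem wr_sq (hv : v ∈ T ⊓ 𝐍(Y)) (h0 : v * v = 1) (h1 : Wr R Y v y) : ⁅y, v⁆ ∈ E := by
  rw [← h.wr_mod h1 h1.1]
  have h2 := h.wr_N hv h1
  have h3 := h1.2
  have e : v = y * (y⁻¹ * v) := by group
  generalize y⁻¹ * v = c at *
  subst e
  have h4 := mul_mem h1.1 (cjm h2.2 h1.1)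
  have e1 : c * c = (y * (c * y * c⁻¹))⁻¹ := eq_inv_of_mul_eq_one_right (by rw [← h0]; group)
  have h5 := inv_mem (h.memE (e1 ▸ inv_mem h4) (mul_mem h3 h3))
  rw [e1, inv_inv] at h5
  convert mul_mem h5 (cjm (h.NnE h2) (inv_mem (h.sq y h1.1))) using 1
  simp only [commutatorElement_def]; group
theorem wr_comm (h1 : Wr R Y v y) (hW : W ≤ Y) (h2 : ∀ x ∈ W, ⁅x, v⁆ ∈ E) (hx : x ∈ ⁅W, R⁆) :
    ⁅x, v⁆ = ⁅x, y⁆ := by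
  have := mem_cent1_iff.1 (h.cw hW h1.2 (fun x hx => (h.wr_mod h1 (hW hx)).2 (h2 x hx)) hx)
  have e : ⁅x, v⁆ = x * y * (x⁻¹ * (x * (y⁻¹ * v)) * x⁻¹) * v⁻¹ := by
    simp only [commutatorElement_def]; group
  rw [e, this]; simp only [commutatorElement_def]; group
theorem wr_w (hv : v ∈ T ⊓ 𝐍(Y)) (h0 : v * v = 1) (h1 : Wr R Y v y) :
    ∃ t, ∃ e ∈ E, y = t * e ∧ Wr R Y v t ∧ t * v = v * t := by
  obtain ⟨t, ht, e, he, e1⟩ := h.decW inf_le_left (h.nK hv)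
    ⟨h1.1, (h.memK h1.1 hv).2 (h.wr_sq hv h0 h1)⟩
  have h2 : Wr R Y v t := by simpa [e1] using h.wr_E h1 (inv_mem he)
  refine ⟨t, e, he, e1, h2, ce1.1 ?_⟩
  rw [h.wr_comm h2 inf_le_left (fun x hx => (h.memK hx.1 hv).1 hx.2) ht, commutatorElement_self]
theorem adj (hx : x ∈ Y) (hy : y ∈ Y) (ha : a ∈ 𝐍(Y)) (hc : ⁅x, y⁆ * a = a * ⁅x, y⁆) :
    ⁅⁅x, a⁆, ⁅y, a⁆⁆ * ⁅⁅x, a⁆, y⁆ * ⁅x, ⁅y, a⁆⁆ = 1 := by
  have h1 : a * ⁅x, y⁆ * a⁻¹ = ⁅x, y⁆ := by rw [← hc, mul_inv_cancel_right]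
  have h2 := comm_mem hx ha
  have h3 := comm_mem hy ha
  rw [conjugate_commutatorElement, conj_eq_comm' a x, conj_eq_comm' a y,
    h.comm_mul_left (inv_mem h2) hx (mul_mem (inv_mem h3) hy),
    h.comm_inv_left h2 (mul_mem (inv_mem h3) hy), h.comm_mul_right h2 (inv_mem h3) hy,
    h.comm_mul_right hx (inv_mem h3) hy, h.comm_symm h2 (inv_mem h3), h.comm_inv_left h3 h2,
    h.comm_symm hx (inv_mem h3), h.comm_inv_left h3 hx, ← mul_assoc, mul_eq_right,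
    h.comm_symm h3 h2, h.comm_symm h3 hx] at h1
  exact h1
theorem adjE (hx : x ∈ Y) (hy : y ∈ Y) (ha : a ∈ 𝐍(Y)) (hc : ⁅x, y⁆ * a = a * ⁅x, y⁆)
    (h1 : ⁅y, a⁆ ∈ E) : ⁅⁅x, a⁆, y⁆ = 1 := by
  have := h.adj hx hy ha hc
  rwa [h.comm_E' h1 (comm_mem hx ha), h.comm_E' h1 hx, one_mul, mul_one] at this
theorem comm_comm' (h1 : ⁅x, a⁆ ∈ Y) (h2 : ⁅x, a * a⁆ ∈ E) : ⁅⁅x, a⁆, a⁆ ∈ E := by
  have e : ⁅⁅x, a⁆, a⁆ = ⁅x, a⁆ * ⁅x, a⁆ * (⁅x, a⁆⁻¹ * ⁅x, a * a⁆⁻¹ * ⁅x, a⁆) := by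
    simp only [commutatorElement_def]; group
  exact e ▸ mul_mem (h.sq _ h1) (cjm' (h.YnE h1) (inv_mem h2))
theorem fix_comm (hx : x ∈ Y) (hy : y ∈ Y) (h1 : ⁅x, v⁆ ∈ E) (h2 : ⁅y, v⁆ ∈ E) :
    ⁅x, y⁆ * v = v * ⁅x, y⁆ := by
  refine (mul_inv_eq_iff_eq_mul.1 ?_).symm
  rw [conjugate_commutatorElement, conj_eq_comm' v x, conj_eq_comm' v y, h.einv h1, h.einv h2,
    ← h.ey h1 hx, ← h.ey h2 hy, h.comm_mulE hx h1 (mul_mem hy (h.EY h2)), h.comm_mulE' hy h2 hx]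
theorem fix_sq (hx : x ∈ Y) (h1 : ⁅x, v⁆ ∈ E) : x * x * v = v * (x * x) := by
  refine (mul_inv_eq_iff_eq_mul.1 ?_).symm
  rw [← conj_mul, conj_eq_comm' v x, h.einv h1, mul_assoc, ← mul_assoc x, h.ey h1 hx,
    ← mul_assoc, ← mul_assoc, h.ea _ h1, one_mul]
theorem im_mem (h1 : E ≤ Z) (h2 : Z ≤ Y) (hv : v ∈ T ⊓ 𝐍(Y)) (ha : a ∈ T ⊓ 𝐍(Y))
    (hc : a * v = v * a) (hy : Wr R Y v y) (hs : Wr R Y a s) : ⁅s, v⁆ ∈ Z ↔ ⁅y⁻¹, a⁆ ∈ Z := by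
  have k1 := h.wr_N hv hy
  have k2 := h.wr_N ha hs
  have n := h.nrmZ h1 h2
  have e0 : ⁅y⁻¹ * v, a⁆ = ⁅y⁻¹, a⁆ := by
    have : ⁅y⁻¹ * v, a⁆ = y⁻¹ * (v * a) * v⁻¹ * y * a⁻¹ := by
      simp only [commutatorElement_def]; group
    rw [this, ← hc]; simp only [commutatorElement_def]; group
  have e1 : ⁅y⁻¹ * v, a⁆ = ⁅s, y⁻¹ * v⁆⁻¹ * (s * ⁅y⁻¹ * v, s⁻¹ * a⁆ * s⁻¹) := by
    simp only [commutatorElement_def]; group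
  have e2 : ⁅s, v⁆ = ⁅s, y⁆ * (y * ⁅s, y⁻¹ * v⁆ * y⁻¹) := by
    simp only [commutatorElement_def]; group
  have k3 := comm_mem hs.1 k1.2
  have k4 : s * ⁅y⁻¹ * v, s⁻¹ * a⁆ * s⁻¹ ∈ Y := by
    rw [← mul_mem_cancel_left (inv_mem k3), ← e1, e0]; exact comm_mem (inv_mem hy.1) ha.2
  have k5 : ⁅y⁻¹ * v, s⁻¹ * a⁆ ∈ E := h.memE (by simpa [mul_assoc] using cjm' (le_normalizer hs.1) k4)
    (comm_mem hy.2 (le_normalizer hs.2))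
  rw [← e0, e1, e2, mul_mem_cancel_left (h1 (h.cmE hs.1 hy.1)),
    mul_mem_cancel_right (h1 (cjm (h.YnE hs.1) k5)), inv_mem_iff]
  exact ⟨fun k => by simpa [mul_assoc] using cjm' (n hy.1) k, cjm (n hy.1)⟩

end TB

namespace PS

variable (p : PS r H R T Y E M J R' T' Y' E' M' J')
include p

local notation "F" => E ⊓ 𝐍(Y')
local notation "F'" => E' ⊓ 𝐍(Y)
local notation "W" => W0 Y E (E' ⊓ 𝐍(Y))
local notation "P" => Y ⊓ 𝐂((E' ⊓ 𝐍(Y) : Subgroup G))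

theorem memW : x ∈ W ↔ x ∈ Y ∧ ∀ v ∈ F', ⁅x, v⁆ ∈ E := by
  rw [W0, mem_inf, mem_iInf]
  exact and_congr_right fun hx => ⟨fun k v hv => (p.h.memK hx (p.vN hv)).1 (k ⟨v, hv⟩),
    fun k v => (p.h.memK hx (p.vN v.2)).2 (k v v.2)⟩
theorem WY : W ≤ Y := inf_le_left
theorem EW : E ≤ W := fun _ he => p.memW.2 ⟨p.h.EY he, fun _ hv => comm_mem he (p.h.NnE (p.vN hv))⟩
theorem nW : R ≤ 𝐍(W) := fun b hb => mem_normalizer_of_conj_mem fun x hx =>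
  p.memW.2 ⟨cjm (p.h.nY hb) hx.1, fun v hv => (p.h.memK (cjm (p.h.nY hb) hx.1) (p.vN hv)).1
    (cjm (p.h.nK (p.vN hv) hb) ⟨hx.1, (p.h.memK hx.1 (p.vN hv)).2 ((p.memW.1 hx).2 v hv)⟩).2⟩
theorem PW : P ≤ W := fun x hx => p.memW.2 ⟨hx.1, fun v hv => by
  rw [ce1.2 (cm hx.2 hv).symm]; exact one_mem _⟩
theorem PhW : P ⊔ E ≤ W := sup_le p.PW p.EW
theorem wr_one (hv : v ∈ F') (h1 : Wr R Y v y) (h2 : y ∈ E) : v = 1 :=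
  p.notC hv (by simpa using mul_mem (p.h.EC h2) h1.2)
theorem claim1 (hv : v ∈ F') (h0 : v ≠ 1) (hx : x ∈ Y) (h1 : x * v = v * x) : x ∈ P := by
  refine ⟨hx, mem_cent_iff.2 fun w hw => (ce1.1 ?_).symm⟩
  have h2 := comm_mem' hw.1 (p.h'.NnE ⟨p.cT hv.1 h0 (p.h.YT hx) h1, p.cN hv.1 h0 (p.h.YT hx) h1⟩)
  have h3 := comm_mem hx hw.2
  by_contra h4
  have h5 : ∀ e ∈ E, e * w = w * e := fun e he =>
    p.FF (p.cF h2 h4 he (p.h.ey he h3).symm) hw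
  obtain ⟨Z, z1, z2, z3, z4, -⟩ := p.h.exists_im le_rfl p.h.nY (p.vN hw)
  have h6 : Y ⊓ Kc E w ≤ 𝐂(Z) := fun k hk => mem_cent_iff.2 fun z hz => by
    obtain ⟨y, hy, e, he, rfl⟩ := (z4 z).1 hz
    rw [← ce1, p.h.comm_mulE (comm_mem hy hw.2) he hk.1]
    exact p.h.adjE hy hk.1 hw.2 (h5 _ (p.h.cmE hy hk.1)) ((p.h.memK hk.1 (p.vN hw)).1 hk.2)
  have h7 : Z ≤ Y ⊓ Kc E w := fun z hz => by
    obtain ⟨y, hy, e, he, rfl⟩ := (z4 z).1 hz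
    have := comm_mem hy hw.2
    exact ⟨z2 hz, mul_mem ((p.h.memK this (p.vN hw)).2 (p.h.comm_comm (p.vv hw) this))
      (le_Kc _ _ he)⟩
  obtain ⟨i, e1⟩ := p.h.iso_of z2 (h7.trans h6) z3
    (fun k => h4 (p.ti (k ((z4 _).2 ⟨x, hx, 1, one_mem _, (mul_one _).symm⟩)) h2)) z1
  obtain ⟨y, hy⟩ := p.h.wr_ex (p.vN hw)
  have h8 : y ∈ Y ⊓ Kc E w := ⟨hy.1, (p.h.memK hy.1 (p.vN hw)).2 (p.h.wr_sq (p.vN hw) (p.vv hw) hy)⟩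
  obtain ⟨y1, hy1, e, he, e2⟩ := (z4 y).1 (e1.le (p.h.iso_cent i
    ⟨hy.1, cent_anti (le_sup_left.trans e1.le) (h6 h8)⟩))
  suffices k : w = 1 from h4 (by rw [k, commutatorElement_one_right])
  refine p.notC' hw (inv_mem (p.h.YN hy1)) ?_
  have := mul_mem (p.h.EC (mul_mem (p.h.sq y hy.1) (inv_mem he))) hy.2
  rw [mul_assoc y, p.h.ey (inv_mem he) hy.1] at this
  rw [inv_inv, conj_eq_comm, eq_mul_inv_of_mul_eq e2.symm]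
  simpa [mul_assoc] using this
theorem PN (hv : v ∈ F') (h0 : v ≠ 1) (hx : x ∈ P) : x ∈ T' ⊓ 𝐍(Y') :=
  ⟨p.cT hv.1 h0 (p.h.YT hx.1) (cm hx.2 hv).symm, p.cN hv.1 h0 (p.h.YT hx.1) (cm hx.2 hv).symm⟩
theorem wrP (hv : v ∈ F') (h1 : Wr R Y v y) : y ∈ P ⊔ E := by
  by_cases h0 : v = 1
  · exact mem_sup_right (p.h.memE h1.1 (by simpa [h0] using h1.2))
  obtain ⟨t, e, he, rfl, h2, h3⟩ := p.h.wr_w (p.vN hv) (p.vv hv) h1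
  exact mul_mem (mem_sup_left (p.claim1 hv h0 h2.1 h3)) (mem_sup_right he)
theorem wrW (hv : v ∈ F') (h1 : Wr R Y v y) : y ∈ W := p.PhW (p.wrP hv h1)
theorem wr_mul (hv : v ∈ F') (hv' : v' ∈ F') (h1 : Wr R Y v y) (h2 : Wr R Y v' y') :
    Wr R Y (v * v') (y * y') := by
  refine ⟨mul_mem h1.1 h2.1, ?_⟩
  have := mul_mem (mul_mem (p.h.EC ((p.h.wr_mod h1 (inv_mem h2.1)).2
    ((p.memW.1 (inv_mem (p.wrW hv' h2))).2 v hv))) h1.2) h2.2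
  convert this using 1
  simp only [commutatorElement_def]; group
theorem decW (hx : x ∈ W) : ∃ t ∈ W, ∃ e ∈ E, x = t * e ∧
    ∀ v ∈ F', ∀ y, Wr R Y v y → ⁅t, v⁆ = ⁅x, y⁆ := by
  obtain ⟨t, ht, e, he, rfl⟩ := p.h.decW p.WY p.nW hx
  have h1 := commutator_le_left' p.nW ht
  exact ⟨t, h1, e, he, rfl, fun v hv y hy => by
    rw [p.h.comm_mulE h1.1 he hy.1, p.h.wr_comm hy p.WY (fun x hx => (p.memW.1 hx).2 v hv) ht]⟩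
theorem P2 (hv : v ∈ F') (h0 : v ≠ 1) (h1 : Wr R Y v y) (hx : x ∈ W) (he : e ∈ E)
    (h2 : ⁅x, y⁆ = ⁅e, v⁆) : x ∈ P ⊔ E := by
  obtain ⟨t, ht, e', he', rfl, h3⟩ := p.decW hx
  have h4 := (h3 v hv y h1).trans h2
  simp only [commutatorElement_def, mul_left_inj] at h4
  have h5 : e⁻¹ * t ∈ P := p.claim1 hv h0 (mul_mem (inv_mem (p.h.EY he)) ht.1) (by
    calc e⁻¹ * t * v = e⁻¹ * (t * v * t⁻¹) * t := by group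
      _ = _ := by rw [h4]; group)
  have := mul_mem (mem_sup_left h5 : _ ∈ P ⊔ E) (mem_sup_right (mul_mem he he'))
  rwa [← p.h.ey (inv_mem he) ht.1, mul_assoc, inv_mul_cancel_left] at this
theorem P1 (hv : v ∈ F') (h0 : v ≠ 1) (h1 : Wr R Y v y) (hx : x ∈ W) (h2 : ⁅x, y⁆ = 1) :
    x ∈ P ⊔ E := p.P2 hv h0 h1 hx (one_mem _) (by rw [h2, commutatorElement_one_left])
theorem P3 (hv : v ∈ F') (h1 : Wr R Y v y) (hx : x ∈ P ⊔ E) : ∃ e ∈ E, ⁅x, y⁆ = ⁅e, v⁆ := by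
  obtain ⟨s, hs, e, he, rfl⟩ := p.h.memS hx inf_le_left
  obtain ⟨t, ht, e', he', e1, h3⟩ := p.decW (p.PW hs)
  refine ⟨e'⁻¹, inv_mem he', ?_⟩
  have h4 := p.h.ey (comm_mem (inv_mem he') (p.h.NnE (p.vN hv))) hs.1
  have : ⁅s * e'⁻¹, v⁆ = s * ⁅e'⁻¹, v⁆ * s⁻¹ * ⁅s, v⁆ := by simp only [commutatorElement_def]; group
  rw [h4, mul_inv_cancel_right, ce1.2 (cm hs.2 hv).symm, mul_one] at this
  rw [p.h.comm_mulE hs.1 he h1.1, ← h3 v hv y h1, ← this, e1, mul_inv_cancel_right]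
theorem indep (hv : v ∈ F') (h0 : v ≠ 1) (h1 : Wr R Y v y) (hx : x ∈ W) (h2 : ⁅x, y⁆ = 1)
    (hv' : v' ∈ F') (h3 : Wr R Y v' y') : ⁅x, y'⁆ = 1 := by
  obtain ⟨t, ht, e, he, -, h4⟩ := p.decW hx
  rw [← h4 v' hv' y' h3]
  exact ce1.2 (cm (p.claim1 hv h0 ht.1 (ce1.1 ((h4 v hv y h1).trans h2))).2 hv').symm
theorem WF (hv : v ∈ F') (h0 : v ≠ 1) (hx : x ∈ W) (hy : y ∈ W) : ⁅x, y⁆ ∈ F :=
  p.cF hv.1 h0 (p.h.cmE hx.1 hy.1)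
    (p.h.fix_comm hx.1 hy.1 ((p.memW.1 hx).2 v hv) ((p.memW.1 hy).2 v hv))
theorem sqF (hv : v ∈ F') (h0 : v ≠ 1) (hx : x ∈ W) : x * x ∈ F :=
  p.cF hv.1 h0 (p.h.sq x hx.1) (p.h.fix_sq hx.1 ((p.memW.1 hx).2 v hv))
theorem surj (f : G → G) (h1 : ∀ v ∈ F', ∀ y, Wr R Y v y → f y ∈ F)
    (h2 : ∀ v ∈ F', ∀ y, Wr R Y v y → ∀ v' ∈ F', ∀ y', Wr R Y v' y' → f y = f y' → v * v' = 1)
    (hu : u ∈ F) : ∃ v ∈ F', ∃ y, Wr R Y v y ∧ f y = u := by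
  choose w hw using fun v : ↥(F') => p.h.wr_ex (p.vN v.2)
  obtain ⟨v, e⟩ := (Function.Injective.bijective_of_nat_card_le
    (f := fun v => (⟨f (w v), h1 v v.2 _ (hw v)⟩ : ↥(F))) (fun v v' e => Subtype.ext (by
      rw [eq_inv_of_mul_eq_one_left (h2 v v.2 _ (hw v) v' v'.2 _ (hw v') (congrArg Subtype.val e)),
        p.h'.einv v'.2.1])) p.cardF).2 ⟨u, hu⟩
  exact ⟨v, v.2, _, hw v, congrArg Subtype.val e⟩
theorem eaPh (h1 : ∀ x ∈ P, x * x = 1) (hx : x ∈ P ⊔ E) : x * x = 1 := by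
  obtain ⟨s, hs, e, he, rfl⟩ := p.h.memS hx inf_le_left
  rw [mul_assoc, ← mul_assoc e, ← p.h.ey he hs.1, mul_assoc, p.h.ea e he, mul_one, h1 s hs]
theorem good1 (hv : v ∈ F') (h0 : v ≠ 1) (h1 : ∀ x ∈ P, x * x = 1) :
    R ≤ 𝐍((P ⊔ E : Subgroup G)) := by
  have k1 : ∀ b ∈ R, cj b (P ⊔ E) ≤ W := fun b hb => cj_le_iff.2 fun x hx =>
    cjm (p.nW hb) (p.PhW hx)
  have k2 : ∀ b, ∀ x ∈ cj b (P ⊔ E), x * x = 1 := fun b x hx => by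
    have := p.eaPh h1 (mem_cj.1 hx)
    rw [← conj_eq_one_iff (a := b⁻¹), ← this]; group
  have k3 : ∀ b ∈ R, b ≠ 1 → cj b (P ⊔ E) ≤ P ⊔ E → R ≤ 𝐍((P ⊔ E : Subgroup G)) := fun b hb h2 h3 =>
    eq_zpowers_of_card_prime (p.h.cR ▸ p.h.hr) hb h2 ▸ zpowers_le.2 (mem_normalizer_of_cj_le h3)
  obtain ⟨b, hb, h2⟩ := exists_ne_one_of_ne_bot (ne_bot_of_card_prime p.h.hr p.h.cR)
  by_cases h3 : ∃ v ∈ F', ∃ y, Wr R Y v y ∧ y ∈ cj b (P ⊔ E) ∧ v ≠ 1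
  · obtain ⟨v, hv, y, hy, h4, h5⟩ := h3
    exact k3 b hb h2 fun x hx => p.P1 hv h5 hy (k1 b hb hx)
      (ce1.2 (comm_of_sq (k2 b x hx) (k2 b y h4) (k2 b _ (mul_mem hx h4))))
  push Not at h3
  obtain ⟨y, hy⟩ := p.h.wr_ex (p.vN hv)
  have hm := cjm (p.nW hb) (p.wrW hv hy)
  have k4 : ∀ x ∈ W, ∀ z ∈ W, ⁅x, b * y * b⁻¹⁆ = ⁅z, b * y * b⁻¹⁆ → x * z ∈ cj b (P ⊔ E) :=
    fun x hx z hz e => mem_cj.2 (p.P1 hv h0 hy (cjm' (p.nW hb) (mul_mem hx hz)) (by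
      have := p.h.comm_mul_left hx.1 hz.1 hm.1
      rw [e, p.h.ea _ (p.h.cmE hz.1 hm.1)] at this
      rw [← conj_eq_one_iff (a := b), conjugate_commutatorElement, ← this]
      congr 1; group))
  have k5 : ∀ x ∈ W, x * x = 1 → x ∈ P ⊔ E ∨ x ∈ cj b (P ⊔ E) := fun x hx h4 => by
    obtain ⟨v', hv', y', hy', e⟩ := p.surj (fun z => ⁅z, b * y * b⁻¹⁆)
      (fun v' hv' y' hy' => p.WF hv h0 (p.wrW hv' hy') hm) (fun v1 hv1 y1 hy1 v2 hv2 y2 hy2 e =>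
        h3 _ (mul_mem hv1 hv2) _ (p.wr_mul hv1 hv2 hy1 hy2)
          (k4 _ (p.wrW hv1 hy1) _ (p.wrW hv2 hy2) e)) (p.WF hv h0 hx hm)
    have h5 := k4 x hx y' (p.wrW hv' hy') e.symm
    by_cases h6 : v' = 1
    · have h7 : y' ∈ E := p.h.memE hy'.1 (by simpa [h6] using hy'.2)
      exact .inr ((mul_mem_cancel_right (mem_cj.2 (mem_sup_right (cjm' (p.h.nE hb) h7)))).1 h5)
    · exact .inl (p.P1 hv' h6 hy' hx (ce1.2 (comm_of_sq h4 (p.eaPh h1 (p.wrP hv' hy')) (k2 b _ h5))))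
  rcases le_or_le_of_union fun x hx => k5 x (k1 _ (mul_mem hb hb) hx) (k2 _ x hx) with e | e
  · refine k3 _ (mul_mem hb hb) (fun e1 => p.h.r2 ?_) e
    rw [← p.h.cR, ← eq_zpowers_of_card_prime (p.h.cR ▸ p.h.hr) hb h2, Nat.card_zpowers]
    exact orderOf_eq_prime (by rw [pow_two, e1]) h2
  · rw [cj_mul, cj_le_cj_iff] at e
    exact k3 b hb h2 e

end PS

end Cfsg.Agent.FB
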