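import Cfsg.Agent.FB.T3

/-! Pairs of conjugates: the action of `P'` on `W`. -/

set_option autoImplicit false
set_option linter.unusedSectionVars false

namespace Cfsg.Agent.FB

open Subgroup FT H1 FA
open scoped commutatorElement

universe u

variable {G : Type u} [Group G] [Finite G] {r k : ℕ}
  {H R T Y E R' T' Y' E' J M' J' A B C D K L M U V X Z : Subgroup G}
  {a b c d e g m n s t u v w x y z v' x' y' : G}

theorem TB.k4 (h : TB r H R T Y E) : 4 ≤ (r - 1) ^ 2 := by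
  have := h.hr.two_le
  have := h.r2
  exact Nat.pow_le_pow_left (show 2 ≤ r - 1 by omega) 2

theorem TB.bound (h : TB r H R T Y E) (i : Iso R Y X) (h1 : X ≤ V) (h2 : V ≤ Y) (h3 : R ≤ 𝐍(V))
    (h4 : ¬ V ≤ X ⊔ E) (u1 : E ≤ U) (u2 : U ≤ V) (u3 : U ≤ 𝐂(U)) :
    (r - 1) ^ 2 ≤ U.relIndex V := by
  obtain ⟨w, hw, h5⟩ := SetLike.not_le_iff_exists.1 h4
  obtain ⟨t, ht, h6⟩ : ∃ t ∈ X, ⁅t, w⁆ ≠ 1 := by
    by_contra! k
    exact h5 (h.iso_cent i ⟨h2 hw, mem_cent_iff.2 fun t ht => ce1.1 (k t ht)⟩)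
  letI : CommGroup E := { (inferInstance : Group E) with
    mul_comm := fun x y => Subtype.ext (h.ey y.2 (h.EY x.2)) }
  haveI : NeZero (Monoid.exponent E) := ⟨Monoid.exponent_ne_zero_of_finite⟩
  obtain ⟨χ, h7⟩ := CommGroup.exists_apply_ne_one_of_hasEnoughRootsOfUnity E ℂ
    (a := ⟨_, h.cmE (i.le ht) (h2 hw)⟩) (fun e => h6 (congrArg Subtype.val e))
  classical
  let f : G → G → ℂˣ := fun a x => if k : ⁅a, x⁆ ∈ E then χ ⟨_, k⟩ else 1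
  have f1 : ∀ {a x} (ha : a ∈ Y) (hx : x ∈ Y), f a x = χ ⟨_, h.cmE ha hx⟩ := fun ha hx =>
    dif_pos (h.cmE ha hx)
  have f2 : ∀ a ∈ Y, ∀ x ∈ Y, ∀ y ∈ Y, f a (x * y) = f a x * f a y := fun a ha x hx y hy => by
    rw [f1 ha hx, f1 ha hy, f1 ha (mul_mem hx hy), ← map_mul]
    exact congrArg χ (Subtype.ext (h.comm_mul_right ha hx hy))
  have f3 : ∀ a ∈ Y, ∀ b ∈ Y, ∀ y ∈ Y, f (a * b) y = f a y * f b y := fun a ha x hx y hy => by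
    rw [f1 ha hy, f1 hx hy, f1 (mul_mem ha hx) hy, ← map_mul]
    exact congrArg χ (Subtype.ext (h.comm_mul_left ha hx hy))
  have f4 : ∀ a ∈ Y, ∀ x ∈ Y, ⁅a, x⁆ = 1 → f a x = 1 := fun a ha x hx e => by
    rw [f1 ha hx, ← map_one χ]; exact congrArg χ (Subtype.ext e)
  have f5 : ∀ a ∈ Y, ∀ x ∈ Y, f a⁻¹ x = f a x := fun a ha x hx => by
    rw [f1 ha hx, f1 (inv_mem ha) hx]; exact congrArg χ (Subtype.ext (h.comm_inv_left ha hx))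
  let B : Subgroup G :=
    { carrier := {a | a ∈ Y ∧ ∀ x ∈ V, f a x = 1}
      mul_mem' := fun {a b} ha hb => ⟨mul_mem ha.1 hb.1, fun x hx => by
        rw [f3 a ha.1 b hb.1 x (h2 hx), ha.2 x hx, hb.2 x hx, one_mul]⟩
      one_mem' := ⟨one_mem _, fun x hx => f4 _ (one_mem _) x (h2 hx) (by simp)⟩
      inv_mem' := fun {a} ha => ⟨inv_mem ha.1, fun x hx => by rw [f5 a ha.1 x (h2 hx), ha.2 x hx]⟩ }
  have b1 : R ≤ 𝐍(B) := fun b hb => mem_normalizer_of_conj_mem fun a ha =>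
    ⟨cjm (h.nY hb) ha.1, fun x hx => by
      have k := cjm' (h3 hb) hx
      rw [← ha.2 _ k, f1 ha.1 (h2 k), f1 (cjm (h.nY hb) ha.1) (h2 hx)]
      refine congrArg χ (Subtype.ext ?_)
      have e := cm (h.EC (h.cmE ha.1 (h2 k))) hb
      show ⁅b * a * b⁻¹, x⁆ = ⁅a, b⁻¹ * x * b⁆
      rw [← mul_inv_eq_iff_eq_mul.2 e, conjugate_commutatorElement]; congr 1; group⟩
  have b2 : ∀ a ∈ X, a ∈ B → a = 1 := fun a ha hb => by
    by_contra k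
    exact h7 ((f1 (i.le ht) (h2 hw)).symm.trans ((h.irr i b1 (fun e he => ⟨h.EY he, fun x hx =>
      f4 e (h.EY he) x (h2 hx) (h.comm_E he (h2 hx))⟩) (mem_sup_left ha) hb
        (fun k1 => k (h.iso_inf i ha k1)) ht).2 w hw))
  have n := h.nrmZ u1 (u2.trans h2)
  have key := card_le_ri (A := X ⊓ U) f (sup_le h1 u2) ((commutator_mono h2 h2).trans
    (h.der.trans (u1.trans le_sup_right)))
    (fun a ha x hx y hy => f2 a (i.le ha.1) x (h2 hx) y (h2 hy))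
    (fun a ha x hx => f4 a (i.le ha.1) x (h2 (sup_le h1 u2 hx)) (ce1.2 (cm (sup_le
      (i.ab.trans (cent_anti inf_le_left)) (u3.trans (cent_anti inf_le_right)) hx) ha)))
    fun a ha b hb e => by
      refine (inv_mul_eq_one.1 (b2 _ (mul_mem (inv_mem ha.1) hb.1)
        ⟨i.le (mul_mem (inv_mem ha.1) hb.1), fun x hx => ?_⟩))
      rw [f3 _ (i.le (inv_mem ha.1)) _ (i.le hb.1) x (h2 hx), ← e x hx,
        ← f3 _ (i.le (inv_mem ha.1)) _ (i.le ha.1) x (h2 hx), inv_mul_cancel]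
      exact f4 _ (one_mem _) x (h2 hx) (by simp)
  rw [← relIndex_mul_relIndex U (X ⊔ U) V le_sup_right (sup_le h1 u2),
    H2.relIndex_sup_of_le_normalizer (i.le.trans n), ← h.iso_card i,
    ← H2.card_inf_mul_relIndex U X, inf_comm U, mul_comm]
  exact Nat.mul_le_mul_left _ key

namespace PS

variable (p : PS r H R T Y E M J R' T' Y' E' M' J')
include p

local notation "F" => E ⊓ 𝐍(Y')
local notation "F'" => E' ⊓ 𝐍(Y)
local notation "W" => W0 Y E (E' ⊓ 𝐍(Y))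
local notation "P" => Y ⊓ 𝐂((E' ⊓ 𝐍(Y) : Subgroup G))
local notation "P'" => Y' ⊓ 𝐂((E ⊓ 𝐍(Y') : Subgroup G))

variable (hv : v ∈ E' ⊓ 𝐍(Y)) (h0 : v ≠ 1)
include hv h0

theorem aN (ha : a ∈ P') : a ∈ T ⊓ 𝐍(Y) :=
  let ⟨_, hu, h1⟩ := p.neF hv h0
  p.symm.PN hu h1 ha
theorem aW (ha : a ∈ P') : a ∈ 𝐍(W) := mem_normalizer_of_conj_mem fun x hx =>
  p.memW.2 ⟨cjm (p.aN hv h0 ha).2 hx.1, fun w hw => by
    have := cjm (p.h.NnE (p.aN hv h0 ha)) ((p.memW.1 hx).2 w hw)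
    rwa [conjugate_commutatorElement, p.h'.ey hw.1 ha.1, mul_inv_cancel_right] at this⟩
theorem a2 (ha : a ∈ P') : a * a ∈ F' :=
  ⟨p.h'.sq a ha.1, mul_mem (p.aN hv h0 ha).2 (p.aN hv h0 ha).2⟩
theorem triv (ha : a ∈ P') (h1 : ∀ x ∈ W, ⁅x, a⁆ ∈ E) : a * a = 1 := by
  have hN := p.aN hv h0 ha
  obtain ⟨s, hs⟩ := p.h.wr_ex hN
  have h2 : s ∈ W := p.memW.2 ⟨hs.1, fun w hw =>
    let ⟨_, hy⟩ := p.h.wr_ex (p.vN hw)
    (p.h.im_mem le_rfl p.h.EY (p.vN hw) hN (p.h'.ey hw.1 ha.1) hy hs).2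
      (h1 _ (inv_mem (p.wrW hw hy)))⟩
  refine p.notC (p.a2 hv h0 ha) ?_
  convert mul_mem (mul_mem (p.h.EC (mul_mem (p.h.sq s hs.1) ((p.h.wr_mod hs (inv_mem hs.1)).2
    (h1 _ (inv_mem h2))))) hs.2) hs.2 using 1
  simp only [commutatorElement_def]; group
theorem adjW (ha : a ∈ P') (hx : x ∈ W) (hy : y ∈ W) : ⁅x, y⁆ * a = a * ⁅x, y⁆ :=
  cm ha.2 (p.WF hv h0 hx hy)
theorem exists_NX (ha : a ∈ P') (h1 : ¬ ∀ x ∈ W, ⁅x, a⁆ ∈ E) :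
    ∃ X, NX R Y E W a X ((r - 1) ^ 2) := by
  have hN := p.aN hv h0 ha
  obtain ⟨Z, z1, z2, z3, z4, z5⟩ := p.h.exists_im p.WY p.nW hN
  have h6 : W ⊓ Kc E a ≤ 𝐂(Z) := fun k hk => mem_cent_iff.2 fun z hz => by
    obtain ⟨y, hy, e, he, rfl⟩ := (z4 z).1 hz
    rw [← ce1, p.h.comm_mulE (comm_mem hy.1 hN.2) he hk.1.1]
    exact p.h.adjE hy.1 hk.1.1 hN.2 (p.adjW hv h0 ha hy hk.1) ((p.h.memK hk.1.1 hN).1 hk.2)
  have h7 : Z ≤ W ⊓ Kc E a := fun z hz => by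
    obtain ⟨y, hy, e, he, rfl⟩ := (z4 z).1 hz
    have := comm_mem hy (p.aW hv h0 ha)
    exact ⟨mul_mem this (p.EW he), mul_mem ((p.h.memK this.1 hN).2 (p.h.comm_comm' this.1
      ((p.memW.1 hy).2 _ (p.a2 hv h0 ha)))) (le_Kc _ _ he)⟩
  have h8 : ∀ x ∈ W, ⁅x, a⁆ ∈ Z := fun x hx => (z4 _).2 ⟨x, hx, 1, one_mem _, (mul_one _).symm⟩
  obtain ⟨i, e1⟩ := p.h.iso_of z2 (h7.trans h6) z3 (fun k => h1 fun x hx => k (h8 x hx)) z1
  have h9 : W ⊓ Kc E a = ⁅Z, R⁆ ⊔ E := le_antisymm (fun x hx => p.h.iso_cent i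
    ⟨hx.1.1, cent_anti (le_sup_left.trans e1.le) (h6 hx)⟩) (e1.le.trans h7)
  refine ⟨_, i, le_sup_left.trans (h9.ge.trans inf_le_left), fun x hx => e1.ge (h8 x hx),
    fun x hx => ?_, ?_⟩
  · rw [← h9, ← p.h.memK hx.1 hN]; exact ⟨fun k => ⟨hx, k⟩, fun k => k.2⟩
  · rw [← p.h.iso_ri i, ← h9, inf_comm, inf_relIndex_right, ← z5, inf_comm, h9, e1]
theorem key (ha : a ∈ P') (n : NX R Y E W a X k) (hx : x ∈ W) : ⁅x, ⁅x, a⁆⁆ = 1 := by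
  have h1 := p.h.iso_sq n.iso (n.im x hx)
  have h2 : a * (x * x) * a⁻¹ = x * x := by rw [← cm ha.2 (p.sqF hv h0 hx), mul_inv_cancel_right]
  rw [← conj_mul, conj_eq_comm' a x, inv_eq_of_mul_eq_one_right h1, ← mul_assoc,
    mul_left_inj] at h2
  rw [ce1]
  calc x * ⁅x, a⁆ = ⁅x, a⁆ * ⁅x, a⁆ * x * ⁅x, a⁆ := by rw [h1, one_mul]
    _ = _ := by rw [mul_assoc, mul_assoc, ← mul_assoc _ x, h2]
theorem adj2 (ha : a ∈ P') (n : NX R Y E W a X k) (hx : x ∈ W) (hy : y ∈ W) :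
    ⁅⁅x, a⁆, y⁆ = ⁅x, ⁅y, a⁆⁆ := by
  have := p.h.adj hx.1 hy.1 (p.aN hv h0 ha).2 (p.adjW hv h0 ha hx hy)
  rw [p.h.iso_comm n.iso (n.im x hx) (n.im y hy), one_mul] at this
  rw [eq_inv_of_mul_eq_one_left this, p.h.einv (p.h.cmE hx.1 (p.h.iso_le n.iso (n.im y hy)))]
theorem common (hb : b ∈ P') (n : NX R Y E W b X k) (ha : a ∈ P') : X ≤ Kc E a := by
  have hN := p.aN hv h0 ha
  have hN' := p.aN hv h0 hb
  have l1 : X ⊔ E ≤ W := sup_le n.le p.EW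
  have h1 : a ∈ 𝐍((X ⊔ E : Subgroup G)) := mem_normalizer_of_conj_mem fun w hw => by
    refine (n.ker _ (cjm (p.aW hv h0 ha) (l1 hw))).1 ?_
    have h2 : ⁅b⁻¹, a⁻¹⁆ ∈ F' := ⟨p.h'.cmE (inv_mem hb.1) (inv_mem ha.1),
      comm_mem (inv_mem hN'.2) (le_normalizer (inv_mem hN.2))⟩
    convert cjm (p.h.NnE hN) (mul_mem ((n.ker w (l1 hw)).2 hw)
      (cjm (p.h.NnE hN') ((p.memW.1 (l1 hw)).2 _ h2))) using 1
    simp only [commutatorElement_def]; group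
  obtain ⟨x, hx, h2⟩ := p.h.iso_ex n.iso
  have l2 := (p.h.iso_le n.iso).trans p.h.YnE
  obtain ⟨z, hz, h3, h4⟩ := exists_fix (isPGroup_bar (isPGroup_of_le (p.h.iso_le n.iso) p.h.Y2) E)
    (isPGroup_bar (isPGroup_of_le (zpowers_le.2 ha.1) p.h'.Y2) E)
    (bar_le_normalizer E (zpowers_le.2 h1)) fun e => h2 ((bar_eq_bot_iff l2).1 e (mem_sup_left hx))
  obtain ⟨w, hw, rfl⟩ := (mem_bar' l2).1 hz
  exact (p.h.irr n.iso (p.h.nK hN) (le_inf p.h.EY (le_Kc _ _)) hw ⟨p.h.iso_le n.iso hw,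
    mem_unbar.2 ⟨l2 hw, mem_cent1_iff.2 (cm h3 (coset_mem_bar E (mem_zpowers a))).symm⟩⟩
    fun k => h4 (coset_eq_one k)).trans inf_le_right
theorem common' (hb : b ∈ P') (n : NX R Y E W b X k) (ha : a ∈ P') {X' : Subgroup G}
    (n' : NX R Y E W a X' k) : X' ⊔ E ≤ X ⊔ E := by
  obtain ⟨x, hx, h2⟩ := p.h.iso_ex n.iso
  exact sup_le (p.h.irr n'.iso (p.h.iso_n n.iso) le_sup_right ((n'.ker x (n.le hx)).1
    ((p.h.memK (n.iso.le hx) (p.aN hv h0 ha)).1 (p.common hv h0 hb n ha hx))) (mem_sup_left hx) h2)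
    le_sup_right
theorem small : ∃ Q ≤ P', (∀ a ∈ Q, a * a = 1) ∧ Q.relIndex P' < (r - 1) ^ 2 := by
  by_cases h1 : ∀ a ∈ P', ∀ x ∈ W, ⁅x, a⁆ ∈ E
  · exact ⟨_, le_rfl, fun a ha => p.triv hv h0 ha (h1 a ha), by
      rw [relIndex_self]; have := p.h.k4; omega⟩
  push Not at h1
  obtain ⟨b, hb, w, hw, h1⟩ := h1
  obtain ⟨X, n⟩ := p.exists_NX hv h0 hb fun k => h1 (k w hw)
  have h2 : ∀ a ∈ P', ⁅w, a⁆ ∈ (X ⊔ E) ⊓ 𝐂[w] ∧ (⁅w, a⁆ ∈ E → a * a = 1) := fun a ha => by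
    by_cases h3 : ∀ x ∈ W, ⁅x, a⁆ ∈ E
    · exact ⟨⟨mem_sup_right (h3 w hw), mem_cent1_iff.2 (p.h.ey (h3 w hw) hw.1).symm⟩,
        fun _ => p.triv hv h0 ha h3⟩
    obtain ⟨X', n'⟩ := p.exists_NX hv h0 ha h3
    have h4 := p.common' hv h0 hb n ha n'
    exact ⟨⟨h4 (n'.im w hw), mem_cent1_iff.2 (ce1.1 (p.key hv h0 ha n' hw)).symm⟩,
      fun k => (h1 ((n.ker w hw).2 (h4 ((n'.ker w hw).1 k)))).elim⟩
  have l2 := (p.h.iso_le n.iso).trans p.h.YnE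
  let f : ↥(P') →* Quo E := MonoidHom.mk' (fun a => coset E ⁅w, (a : G)⁆) fun a a' => by
    have k1 := (h2 a a.2).1.1
    have k2 := (h2 a' a'.2).1.1
    have k3 := (p.h.memK (p.h.iso_le n.iso k2) (p.aN hv h0 a.2)).1
      (sup_le (p.common hv h0 hb n a.2) (le_Kc _ _) k2)
    have : ⁅w, (a : G) * a'⁆ = ⁅w, (a : G)⁆ * (⁅⁅w, (a' : G)⁆, (a : G)⁆⁻¹ * ⁅w, (a' : G)⁆) := by
      simp only [commutatorElement_def]; group
    rw [coe_mul, this, coset_mul (l2 k1) (mul_mem (le_normalizer (inv_mem k3)) (l2 k2)),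
      coset_mul (le_normalizer (inv_mem k3)) (l2 k2), coset_eq_one (inv_mem k3), one_mul]
  refine ⟨f.ker.map (Subgroup.subtype _), map_subtype_le _, ?_, ?_⟩
  · rintro _ ⟨a, ha, rfl⟩
    exact (h2 a a.2).2 ((coset_eq_one_iff (l2 (h2 a a.2).1.1)).1 ha)
  have h3 : f.range ≤ bar E ((X ⊔ E) ⊓ 𝐂[w]) := by
    rintro _ ⟨a, rfl⟩; exact coset_mem_bar E (h2 a a.2).1
  have h4 : E ≤ (X ⊔ E) ⊓ 𝐂[w] := le_inf le_sup_right
    fun e he => mem_cent1_iff.2 (p.h.ey he hw.1).symm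
  rw [relIndex, subgroupOf, comap_map_eq_self_of_injective (subtype_injective _), index_ker,
    ← p.h.iso_ri n.iso, ← card_bar l2]
  refine (card_le_of_le' h3).trans_lt (H1.card_lt_of_lt ((bar_mono E inf_le_left).lt_of_ne fun e => ?_))
  have h5 := (bar_le_bar_iff' l2 ⟨h4, inf_le_left.trans l2⟩).1 e.ge
  exact h1 ((n.ker w hw).2 (p.h.iso_cent n.iso ⟨hw.1, mem_cent_iff.2 fun t ht =>
    mem_cent1_iff.1 (h5 (mem_sup_left ht)).2⟩))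

end PS

end Cfsg.Agent.FB
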